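import Cfsg.Agent.Lib.ZStar.Main
import Cfsg.Agent.Lib.CoprimeGen

/-!
Tools to show that a group lies in a subgroup: pairs of involutions, isolated involutions and coprime action.
-/

set_option autoImplicit false
set_option linter.style.haveILetI false

namespace CfsgPSp43Real

variable {G : Type*} [Group G]

/-- Two involutions are conjugate in the group they generate or commute with a common involution. -/
theorem invol_pair [Finite G] {x w : G} (hx : x * x = 1) (hw : w * w = 1) (H : Subgroup G) (hxH : x ∈ H)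
    (hwH : w ∈ H) : (∃ c ∈ H, c * x * c⁻¹ = w) ∨ ∃ z ∈ H, z * z = 1 ∧ z ≠ 1 ∧ Commute z x ∧ Commute z w ∧
      ∃ c ∈ H, c * x * c⁻¹ = x * z ∨ c * w * c⁻¹ = x * z := by
  obtain ⟨q, hq⟩ : ∃ q, q = x * w := ⟨_, rfl⟩
  have hqH : q ∈ H := hq ▸ mul_mem hxH hwH
  have hxi : x⁻¹ = x := inv_eq_of_mul_eq_one_right hx
  have hwi : w⁻¹ = w := inv_eq_of_mul_eq_one_right hw
  have hxq : x * q * x⁻¹ = q⁻¹ := by
    rw [hq, mul_inv_rev x w, hxi, hwi, ← mul_assoc, hx, one_mul]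
  have hsh : ∀ i : ℤ, x * q ^ i = q ^ (-i) * x := fun i => by
    rw [zpow_neg, ← inv_zpow, ← hxq, conj_zpow, inv_mul_cancel_right]
  have hconj : ∀ i : ℤ, q ^ i * x * (q ^ i)⁻¹ = q ^ (2 * i) * x := fun i => by
    rw [mul_assoc, ← zpow_neg, hsh, neg_neg, ← mul_assoc, ← zpow_add, two_mul]
  have hw' : w = q ^ (-1 : ℤ) * x := by rw [← hsh, zpow_one, hq, ← mul_assoc, hx, one_mul]
  have hper : q ^ (orderOf q : ℤ) = 1 := by rw [zpow_natCast, pow_orderOf_eq_one]
  rcases Nat.even_or_odd (orderOf q) with ⟨k, hk⟩ | ⟨m, hm⟩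
  · right
    have hk0 : 0 < k := by have := orderOf_pos q; omega
    obtain ⟨z, hz⟩ : ∃ z, z = q ^ k := ⟨_, rfl⟩
    have hzz : z * z = 1 := by rw [hz, ← pow_add, ← hk, pow_orderOf_eq_one]
    have hzi : z⁻¹ = z := inv_eq_of_mul_eq_one_right hzz
    have hzx : Commute z x := by
      refine (mul_inv_eq_iff_eq_mul.1 ?_ : x * z = z * x).symm
      rw [hz, ← conj_pow, hxq, inv_pow, ← hz, hzi]
    have hxz : x * z = q ^ (k : ℤ) * x := by rw [← hzx.eq, hz, zpow_natCast]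
    refine ⟨z, hz ▸ pow_mem hqH k, hzz, hz ▸ pow_ne_one_of_lt_orderOf hk0.ne' (by omega), hzx, ?_, ?_⟩
    · rw [show w = x * q by rw [hq, ← mul_assoc, hx, one_mul]]
      exact hzx.mul_right (hz ▸ (Commute.refl q).pow_left k)
    rcases Nat.even_or_odd k with ⟨i, hi⟩ | ⟨i, hi⟩
    · refine ⟨q ^ (i : ℤ), zpow_mem hqH _, Or.inl ?_⟩
      rw [hconj, hxz, hi]
      congr 2
      omega
    · refine ⟨q ^ ((i : ℤ) + 1), zpow_mem hqH _, Or.inr ?_⟩
      rw [hw', ← conj_mul, hconj, hxz, ← zpow_neg, ← zpow_add, ← zpow_add, ← mul_assoc, ← zpow_add, hi]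
      congr 2
      omega
  · refine Or.inl ⟨q ^ (m : ℤ), zpow_mem hqH _, ?_⟩
    rw [hconj, hw', show (2 * (m : ℤ)) = (orderOf q : ℤ) + -1 by omega, zpow_add, hper, one_mul]

/-- A class of involutions lies in a subgroup controlling the centralisers of suitable involutions. -/
theorem conj_mem_of_dihedral [Finite G] (D M : Subgroup G) {x y : G} (hxD : x ∈ D) (hx : x * x = 1)
    (hyD : y ∈ D) (hy : y * y = 1) (hCx : ∀ g ∈ D, Commute g x → g ∈ M) (hxy : ∀ g ∈ D, g * x * g⁻¹ ≠ y)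
    (hz : ∀ z ∈ M, z ∈ D → z * z = 1 → z ≠ 1 → Commute z x →
      (∃ g ∈ D, g * x * g⁻¹ = x * z ∨ g * y * g⁻¹ = x * z) → ∀ g ∈ D, Commute g z → g ∈ M) :
    ∀ g ∈ D, g * y * g⁻¹ ∈ M := by
  intro g hg
  obtain ⟨w, hw⟩ : ∃ w, w = g * y * g⁻¹ := ⟨_, rfl⟩
  rw [← hw]
  have hw2 : w * w = 1 := by rw [hw, conj_mul, hy, mul_one, mul_inv_cancel]
  have hwD : w ∈ D := hw ▸ mul_mem (mul_mem hg hyD) (inv_mem hg)
  rcases invol_pair hx hw2 D hxD hwD with ⟨c, hc, e⟩ | ⟨z, hzD, hz2, hz1, hzx, hzw, c, hc, e⟩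
  · refine absurd ?_ (hxy (g⁻¹ * c) (mul_mem (inv_mem hg) hc))
    rw [show g⁻¹ * c * x * (g⁻¹ * c)⁻¹ = g⁻¹ * (c * x * c⁻¹) * g by group, e, hw]
    group
  · refine hz z (hCx z hzD hzx) hzD hz2 hz1 hzx ?_ w hwD hzw.symm
    rcases e with e | e
    · exact ⟨c, hc, Or.inl e⟩
    · exact ⟨c * g, mul_mem hc hg, Or.inr (by rw [← e, hw]; group)⟩

/-- A conjugacy class whose closure contains a controlled element. -/
theorem le_of_class_closure (D M : Subgroup G) {y k : G} (hy : ∀ g ∈ D, g * y * g⁻¹ ∈ M)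
    (hk : k ∈ Subgroup.closure {w | ∃ g ∈ D, g * y * g⁻¹ = w}) (hctrl : ∀ g ∈ D, g * k * g⁻¹ ∈ M → g ∈ M) :
    D ≤ M := by
  intro g hg
  refine hctrl g hg ?_
  have hle : Subgroup.closure {w | ∃ g ∈ D, g * y * g⁻¹ = w} ≤ M.comap (MulAut.conj g).toMonoidHom := by
    rw [Subgroup.closure_le]
    rintro _ ⟨h, hh, rfl⟩
    show g * (h * y * h⁻¹) * g⁻¹ ∈ M
    rw [show g * (h * y * h⁻¹) * g⁻¹ = g * h * y * (g * h)⁻¹ by group]
    exact hy _ (mul_mem hg hh)
  exact hle hk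

/-- An involution without fixed points inverts a subgroup of odd order. -/
theorem inverts_of_fixfree [Finite G] {x : G} (hx : x * x = 1) (O : Subgroup G)
    (hn : ∀ o ∈ O, x * o * x ∈ O) (hfix : ∀ o ∈ O, Commute o x → o = 1) : ∀ o ∈ O, x * o * x = o⁻¹ := by
  intro o ho
  let f : O → O := fun p => p⁻¹ * ⟨x * p * x, hn p p.2⟩
  have hf : Function.Injective f := by
    intro p r e
    have e' : (p : G)⁻¹ * (x * p * x) = (r : G)⁻¹ * (x * r * x) := congrArg Subtype.val e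
    have key : (r : G) * (p : G)⁻¹ = 1 := by
      refine hfix _ (mul_mem r.2 (inv_mem p.2)) ?_
      show (r : G) * (p : G)⁻¹ * x = x * ((r : G) * (p : G)⁻¹)
      calc (r : G) * (p : G)⁻¹ * x = (r : G) * ((p : G)⁻¹ * (x * p * x)) * (x⁻¹ * (p : G)⁻¹ * x⁻¹ * x) := by group
        _ = x * r * x * (x⁻¹ * (p : G)⁻¹ * x⁻¹ * x) := by rw [e']; group
        _ = _ := by group
    exact Subtype.ext (mul_inv_eq_one.1 key).symm
  obtain ⟨p, hp⟩ := (Finite.injective_iff_surjective.1 hf) ⟨o, ho⟩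
  have hp' : (p : G)⁻¹ * (x * p * x) = o := congrArg Subtype.val hp
  have hxi : x⁻¹ = x := inv_eq_of_mul_eq_one_right hx
  rw [← hp']
  calc x * ((p : G)⁻¹ * (x * p * x)) * x = x * (p : G)⁻¹ * x * p * (x * x) := by group
    _ = x⁻¹ * (p : G)⁻¹ * x⁻¹ * p := by rw [hx, hxi, mul_one]
    _ = _ := by group

/-- The square root in a subgroup of odd order. -/
theorem odd_sqrt [Finite G] {O : Subgroup G} (hodd : Odd (Nat.card O)) {o : G} (ho : o ∈ O) :
    ∃ s ∈ O, s * s = o ∧ ∀ c : G, c * o * c⁻¹ = o⁻¹ → c * s * c⁻¹ = s⁻¹ := by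
  obtain ⟨m, hm⟩ := hodd
  refine ⟨o ^ (m + 1), pow_mem ho _, ?_, fun c hc => by rw [← conj_pow, hc, inv_pow]⟩
  have h1 : o ^ (2 * m + 1) = 1 := hm ▸ congrArg Subtype.val (pow_card_eq_one' (x := (⟨o, ho⟩ : O)))
  rw [← pow_add, show m + 1 + (m + 1) = (2 * m + 1) + 1 by omega, pow_succ, h1, one_mul]

/-- An involution isolated modulo a central 2-subgroup. -/
theorem isolated_mod [Finite G] (D W : Subgroup G) (hWD : W ≤ D) (hW2 : IsPGroup 2 W)
    (hW : ∀ w ∈ W, ∀ g ∈ D, Commute g w) {x : G} (hxD : x ∈ D) (hx : x * x = 1) (hxW : x ∉ W)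
    (hiso : ∀ g ∈ D, g * x * g⁻¹ * x * (g * x * g⁻¹)⁻¹ * x⁻¹ ∈ W → x⁻¹ * (g * x * g⁻¹) ∈ W) :
    ∃ O : Subgroup G, O ≤ D ∧ Odd (Nat.card O) ∧ (∀ g ∈ D, ∀ o ∈ O, g * o * g⁻¹ ∈ O) ∧
      ∀ g ∈ D, ∃ o ∈ O, x⁻¹ * ((o * g) * x * (o * g)⁻¹) ∈ W := by
  classical
  haveI : Fact (Nat.Prime 2) := ⟨Nat.prime_two⟩
  haveI hWn : (W.subgroupOf D).Normal := ⟨fun w hw g => by
    show (g : G) * w * (g : G)⁻¹ ∈ W
    rw [(hW w hw g g.2).eq, mul_inv_cancel_right]
    exact hw⟩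
  let π := QuotientGroup.mk' (W.subgroupOf D)
  have hone : ∀ a : D, π a = 1 ↔ (a : G) ∈ W := fun a => QuotientGroup.eq_one_iff a
  obtain ⟨xd, hxd⟩ : ∃ xd : D, (xd : G) = x := ⟨⟨x, hxD⟩, rfl⟩
  have hxne : π xd ≠ 1 := fun e => hxW (hxd ▸ (hone xd).1 e)
  have hxo : orderOf (π xd) = 2 := orderOf_eq_prime (by
    rw [pow_two, ← map_mul, show xd * xd = 1 from Subtype.ext (by
      rw [Subgroup.coe_mul, hxd]; exact hx), map_one]) hxne
  have hisol : Cfsg.IsIsolated (π xd) := by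
    intro q hq
    obtain ⟨g, rfl⟩ : ∃ g, π g = q := QuotientGroup.mk'_surjective (W.subgroupOf D) q
    have h1 : π (g * xd * g⁻¹ * xd * (g * xd * g⁻¹)⁻¹ * xd⁻¹) = 1 := by
      simp only [map_mul, map_inv]
      rw [← hq.eq]; group
    have h2 := hiso g g.2 (by
      have := (hone _).1 h1
      simpa [hxd] using this)
    have h3 : π (xd⁻¹ * (g * xd * g⁻¹)) = 1 := (hone _).2 (by simpa [hxd] using h2)
    rw [map_mul, map_inv, inv_mul_eq_one] at h3
    rw [← map_inv, ← map_mul, ← map_mul, ← h3]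
  obtain ⟨P, hP⟩ : ∃ P, P = (Cfsg.pPrimeCore 2 (D ⧸ W.subgroupOf D)).comap π := ⟨_, rfl⟩
  haveI hcore : (Cfsg.pPrimeCore 2 (D ⧸ W.subgroupOf D)).Normal := Subgroup.sSup_normal _ (fun _ h => h.1)
  have hPn : P.Normal := hP ▸ hcore.comap π
  let Z : Subgroup P := (W.subgroupOf D).subgroupOf P
  haveI : Z.Normal := hWn.comap _
  have hWP : W.subgroupOf D ≤ P := fun w hw => by
    rw [hP, Subgroup.mem_comap, (hone w).2 hw]
    exact one_mem _
  obtain ⟨a, ha⟩ := hW2.exists_card_eq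
  have hZc : Nat.card Z = 2 ^ a := by
    rw [Nat.card_congr (Subgroup.subgroupOfEquivOfLe hWP).toEquiv,
      Nat.card_congr (Subgroup.subgroupOfEquivOfLe hWD).toEquiv, ha]
  have hidx : Z.index = Nat.card (Cfsg.pPrimeCore 2 (D ⧸ W.subgroupOf D)) := by
    let f : P →* Cfsg.pPrimeCore 2 (D ⧸ W.subgroupOf D) :=
      (π.comp P.subtype).codRestrict _ fun z => by
        exact (hP.le z.2 :)
    have hf : Function.Surjective f := by
      rintro ⟨q, hq⟩
      obtain ⟨z, rfl⟩ := QuotientGroup.mk'_surjective (W.subgroupOf D) q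
      exact ⟨⟨z, hP ▸ hq⟩, rfl⟩
    have hk : f.ker = Z := by
      ext z
      rw [MonoidHom.mem_ker, Subgroup.mem_subgroupOf, Subtype.ext_iff]
      exact QuotientGroup.eq_one_iff _
    rw [← hk, Subgroup.index_ker, MonoidHom.range_eq_top.mpr hf, Subgroup.card_top]
  have hodd : Odd (Z.index) := by
    rw [hidx, Nat.odd_iff]
    have := CfsgLib.card_pPrimeCore_coprime (G := D ⧸ W.subgroupOf D) 2
    rwa [Nat.coprime_two_right, Nat.odd_iff] at this
  obtain ⟨L, hL⟩ := Subgroup.exists_right_complement'_of_coprime (N := Z) (by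
    rw [hZc]; exact Nat.Coprime.pow_left a (Nat.coprime_two_left.2 hodd))
  have hLcard : Nat.card L = Z.index := hL.symm.index_eq_card.symm
  have hchar : ∀ z : P, z ∈ L ↔ z ^ Z.index = 1 := by
    intro z
    refine ⟨fun hz => ?_, fun hz => ?_⟩
    · rw [← hLcard]
      exact congrArg Subtype.val (pow_card_eq_one' (x := (⟨z, hz⟩ : L)))
    · obtain ⟨⟨c, l⟩, rfl⟩ := hL.2 z
      have hc : Commute (c : P) (l : P) :=
        Subtype.ext (Subtype.ext (hW _ c.2 _ ((l : P) : D).2).eq.symm)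
      rw [hc.mul_pow, show ((l : P)) ^ Z.index = 1 by
        rw [← hLcard]; exact congrArg Subtype.val (pow_card_eq_one' (x := l)), mul_one] at hz
      have hc2 : (c : P) ^ 2 ^ a = 1 := by
        rw [← hZc]; exact congrArg Subtype.val (pow_card_eq_one' (x := c))
      have : (c : P) = 1 := orderOf_eq_one_iff.mp (Nat.eq_one_of_dvd_coprimes
        (Nat.Coprime.pow_left a (Nat.coprime_two_left.2 hodd)) (orderOf_dvd_of_pow_eq_one hc2)
        (orderOf_dvd_of_pow_eq_one hz))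
      show (c : P) * l ∈ L
      rw [this, one_mul]
      exact l.2
  refine ⟨(L.map P.subtype).map D.subtype, Subgroup.map_subtype_le _, ?_, ?_, fun g hg => ?_⟩
  · rw [Subgroup.card_map_of_injective D.subtype_injective, Subgroup.card_map_of_injective P.subtype_injective, hLcard]
    exact hodd
  · rintro g hg _ ⟨_, ⟨z, hz, rfl⟩, rfl⟩
    refine ⟨_, ⟨⟨⟨g, hg⟩ * (z : D) * (⟨g, hg⟩ : D)⁻¹, hPn.conj_mem _ z.2 _⟩, (hchar _).2 (Subtype.ext ?_), rfl⟩, rfl⟩
    show (⟨g, hg⟩ * (z : D) * (⟨g, hg⟩ : D)⁻¹) ^ Z.index = 1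
    rw [conj_pow, show (z : D) ^ Z.index = 1 from congrArg Subtype.val ((hchar z).1 hz), mul_one, mul_inv_cancel]
  obtain ⟨gd, hgd⟩ : ∃ gd : D, (gd : G) = g := ⟨⟨g, hg⟩, rfl⟩
  have hp : gd * xd * gd⁻¹ * xd⁻¹ ∈ P := by
    rw [hP, Subgroup.mem_comap]
    simp only [map_mul, map_inv]
    exact CfsgLib.ZStar.inZStar hxo hisol (π gd)
  obtain ⟨⟨c, l⟩, hcl⟩ := hL.2 ⟨_, hp⟩
  obtain ⟨w, hw⟩ : ∃ w, w = (((c : P) : D) : G) := ⟨_, rfl⟩
  obtain ⟨o, ho⟩ : ∃ o, o = (((l : P) : D) : G) := ⟨_, rfl⟩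
  have hwW : w ∈ W := hw ▸ c.2
  have hoO : o ∈ (L.map P.subtype).map D.subtype := ⟨_, ⟨_, l.2, rfl⟩, ho.symm⟩
  have hoD : o ∈ D := Subgroup.map_subtype_le _ hoO
  have he : g * x * g⁻¹ = w * (o * x) := by
    have := congrArg (fun p : P => (((p : D)) : G)) hcl
    simp only [Subgroup.coe_mul, Subgroup.coe_inv, hgd, hxd] at this
    rw [hw, ho, ← mul_assoc, this, inv_mul_cancel_right]
  -- the element is inverted
  have hxi : x⁻¹ = x := inv_eq_of_mul_eq_one_right hx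
  have hsq : (w * (o * x)) * (w * (o * x)) = 1 := by rw [← he, conj_mul, hx, mul_one, mul_inv_cancel]
  have hinv : x * o * x⁻¹ = o⁻¹ := by
    have hcw : Commute w (o * x) := (hW w hwW _ (mul_mem hoD hxD)).symm
    have h1 : o * (x * o * x⁻¹) = (w * w)⁻¹ := by
      refine eq_inv_of_mul_eq_one_right ?_
      calc w * w * (o * (x * o * x⁻¹)) = w * (w * (o * x)) * (o * x) := by rw [hxi]; group
        _ = w * ((o * x) * w) * (o * x) := by rw [hcw.eq]
        _ = 1 := by rw [← hsq]; group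
    have h2 : o * (x * o * x⁻¹) ∈ (L.map P.subtype).map D.subtype := by
      refine mul_mem hoO ?_
      rw [← hxd, ho]
      exact ⟨_, ⟨⟨xd * (l : P) * xd⁻¹, hPn.conj_mem _ (l : P).2 _⟩, (hchar _).2 (Subtype.ext (by
        show (xd * ((l : P) : D) * xd⁻¹) ^ Z.index = 1
        rw [conj_pow, show ((l : P) : D) ^ Z.index = 1 from congrArg Subtype.val ((hchar _).1 l.2), mul_one,
          mul_inv_cancel])), rfl⟩, rfl⟩
    obtain ⟨_, ⟨z, hz, rfl⟩, hze⟩ := h2
    have hzW : (((z : D)) : G) ∈ W := by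
      change ((z : D) : G) = _ at hze
      rw [hze, h1]; exact inv_mem (mul_mem hwW hwW)
    have hz1 : z = 1 := (Subgroup.disjoint_def.1 hL.disjoint) (show z ∈ Z from hzW) hz
    refine eq_inv_of_mul_eq_one_right ?_
    rw [← hze, hz1]; rfl
  obtain ⟨s, hs, hss, hsinv⟩ := odd_sqrt (O := (L.map P.subtype).map D.subtype) (by
    rw [Subgroup.card_map_of_injective D.subtype_injective, Subgroup.card_map_of_injective P.subtype_injective, hLcard]
    exact hodd) hoO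
  refine ⟨s⁻¹, inv_mem hs, ?_⟩
  have hsx : x * s = s⁻¹ * x := mul_inv_eq_iff_eq_mul.1 (hsinv x hinv)
  have hsD : s ∈ D := Subgroup.map_subtype_le _ hs
  have e2 : s⁻¹ * g * x * (s⁻¹ * g)⁻¹ = w * x := by
    calc s⁻¹ * g * x * (s⁻¹ * g)⁻¹ = s⁻¹ * (g * x * g⁻¹) * s := by group
      _ = s⁻¹ * w * (s * s) * (x * s) := by rw [he, ← hss]; group
      _ = w * s⁻¹ * (s * s) * (s⁻¹ * x) := by rw [(hW w hwW _ (inv_mem hsD)).eq, hsx]
      _ = _ := by group
  rw [e2, ← (hW w hwW x hxD).eq, ← mul_assoc, inv_mul_cancel, one_mul]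
  exact hwW

/-- A subgroup of odd order acted on by a four group. -/
theorem odd_le_of_four [Finite G] {a b : G} (ha : a * a = 1) (hb : b * b = 1) (hab : Commute a b) (ha1 : a ≠ 1)
    (hb1 : b ≠ 1) (hne : a ≠ b) (O M : Subgroup G) (hodd : Odd (Nat.card O))
    (hna : ∀ o ∈ O, a * o * a ∈ O) (hnb : ∀ o ∈ O, b * o * b ∈ O)
    (hM : ∀ o ∈ O, Commute o a ∨ Commute o b ∨ Commute o (a * b) → o ∈ M) : O ≤ M := by
  classical
  have hai : a⁻¹ = a := inv_eq_of_mul_eq_one_right ha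
  have hbi : b⁻¹ = b := inv_eq_of_mul_eq_one_right hb
  have hba : ∀ u : G, b * (a * u) = a * (b * u) := fun u => by rw [← mul_assoc, ← hab.eq, mul_assoc]
  have haa : ∀ u : G, a * (a * u) = u := fun u => by rw [← mul_assoc, ha, one_mul]
  have hbb : ∀ u : G, b * (b * u) = u := fun u => by rw [← mul_assoc, hb, one_mul]
  let A : Subgroup G :=
    { carrier := {g | g = 1 ∨ g = a ∨ g = b ∨ g = a * b}
      mul_mem' := by
        rintro p q (rfl | rfl | rfl | rfl) (rfl | rfl | rfl | rfl) <;>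
          simp [mul_assoc, hba, haa, ha, hb, hab.symm.eq]
      one_mem' := Or.inl rfl
      inv_mem' := by
        rintro p (rfl | rfl | rfl | rfl) <;> simp [hai, hbi, hab.symm.eq] }
  have hAmem : ∀ g, g ∈ A ↔ g = 1 ∨ g = a ∨ g = b ∨ g = a * b := fun g => Iff.rfl
  have hsq : ∀ g ∈ A, g * g = 1 := by
    intro g hg
    rcases (hAmem g).1 hg with rfl | rfl | rfl | rfl
    · exact one_mul 1
    · exact ha
    · exact hb
    · rw [mul_assoc, hba, hb, mul_one, ha]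
  haveI : IsMulCommutative A := ⟨⟨fun p q => Subtype.ext (by
    rcases (hAmem _).1 p.2 with e | e | e | e <;> rcases (hAmem _).1 q.2 with e' | e' | e' | e' <;>
      simp only [Subgroup.coe_mul, e, e'] <;> simp [mul_assoc, hba, haa, hb, hab.symm.eq])⟩⟩
  have hA2 : IsPGroup 2 A := fun g => ⟨1, Subtype.ext (by rw [pow_one, pow_two]; exact hsq _ g.2)⟩
  have hcyc : ¬ IsCyclic A := by
    intro h
    obtain ⟨⟨c, hc⟩, hgen⟩ := h.exists_generator
    have key : ∀ u ∈ A, u = 1 ∨ u = c := by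
      intro u hu
      obtain ⟨n, hn⟩ := Subgroup.mem_zpowers_iff.1 (hgen ⟨u, hu⟩)
      have hn' : c ^ n = u := congrArg Subtype.val hn
      rw [← Int.emod_add_mul_ediv n 2, zpow_add, zpow_mul, zpow_two, hsq c hc, one_zpow, mul_one] at hn'
      rcases Int.emod_two_eq_zero_or_one n with h0 | h0 <;> rw [h0] at hn'
      · left; rw [← hn', zpow_zero]
      · right; rw [← hn', zpow_one]
    refine hne ?_
    rw [(key a (Or.inr (Or.inl rfl))).resolve_left ha1, (key b (Or.inr (Or.inr (Or.inl rfl)))).resolve_left hb1]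
  have hAK : A ≤ Subgroup.normalizer (O : Set G) := by
    have key : ∀ g ∈ A, ∀ o ∈ O, g * o * g⁻¹ ∈ O := by
      intro g hg o ho
      rcases (hAmem g).1 hg with rfl | rfl | rfl | rfl
      · simpa using ho
      · rw [hai]; exact hna o ho
      · rw [hbi]; exact hnb o ho
      · rw [mul_inv_rev, hai, hbi, show a * b * o * (b * a) = a * (b * o * b) * a by group]
        exact hna _ (hnb o ho)
    intro g hg
    refine Subgroup.mem_normalizer_iff.2 fun o => ⟨key g hg o, fun h => ?_⟩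
    have := key g⁻¹ (inv_mem hg) _ h
    simpa [mul_assoc] using this
  have hcop : (Nat.card A).Coprime (Nat.card O) := by
    obtain ⟨i, hi⟩ := hA2.exists_card_eq
    rw [hi]; exact Nat.Coprime.pow_left i (Nat.coprime_two_left.2 hodd)
  rw [← CfsgLib.coprime_generated_by_centralizers hcyc hAK hcop]
  refine iSup₂_le fun c hc o ho => hM o ho.1 ?_
  have h := Subgroup.mem_centralizer_singleton_iff.1 ho.2
  rcases (hAmem c).1 hc.1 with rfl | rfl | rfl | rfl
  · exact absurd rfl hc.2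
  · exact Or.inl h
  · exact Or.inr (Or.inl h)
  · exact Or.inr (Or.inr h)

end CfsgPSp43Real
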