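import Cfsg.Agent.Lib.PSp43Real.CentQ
import Cfsg.Agent.Lib.ZStar.Main
import Cfsg.Agent.Lib.TransferApps
import Cfsg.Agent.Lib.PComplement

/-!
When the element and its inverse are its only conjugates in the elementary subgroup its subgroup is normal.
-/

set_option autoImplicit false
set_option linter.style.haveILetI false
set_option synthInstance.maxSize 4000

namespace CfsgPSp43Real

open CfsgLib.Sym9Three (V3 xv Mon Sub tr rot act rMul inR tr_mem_Sub mem_Sub)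
open scoped commutatorElement

theorem one_stab : (∀ v : V3, act 1 v = v → v ≠ 0 → v ≠ xv → v ≠ -xv → ∀ r : Fin 48, inR 1 r = true → act r v = v →
      r = 0 ∨ r = 1) ∧
    (∀ r : Fin 48, inR 1 r = true → act r xv = xv ∨ act r xv = -xv) ∧
    (∀ v : V3, vsum v = 0 → v ≠ 0 → v ≠ xv → v ≠ -xv → ∀ r : Fin 48, inR 1 r = true → act r v = v →
      r = 0 ∨ ((Finset.univ.filter fun u : V3 => act r u = u).card ≤ 3 ∧ rMul r (rMul r r) ≠ 0)) ∧
    (∀ r : Fin 48, inR 1 r = true → rMul (rMul (rMul r r) (rMul r r)) (rMul r r) = 0 ∨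
      rMul (rMul r r) (rMul r r) = 0) ∧
    (∀ u : V3, ∀ r : Fin 48, (⟨u, r⟩ : Mon) * rot 1 = rot 1 * ⟨u, r⟩ → act 1 u = u) := by decide +kernel

theorem Setup.comm_of_odd {G : Type*} [Group G] (D : Setup G) {g : G}
    (h : g * D.a * g⁻¹ = D.a ∨ g * D.a * g⁻¹ = D.a⁻¹) (ho : Odd (orderOf g)) : g ∈ D.C := by
  obtain ⟨m, hm⟩ := ho
  have h2 : Commute (g * g) D.a := by
    refine mul_inv_eq_iff_eq_mul.1 ?_
    rw [show g * g * D.a * (g * g)⁻¹ = g * (g * D.a * g⁻¹) * g⁻¹ by group]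
    rcases h with e | e
    · rw [e, e]
    · rw [e, show g * D.a⁻¹ * g⁻¹ = (g * D.a * g⁻¹)⁻¹ by group, e, inv_inv]
  have hg : g = (g * g) ^ (m + 1) := by
    rw [← pow_two, ← pow_mul, show 2 * (m + 1) = orderOf g + 1 by omega, pow_succ, pow_orderOf_eq_one, one_mul]
  rw [D.mem_C, hg]
  exact (h2.pow_left _).eq

namespace Frame

universe u

variable {G : Type u} [Group G] [Finite G] (F : Frame G)

theorem one_good (hk : F.k = 1) {v : V3} (hv : v ≠ 0) (h1 : v ≠ xv) (h2 : v ≠ -xv) : F.Good v := by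
  refine F.good hv (fun r hr => ?_) (fun h => absurd (hk.symm.trans h) (by decide))
  rw [hk] at hr
  rcases one_stab.2.1 r hr with e | e <;> rw [e]
  · exact ⟨h1.symm, fun e' => h2 (by rw [e', neg_neg])⟩
  · exact ⟨h2.symm, fun e' => h1 (neg_inj.1 e').symm⟩

theorem one_conj_a_J (hk : F.k = 1) {g : G} (h : g * F.D.a * g⁻¹ ∈ F.D.J) :
    g * F.D.a * g⁻¹ = F.D.a ∨ g * F.D.a * g⁻¹ = F.D.a⁻¹ := by
  obtain ⟨r, hr, e⟩ := F.conj_a_J h
  rw [hk] at hr
  rcases one_stab.2.1 r hr with e1 | e1 <;> rw [e, e1]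
  · exact Or.inl F.el_x
  · right; rw [F.j_neg]; exact congrArg (·⁻¹) F.el_x

/-- The Sylow subgroup of the centraliser of the involution. -/
theorem one_sylow_Ct (hk : F.k = 1) : ∀ P : Subgroup G, IsPGroup 3 P →
    P ≤ Subgroup.centralizer ({F.tI} : Set G) → F.Jt ≤ P → P = F.Jt := by
  intro P hP hPt hJP
  have : Fact (Nat.Prime 3) := ⟨Nat.prime_three⟩
  have hnorm : ∀ y ∈ P, (∀ z ∈ F.Jt, y * z * y⁻¹ ∈ F.Jt) → y ∈ F.D.C := fun y hy hn => by
    refine F.D.comm_of_odd (F.one_conj_a_J hk (hn _ F.a_Jt).1) ?_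
    obtain ⟨i, hi⟩ := hP ⟨y, hy⟩
    exact (Odd.of_dvd_nat (Odd.pow (by decide : Odd 3)) (orderOf_dvd_of_pow_eq_one (congrArg Subtype.val hi : y ^ 3 ^ i = 1)))
  by_contra hne
  have hlt : F.Jt.subgroupOf P < ⊤ := by
    rw [lt_top_iff_ne_top, Ne, Subgroup.subgroupOf_eq_top]
    exact fun h => hne (le_antisymm h hJP)
  have hnil : Group.IsNilpotent P := hP.isNilpotent
  obtain ⟨y, hyn, hy⟩ := SetLike.exists_of_lt (Group.normalizerCondition_of_isNilpotent _ hlt)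
  have hyC : (y : G) ∈ F.D.C := hnorm y y.2 fun z hz =>
    (Subgroup.mem_normalizer_iff.1 hyn ⟨z, hJP hz⟩).1 hz
  obtain ⟨K, hK⟩ : ∃ K, K = P ⊓ F.D.C := ⟨_, rfl⟩
  have hle : F.Jt ≤ K := hK ▸ le_inf hJP fun z hz => F.D.J_le hz.1
  have hKp : IsPGroup 3 K := hP.to_le (hK ▸ inf_le_left)
  have hd : Nat.card K ∣ 72 := (Subgroup.card_dvd_of_le (hK ▸ le_inf inf_le_right (inf_le_left.trans hPt) :
    K ≤ F.D.C ⊓ Subgroup.centralizer ({F.tI} : Set G))).trans F.card_Ct_C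
  obtain ⟨i, hi⟩ := hKp.exists_card_eq
  rw [hi] at hd
  have hi2 : i ≤ 2 := by
    by_contra h
    exact absurd ((pow_dvd_pow 3 (show 3 ≤ i by omega)).trans hd) (by norm_num)
  have hKJ : F.Jt = K := Subgroup.eq_of_le_of_card_ge hle (by
    rw [hi, F.card_Jt, show 9 = 3 ^ 2 from rfl]; exact Nat.pow_le_pow_right (by norm_num) hi2)
  exact hy (Subgroup.mem_subgroupOf.2 (hKJ.symm ▸ hK.symm ▸ ⟨y.2, hyC⟩ : (y : G) ∈ F.Jt))

theorem card_C_dvd : Nat.card F.D.C ∣ 648 := by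
  rw [← F.D.π.ker.card_mul_index, F.D.kerCard, Subgroup.index_ker, show (648 : ℕ) = 27 * 24 from rfl]
  exact mul_dvd_mul_left 27 (dvd_trans (Subgroup.card_subgroup_dvd_card _) (dvd_of_eq (by
    rw [Nat.card_eq_fintype_card]; decide +kernel)))

theorem one_order (hk : F.k = 1) {g : G} {v : V3} (hv : v ≠ 0) (hg : Commute g (F.j v)) :
    orderOf g ∣ 648 := by
  have hC : ∀ {y : G}, y ∈ F.D.C → orderOf y ∣ 648 := fun hy =>
    (Subgroup.orderOf_dvd_natCard _ hy).trans F.card_C_dvd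
  by_cases h1 : v = xv
  · subst h1; exact hC (F.D.mem_C.2 (by rw [← F.el_x]; exact hg.eq))
  by_cases h2 : v = -xv
  · subst h2
    rw [F.j_neg] at hg
    exact hC (F.D.mem_C.2 (by rw [← F.el_x]; exact (Commute.inv_right_iff.1 hg).eq))
  obtain ⟨m, hm, rfl⟩ := (F.mem_N g).1 (F.one_good hk hv h1 h2 g hg)
  have hr : inR 1 m.g = true := by have := mem_Sub.1 hm; rwa [hk] at this
  have hmul : ∀ a : ℕ, F.el (m ^ a) = F.el m ^ a := fun a => by
    induction a with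
    | zero => rw [pow_zero, pow_zero, F.el_one]
    | succ a ih => rw [pow_succ, pow_succ, F.el_mul _ (pow_mem hm a) _ hm, ih]
  have hcube : ∀ a : ℕ, (m ^ a).g = 0 → F.el m ^ (a * 3) = 1 := fun a ha => by
    rw [pow_mul, ← hmul]
    obtain ⟨w, hw⟩ : ∃ w, m ^ a = tr w := ⟨(m ^ a).v, by rw [tr, ← ha]⟩
    rw [hw]; exact F.j_cube w
  rcases one_stab.2.2.2.1 m.g hr with e | e
  · refine (orderOf_dvd_of_pow_eq_one (hcube 6 ?_)).trans (by norm_num)
    rw [show m ^ 6 = m * m * (m * m) * (m * m) by simp [pow_succ, mul_assoc]]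
    simpa [Mon.mul_def] using e
  · refine (orderOf_dvd_of_pow_eq_one (hcube 4 ?_)).trans (by norm_num)
    rw [show m ^ 4 = m * m * (m * m) by simp [pow_succ, mul_assoc]]
    simpa [Mon.mul_def] using e

/-- The centraliser of the quaternion group normalises the subgroup of the element. -/
theorem one_cent_Qt (hk : F.k = 1) {h : G} (hh : h ∈ Subgroup.centralizer (F.Qt : Set G)) :
    h * F.D.a * h⁻¹ = F.D.a ∨ h * F.D.a * h⁻¹ = F.D.a⁻¹ := by
  classical
  obtain ⟨M, hM3, hMle, hMnorm, hMa, hMconj⟩ := F.cent_Qt_struct (F.one_sylow_Ct hk) fun g _ v _ hv0 hg => by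
    have := F.one_order hk hv0 hg
    exact ⟨fun h => absurd (h.trans this) (by norm_num), fun h => absurd (h.trans this) (by norm_num)⟩
  obtain ⟨Ct, hCt⟩ : ∃ Ct, Ct = Subgroup.centralizer ({F.tI} : Set G) := ⟨_, rfl⟩
  obtain ⟨T, hTdef⟩ : ∃ T, T = (F.Jt.subgroupOf (Subgroup.centralizer ({F.tI} : Set G))).map F.mkI := ⟨_, rfl⟩
  have hTA : IsMulCommutative T := ⟨⟨fun x y => by
    have hx := x.2
    have hy := y.2
    simp only [hTdef] at hx hy
    obtain ⟨u, hu, hue⟩ := hx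
    obtain ⟨w, hw, hwe⟩ := hy
    refine Subtype.ext ?_
    rw [Subgroup.coe_mul, Subgroup.coe_mul]
    rw [← hue, ← hwe, ← map_mul, ← map_mul]
    exact congrArg F.mkI (Subtype.ext (F.J_comm hu.1 hw.1))⟩⟩
  have hTcard : Nat.card T = 9 := by
    let f : ↥F.Jt →* _ := F.mkI.comp (Subgroup.inclusion F.Jt_le_Ct)
    have hf : Function.Injective f := (injective_iff_map_eq_one f).2 fun y hy => by
      have h1 : F.mkI (Subgroup.inclusion F.Jt_le_Ct y) = F.mkI 1 := by rw [map_one]; exact hy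
      have h3 : (y : G) ^ 3 = 1 := F.D.J_exp _ y.2.1
      rcases F.mkI_eq h1 with h | h
      · exact Subtype.ext h
      · exfalso
        change (y : G) = 1 * F.tI at h
        rw [one_mul] at h
        rw [h, pow_succ, pow_two, F.tI_sq, one_mul] at h3
        exact F.tI_ne h3
    rw [hTdef, show (F.Jt.subgroupOf _).map F.mkI = f.range by
      rw [MonoidHom.range_comp, Subgroup.inclusion_range], ← Nat.card_congr (MonoidHom.ofInjective hf).toEquiv, F.card_Jt]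
  have hnc : ¬ IsCyclic T := fun hcy => by
    obtain ⟨g, hg⟩ := IsCyclic.exists_ofOrder_eq_natCard (α := T)
    obtain ⟨u, hu, hue⟩ := hTdef.le g.2
    have h3 : g ^ 3 = 1 := Subtype.ext (by
      rw [Subgroup.coe_pow, ← hue, ← map_pow, show u ^ 3 = 1 from Subtype.ext (F.D.J_exp _ hu.1), map_one]; rfl)
    have := Nat.le_of_dvd (by norm_num) (orderOf_dvd_of_pow_eq_one h3)
    omega
  have hJN : ∀ u : ↥(Subgroup.centralizer ({F.tI} : Set G)), (u : G) ∈ F.Jt →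
      (u : G) ∈ Subgroup.normalizer (F.Qt : Set G) := fun u hu =>
    F.norm_Qt (Subgroup.mem_centralizer_singleton_iff.1 u.2)
      (Or.inl (mul_inv_eq_iff_eq_mul.2 (F.D.mem_C.1 (F.D.J_le hu.1))))
  have hTM : T ≤ Subgroup.normalizer (M : Set _) := by
    rw [hTdef]
    rintro _ ⟨u, hu, rfl⟩
    exact hMnorm u (hJN u hu)
  have hfix : ∀ x ∈ T, x ≠ 1 → M ⊓ Subgroup.centralizer {x} = ⊥ := by
    intro x hx hx1
    rw [eq_bot_iff]
    rintro y ⟨hyM, hyc⟩
    rw [Subgroup.mem_bot]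
    rw [hTdef] at hx
    obtain ⟨u, hu, rfl⟩ := hx
    obtain ⟨v, hv, hvu⟩ := F.mem_Jt.1 (show (u : G) ∈ F.Jt from hu)
    have hv0 : v ≠ 0 := fun e0 => hx1 (by
      subst e0
      rw [show u = 1 from Subtype.ext (hvu.symm.trans F.j_zero), map_one])
    have hyc' : y * F.mkI u = F.mkI u * y := Subgroup.mem_centralizer_singleton_iff.1 hyc
    obtain ⟨g, rfl⟩ := QuotientGroup.mk'_surjective F.Kt y
    have hu3 : (u : G) ^ 3 = 1 := F.D.J_exp _ hu.1
    have hgu : Commute (g : G) (F.j v) := by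
      rw [hvu]
      exact mul_inv_eq_iff_eq_mul.1 (F.mkI_lift hu3 hu3 (by rw [hyc', mul_inv_cancel_right]))
    by_cases h1 : v = xv ∨ v = -xv
    · refine hMa _ hyM ⟨F.D.a, F.Jt_le_Ct F.a_Jt⟩ rfl ?_
      have hga : (g : G) * F.D.a = F.D.a * g := by
        rcases h1 with rfl | rfl
        · rw [← F.el_x]; exact hgu.eq
        · rw [F.j_neg] at hgu; rw [← F.el_x]; exact (Commute.inv_right_iff.1 hgu).eq
      rw [← map_mul, ← map_mul]
      exact congrArg F.mkI (Subtype.ext hga)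
    push Not at h1
    obtain ⟨m, hm, hme, hmv⟩ := F.exists_of_comm (F.one_good hk hv0 h1.1 h1.2 g hgu) hgu
    have hr : inR 1 m.g = true := by have := mem_Sub.1 hm; rwa [hk] at this
    have hfixu : act 1 m.v = m.v := one_stab.2.2.2.2 m.v m.g (by
      refine F.el_inj _ (mul_mem hm F.rot_one_mem) _ (mul_mem F.rot_one_mem hm) ?_
      rw [F.el_mul _ hm _ F.rot_one_mem, F.el_mul _ F.rot_one_mem _ hm, hme]
      exact Subgroup.mem_centralizer_singleton_iff.1 g.2)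
    have hu2 : F.j m.v ∈ Subgroup.centralizer ({F.tI} : Set G) := F.Jt_le_Ct (F.mem_Jt.2 ⟨m.v, hfixu, rfl⟩)
    have hge : F.mkI g = F.mkI ⟨F.j m.v, hu2⟩ := by
      rcases one_stab.1 v hv hv0 h1.1 h1.2 m.g hr hmv with e | e
      · refine congrArg F.mkI (Subtype.ext ?_)
        rw [← hme]
        exact congrArg F.el (show m = tr m.v by rw [tr, ← e])
      · have e2 : (g : G) = F.j m.v * F.tI := by
          rw [← hme, tI, ← F.el_mul _ (tr_mem_Sub _ _) _ F.rot_one_mem]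
          refine congrArg F.el ?_
          rw [← e, ← CfsgLib.Sym9Three.mon_split]
        rw [show g = ⟨F.j m.v, hu2⟩ * ⟨F.tI, Subgroup.mem_centralizer_singleton_iff.2 rfl⟩ from Subtype.ext e2,
          map_mul, show F.mkI ⟨F.tI, _⟩ = 1 from (QuotientGroup.eq_one_iff _).2 (Subgroup.mem_zpowers F.tI), mul_one]
    have h3 : (F.mkI g) ^ 3 = 1 := by
      rw [hge, ← map_pow, show (⟨F.j m.v, hu2⟩ : ↥(Subgroup.centralizer ({F.tI} : Set G))) ^ 3 = 1 from
        Subtype.ext (F.j_cube _), map_one]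
    exact orderOf_eq_one_iff.1 (Nat.eq_one_of_dvd_coprimes hM3 (Subgroup.orderOf_dvd_natCard _ hyM)
      (orderOf_dvd_of_pow_eq_one h3))
  have hMbot : M = ⊥ := by
    have := CfsgLib.coprime_generated_by_centralizers hnc hTM
      (by rw [hTcard]; exact (hM3.pow_right 2).symm)
    rw [← this, iSup₂_eq_bot]
    exact fun x hx => hfix x hx.1 hx.2
  have ht : h ∈ Subgroup.centralizer ({F.tI} : Set G) :=
    Subgroup.mem_centralizer_singleton_iff.2 (Subgroup.mem_centralizer_iff.1 hh _ F.tI_Qt).symm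
  obtain ⟨hc, hhc⟩ : ∃ hc : ↥(Subgroup.centralizer ({F.tI} : Set G)), (hc : G) = h := ⟨⟨h, ht⟩, rfl⟩
  obtain ⟨ac, hac⟩ : ∃ ac : ↥(Subgroup.centralizer ({F.tI} : Set G)), (ac : G) = F.D.a :=
    ⟨⟨_, F.Jt_le_Ct F.a_Jt⟩, rfl⟩
  have hc3 : ((hc * ac * hc⁻¹ : ↥(Subgroup.centralizer ({F.tI} : Set G))) : G) ^ 3 = 1 := by
    rw [Subgroup.coe_mul, Subgroup.coe_mul, Subgroup.coe_inv, conj_pow, hac, F.D.cube, mul_one, mul_inv_cancel]
  rcases hMconj hc (hhc.symm ▸ hh) ac hac with e | e <;> rw [hMbot, Subgroup.mem_bot] at e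
  · left
    have := F.mkI_lift (g := 1) (e := hc * ac * hc⁻¹) (e' := ac) hc3 (by rw [hac, F.D.cube])
      (by rw [map_one, one_mul, inv_one, mul_one]; exact mul_inv_eq_one.1 e)
    simpa [hhc, hac] using this
  · right
    have := F.mkI_lift (g := 1) (e := hc * ac * hc⁻¹) (e' := ac⁻¹) hc3
      (by rw [Subgroup.coe_inv, inv_pow, hac, F.D.cube, inv_one])
      (by rw [map_one, one_mul, inv_one, mul_one, map_inv]; exact eq_inv_of_mul_eq_one_left e)
    simpa [hhc, hac] using this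

/-- The normaliser of the quaternion group normalises the subgroup of the element. -/
theorem one_norm_Qt (hk : F.k = 1) {g : G} (hg : g ∈ Subgroup.normalizer (F.Qt : Set G)) :
    g * F.D.a * g⁻¹ = F.D.a ∨ g * F.D.a * g⁻¹ = F.D.a⁻¹ := by
  have haQ : ∀ q ∈ F.Qt, q * F.D.a = F.D.a * q := fun q hq => F.D.mem_C.1 hq.1
  obtain ⟨x, hx⟩ : ∃ x, x = g * F.D.a * g⁻¹ := ⟨_, rfl⟩
  have hxQ : x ∈ Subgroup.centralizer (F.Qt : Set G) := Subgroup.mem_centralizer_iff.2 fun q hq => by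
    have hq' := (Subgroup.mem_normalizer_iff.1 (inv_mem hg) q).1 hq
    rw [inv_inv] at hq'
    have h2 := (show Commute (g⁻¹ * q * g) F.D.a from haQ _ hq').conj g
    rw [show g * (g⁻¹ * q * g) * g⁻¹ = q by group, ← hx] at h2
    exact h2.eq
  have hx3 : x ^ 3 = 1 := by rw [hx, conj_pow, F.D.cube, mul_one, mul_inv_cancel]
  have hxC : x ∈ F.D.C := F.D.comm_of_odd (F.one_cent_Qt hk hxQ)
    (Odd.of_dvd_nat (by decide : Odd 3) (orderOf_dvd_of_pow_eq_one hx3))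
  rw [← hx]
  have hxne : x ≠ 1 := fun e => F.D.ne (conj_eq_one_iff.1 (hx.symm.trans e))
  rcases F.cent_Qt_C (fun q hq => Subgroup.mem_centralizer_iff.1 hxQ q hq) hxC with h | h
  · rcases F.D.Z_cases h with e | e | e
    · exact absurd e hxne
    · exact Or.inl e
    · exact Or.inr e
  · exfalso
    have ht : Commute x F.tI := (Subgroup.mem_centralizer_iff.1 hxQ _ F.tI_Qt).symm
    have h3 := F.D.R_exp (F.D.Z_le h)
    rw [ht.mul_pow, hx3, one_mul, pow_succ, pow_two, F.tI_sq, one_mul] at h3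
    exact F.tI_ne h3

/-- The elements normalising the subgroup of the element and centralising the involution. -/
def Kz : Subgroup G where
  carrier := {g | (g * F.D.a * g⁻¹ = F.D.a ∨ g * F.D.a * g⁻¹ = F.D.a⁻¹) ∧ Commute g F.tI}
  one_mem' := ⟨Or.inl (by group), Commute.one_left _⟩
  mul_mem' := by
    rintro g h ⟨hg, hgt⟩ ⟨hh, hht⟩
    refine ⟨?_, hgt.mul_left hht⟩
    rw [show g * h * F.D.a * (g * h)⁻¹ = g * (h * F.D.a * h⁻¹) * g⁻¹ by group]
    rcases hh with e | e <;> rw [e]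
    · exact hg
    · rw [show g * F.D.a⁻¹ * g⁻¹ = (g * F.D.a * g⁻¹)⁻¹ by group]
      rcases hg with e' | e' <;> rw [e']
      · exact Or.inr rfl
      · exact Or.inl (inv_inv _)
  inv_mem' := by
    rintro g ⟨hg, hgt⟩
    refine ⟨?_, hgt.inv_left⟩
    rw [inv_inv]
    rcases hg with e | e
    · left; conv_lhs => rw [← e]
      group
    · right
      have e' := congrArg (fun x => g⁻¹ * x⁻¹ * g) e
      simp only [inv_inv] at e'
      rw [← e']; group

/-- The involution is isolated. -/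
theorem one_isolated (hk : F.k = 1) : Cfsg.IsIsolated F.tI := by
  classical
  have : Fact (Nat.Prime 2) := ⟨Nat.prime_two⟩
  obtain ⟨P0⟩ := (inferInstance : Nonempty (Sylow 2 ↥F.Kz))
  have hQK : F.Qt ≤ F.Kz := fun q hq => ⟨Or.inl (mul_inv_eq_iff_eq_mul.2 (F.D.mem_C.1 hq.1)), hq.2.1⟩
  have hQn : (F.Qt.subgroupOf F.Kz).Normal :=
    Subgroup.normal_subgroupOf_iff_le_normalizer hQK |>.2 fun g hg => F.norm_Qt hg.2 hg.1
  have hQp : IsPGroup 2 (F.Qt.subgroupOf F.Kz) := fun q => ⟨3, Subtype.ext (Subtype.ext (by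
    show ((q : ↥F.Kz) : G) ^ 2 ^ 3 = 1
    exact (show ((q : ↥F.Kz) : G) ∈ F.Qt from q.2).2.2))⟩
  have hQP : F.Qt.subgroupOf F.Kz ≤ (P0 : Subgroup ↥F.Kz) :=
    (P0.is_maximal' (P0.2.to_sup_of_normal_right hQp) le_sup_left) ▸ le_sup_right
  obtain ⟨Pm, hPm⟩ : ∃ Pm, Pm = (P0 : Subgroup ↥F.Kz).map F.Kz.subtype := ⟨_, rfl⟩
  have hQPm : F.Qt ≤ Pm := fun q hq => hPm ▸ ⟨⟨q, hQK hq⟩, hQP (Subgroup.mem_subgroupOf.2 hq), rfl⟩
  have hPK : Pm ≤ F.Kz := hPm ▸ Subgroup.map_subtype_le _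
  have hPp : IsPGroup 2 Pm := hPm ▸ P0.2.map _
  obtain ⟨P, hP⟩ := hPp.exists_le_sylow
  have hi : ∃ i ∈ F.Qt, i * i = F.tI := by
    obtain ⟨A, hA⟩ := sl_neg.2.2.2.1
    obtain ⟨z, hz, hzA⟩ := F.Qt_surj (A := A) (by rw [hA, sl_neg.2.1])
    rcases F.Qt_sq hz with e | e | e
    · exfalso
      rw [show z = 1 from Subtype.ext e, map_one] at hzA
      rw [← hzA, one_mul] at hA
      exact sl_neg.1 hA.symm
    · exfalso
      rw [F.pi_tI e] at hzA
      rw [← hzA, sl_neg.2.1] at hA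
      exact sl_neg.1 hA.symm
    · exact ⟨z, hz, e⟩
  obtain ⟨i, hiQ, hii⟩ := hi
  have hsq : ∀ w ∈ Pm, w * w = F.tI → w ∈ F.Qt := by
    intro w hw h2
    obtain ⟨h1, ht⟩ := hPK hw
    have hC : w ∈ F.D.C := F.D.mem_C.2 (mul_inv_eq_iff_eq_mul.1
      (h1.resolve_right fun e => F.no_sq_tI e h2))
    refine ⟨hC, ht, ?_⟩
    rw [show (8 : ℕ) = 2 * 4 from rfl, pow_mul, pow_two, h2, show (4 : ℕ) = 2 * 2 from rfl, pow_mul, pow_two F.tI,
      F.tI_sq, one_pow]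
  have hPeq : (P : Subgroup G) = Pm := by
    refine le_antisymm ?_ hP
    by_contra hne
    have hlt : Pm.subgroupOf P < ⊤ := by
      rw [lt_top_iff_ne_top, Ne, Subgroup.subgroupOf_eq_top]; exact hne
    have hnil : Group.IsNilpotent P := P.2.isNilpotent
    obtain ⟨⟨g, hgP⟩, hgn, hg⟩ := SetLike.exists_of_lt (Group.normalizerCondition_of_isNilpotent _ hlt)
    have hgn' : ∀ z ∈ Pm, g * z * g⁻¹ ∈ Pm := fun z hz => (Subgroup.mem_normalizer_iff.1 hgn ⟨z, hP hz⟩).1 hz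
    have hgn'' : ∀ z ∈ Pm, g⁻¹ * z * g ∈ Pm := fun z hz => by
      have := (Subgroup.mem_normalizer_iff.1 (inv_mem hgn) ⟨z, hP hz⟩).1 hz
      change g⁻¹ * z * g⁻¹⁻¹ ∈ Pm at this
      rwa [inv_inv] at this
    -- the image of the involution
    have hgt : Commute g F.tI := by
      obtain ⟨s, hs⟩ : ∃ s, s = g * F.tI * g⁻¹ := ⟨_, rfl⟩
      have hsP : s ∈ Pm := hs ▸ hgn' _ (hQPm F.tI_Qt)
      have hs2 : s * s = 1 := by rw [hs, conj_mul, F.tI_sq, mul_one, mul_inv_cancel]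
      have hsc : ∀ z ∈ Pm, Commute z s := fun z hz => by
        have h2 := ((hPK (hgn'' z hz)).2).conj g
        rwa [show g * (g⁻¹ * z * g) * g⁻¹ = z by group, ← hs] at h2
      obtain ⟨h1, -⟩ := hPK hsP
      rcases h1 with e | e
      · have hsQ : s ∈ F.Qt := ⟨F.D.mem_C.2 (mul_inv_eq_iff_eq_mul.1 e), (hPK hsP).2, by
          rw [show (8 : ℕ) = 2 * 4 from rfl, pow_mul, pow_two, hs2, one_pow]⟩
        rcases F.Qt_invol hsQ hs2 with e1 | e1
        · rw [hs] at e1; exact absurd (conj_eq_one_iff.1 e1) F.tI_ne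
        · rw [hs] at e1; exact mul_inv_eq_iff_eq_mul.1 e1
      · exfalso
        refine F.no_sq_tI (y := s * i) ?_ ?_
        · rw [show s * i * F.D.a * (s * i)⁻¹ = s * (i * F.D.a * i⁻¹) * s⁻¹ by group,
            (F.D.mem_C.1 hiQ.1), mul_inv_cancel_right, e]
        · rw [(hsc i (hQPm hiQ)).mul_mul_mul_comm, hs2, hii, one_mul]
    have hQimg : ∀ g' : G, Commute g' F.tI → (∀ z ∈ Pm, g' * z * g'⁻¹ ∈ Pm) → ∀ z ∈ F.Qt, g' * z * g'⁻¹ ∈ F.Qt := by
      intro g' hg't hg'n z hz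
      rcases F.Qt_sq hz with rfl | rfl | e
      · rw [mul_one, mul_inv_cancel]; exact one_mem _
      · rw [hg't.eq, mul_inv_cancel_right]; exact F.tI_Qt
      · refine hsq _ (hg'n z (hQPm hz)) ?_
        rw [conj_mul, e, hg't.eq, mul_inv_cancel_right]
    have hgQ : g ∈ Subgroup.normalizer (F.Qt : Set G) := Subgroup.mem_normalizer_iff.2 fun z =>
      ⟨hQimg g hgt hgn' z, fun hz => by
        have := hQimg g⁻¹ hgt.inv_left (fun z hz => by rw [inv_inv]; exact hgn'' z hz) _ hz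
        rwa [inv_inv, ← mul_assoc, ← mul_assoc, inv_mul_cancel, one_mul, inv_mul_cancel_right] at this⟩
    have hgK : g ∈ F.Kz := ⟨F.one_norm_Qt hk hgQ, hgt⟩
    refine hg (Subgroup.mem_subgroupOf.2 (hPm ▸ ⟨⟨g, hgK⟩, ?_, rfl⟩ : g ∈ Pm))
    refine CfsgLib.TransferApps.mem_sylow_of_mem_normalizer P0 ?_ ?_
    · refine Subgroup.mem_normalizer_iff.2 fun z => ⟨fun hz => ?_, fun hz => ?_⟩
      · obtain ⟨w, hw, e⟩ := (hPm ▸ hgn' _ (hPm ▸ ⟨z, hz, rfl⟩ : (z : G) ∈ Pm) :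
          g * (z : G) * g⁻¹ ∈ (P0 : Subgroup ↥F.Kz).map F.Kz.subtype)
        exact (Subtype.ext e : w = ⟨g, hgK⟩ * z * ⟨g, hgK⟩⁻¹) ▸ hw
      · obtain ⟨w, hw, e⟩ := (hPm ▸ hgn'' _ (hPm ▸ ⟨_, hz, rfl⟩ : g * (z : G) * g⁻¹ ∈ Pm) :
          g⁻¹ * (g * (z : G) * g⁻¹) * g ∈ (P0 : Subgroup ↥F.Kz).map F.Kz.subtype)
        exact (Subtype.ext (e.trans (by group)) : w = z) ▸ hw
    · obtain ⟨k, hk'⟩ := P.2 ⟨g, hgP⟩
      exact ⟨k, Subtype.ext (congrArg Subtype.val hk' : g ^ 2 ^ k = 1)⟩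
  refine CfsgLib.ZStar.isolated_of_sylow P (orderOf_eq_prime (by rw [pow_two]; exact F.tI_sq) F.tI_ne)
    (hP (hQPm F.tI_Qt)) fun g hg => ?_
  obtain ⟨s, hs⟩ : ∃ s, s = g * F.tI * g⁻¹ := ⟨_, rfl⟩
  rw [← hs] at hg ⊢
  replace hg : s ∈ Pm := hPeq.le hg
  have hs2 : s * s = 1 := by rw [hs, conj_mul, F.tI_sq, mul_one, mul_inv_cancel]
  obtain ⟨h1, hst⟩ := hPK hg
  rcases h1 with e | e
  · have hsQ : s ∈ F.Qt := ⟨F.D.mem_C.2 (mul_inv_eq_iff_eq_mul.1 e), hst, by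
      rw [show (8 : ℕ) = 2 * 4 from rfl, pow_mul, pow_two, hs2, one_pow]⟩
    refine (F.Qt_invol hsQ hs2).resolve_left fun e1 => ?_
    rw [hs] at e1
    exact F.tI_ne (conj_eq_one_iff.1 e1)
  exfalso
  obtain ⟨w, hwR, hwZ, hsw⟩ := F.exists_fixed e hs2
  -- a conjugate of the elementary subgroup of order nine through the fixed element
  have : Fact (Nat.Prime 3) := ⟨Nat.prime_three⟩
  obtain ⟨w', hw'⟩ : ∃ w', w' = g⁻¹ * w * g := ⟨_, rfl⟩
  have hw't : Commute w' F.tI := by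
    have := hsw.symm.conj g⁻¹
    rw [inv_inv, ← hw', hs, show g⁻¹ * (g * F.tI * g⁻¹) * g = F.tI by group] at this
    exact this
  obtain ⟨Pt, hPt⟩ : ∃ Pt : Sylow 3 ↥(Subgroup.centralizer ({F.tI} : Set G)),
      (Pt : Subgroup ↥(Subgroup.centralizer ({F.tI} : Set G))) ≤ F.Jt.subgroupOf _ := by
    have hp : IsPGroup 3 (F.Jt.subgroupOf (Subgroup.centralizer ({F.tI} : Set G))) := IsPGroup.of_card (n := 2) (by
      rw [Nat.card_congr (Subgroup.subgroupOfEquivOfLe F.Jt_le_Ct).toEquiv, F.card_Jt]; norm_num)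
    obtain ⟨Q, hQ⟩ := hp.exists_le_sylow
    refine ⟨Q, fun x hx => ?_⟩
    have e := F.one_sylow_Ct hk _ (Q.2.map (Subgroup.subtype _)) (Subgroup.map_subtype_le _) fun g hg =>
      ⟨⟨g, F.Jt_le_Ct hg⟩, hQ hg, rfl⟩
    show (x : G) ∈ F.Jt
    rw [← e]
    exact ⟨x, hx, rfl⟩
  obtain ⟨wc, hwc⟩ : ∃ wc : ↥(Subgroup.centralizer ({F.tI} : Set G)), (wc : G) = w' :=
    ⟨⟨w', Subgroup.mem_centralizer_singleton_iff.2 hw't⟩, rfl⟩
  have hwc3 : wc ^ 3 = 1 := Subtype.ext (by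
    rw [Subgroup.coe_pow, hwc, hw', show g⁻¹ * w * g = g⁻¹ * w * g⁻¹⁻¹ by rw [inv_inv], conj_pow, F.D.R_exp hwR,
      mul_one, mul_inv_cancel]; rfl)
  obtain ⟨Q, hQ⟩ := (show IsPGroup 3 (Subgroup.zpowers wc) from by
    rintro ⟨y, n, rfl⟩
    refine ⟨1, Subtype.ext ?_⟩
    show (wc ^ n) ^ 3 ^ 1 = 1
    rw [pow_one, ← zpow_natCast, ← zpow_mul, mul_comm, zpow_mul, zpow_natCast, hwc3, one_zpow]).exists_le_sylow
  obtain ⟨m, hm⟩ := MulAction.exists_smul_eq ↥(Subgroup.centralizer ({F.tI} : Set G)) Q Pt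
  have hmw : (m : G) * w' * (m : G)⁻¹ ∈ F.Jt := by
    have : m * wc * m⁻¹ ∈ (Pt : Subgroup ↥(Subgroup.centralizer ({F.tI} : Set G))) := by
      rw [← hm, Sylow.coe_subgroup_smul, Subgroup.mem_pointwise_smul_iff_inv_smul_mem]
      simpa [MulAut.smul_def, mul_assoc] using hQ (Subgroup.mem_zpowers wc)
    have h2 := hPt this
    rw [Subgroup.mem_subgroupOf, Subgroup.coe_mul, Subgroup.coe_mul, Subgroup.coe_inv, hwc] at h2
    exact h2
  -- move it into the normaliser of the elementary subgroup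
  obtain ⟨c, hc, hcJ⟩ := F.conj_R_into_J hwR
  obtain ⟨v, hv⟩ := (F.mem_J _).1 hcJ
  have hcR : F.j v ∈ F.D.R := by
    show F.el (tr v) ∈ F.D.R
    rw [hv]; exact F.D.conj_R hc hwR
  have hvs : vsum v = 0 := (F.j_mem_R_iff v).1 hcR
  have hv' : F.j v = c * w * c⁻¹ := hv
  have hback : F.j v ∈ F.D.Z → False := fun hz => hwZ (by
    have hwe : w = c⁻¹ * F.j v * c⁻¹⁻¹ := by rw [hv']; group
    rw [hwe, F.D.comm_C (inv_mem hc) hz, mul_inv_cancel_right]
    exact hz)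
  have hv0 : v ≠ 0 := fun e0 => hback (by subst e0; rw [F.j_zero]; exact one_mem _)
  have hv1 : v ≠ xv := fun e0 => hback (by
    subst e0; rw [show F.j xv = F.D.a from F.el_x]; exact Subgroup.mem_zpowers _)
  have hv2 : v ≠ -xv := fun e0 => hback (by
    subst e0; rw [F.j_neg, show F.j xv = F.D.a from F.el_x]; exact inv_mem (Subgroup.mem_zpowers _))
  obtain ⟨b, hb⟩ : ∃ b, b = c * g * (m : G)⁻¹ := ⟨_, rfl⟩
  obtain ⟨s', hs'⟩ : ∃ s', s' = c * s * c⁻¹ := ⟨_, rfl⟩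
  have hs'v : Commute s' (F.j v) := by rw [hv', hs']; exact hsw.conj c
  obtain ⟨r, hr, hrs, hrv⟩ := F.exists_of_comm (F.one_good hk hv0 hv1 hv2 s' hs'v) hs'v
  have hr1 : inR 1 r.g = true := by have := mem_Sub.1 hr; rwa [hk] at this
  have hs'2 : s' * s' = 1 := by rw [hs', conj_mul, hs2, mul_one, mul_inv_cancel]
  rcases one_stab.2.2.1 v hvs hv0 hv1 hv2 r.g hr1 hrv with h0 | ⟨hcard, -⟩
  · have hs'J : s' ∈ F.D.J := (F.mem_J _).2 ⟨r.v, by rw [← hrs]; congr 1; rw [tr, ← h0]⟩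
    have h3 := F.D.J_exp _ hs'J
    rw [pow_succ, pow_two, hs'2, one_mul, hs', conj_eq_one_iff, hs, conj_eq_one_iff] at h3
    exact F.tI_ne h3
  have himg : ∀ y ∈ F.Jt, ∃ u, act r.g u = u ∧ F.j u = b * y * b⁻¹ := by
    intro y hy
    have hyc : Commute y ((m : G) * w' * (m : G)⁻¹) := F.J_comm hy.1 hmw.1
    have h1 : Commute (b * y * b⁻¹) (F.j v) := by
      have := hyc.conj b
      rwa [show b * ((m : G) * w' * (m : G)⁻¹) * b⁻¹ = F.j v by rw [hb, hw', hv']; group] at this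
    obtain ⟨q, hq, hqe, hqv⟩ := F.exists_of_comm (F.one_good hk hv0 hv1 hv2 _ h1) h1
    have hq1 : inR 1 q.g = true := by have := mem_Sub.1 hq; rwa [hk] at this
    have hq0 : q.g = 0 := by
      refine (one_stab.2.2.1 v hvs hv0 hv1 hv2 q.g hq1 hqv).resolve_right fun hh => hh.2 ?_
      have h3 : q * (q * q) = 1 := F.el_inj _ (mul_mem hq (mul_mem hq hq)) _ (one_mem _) (by
        rw [F.el_mul _ hq _ (mul_mem hq hq), F.el_mul _ hq _ hq, hqe, F.el_one, ← mul_assoc, ← pow_two, ← pow_succ,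
          conj_pow, F.D.J_exp _ hy.1, mul_one, mul_inv_cancel])
      exact congrArg Mon.g h3
    have hqe' : F.j q.v = b * y * b⁻¹ := by
      rw [← hqe]
      exact congrArg F.el (Mon.equivProd.injective (Prod.ext rfl hq0.symm))
    refine ⟨q.v, ?_, hqe'⟩
    have hcomm : Commute (b * y * b⁻¹) s' := by
      have hyt : Commute y F.tI := Subgroup.mem_centralizer_singleton_iff.1 hy.2
      have hmt : (m : G)⁻¹ * F.tI * (m : G)⁻¹⁻¹ = F.tI := by
        rw [(show Commute (m : G)⁻¹ F.tI from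
          (show Commute (m : G) F.tI from Subgroup.mem_centralizer_singleton_iff.1 m.2).inv_left).eq,
          mul_inv_cancel_right]
      have e1 : b * F.tI * b⁻¹ = s' := by
        rw [hb, hs', hs, show c * g * (m : G)⁻¹ * F.tI * (c * g * (m : G)⁻¹)⁻¹ =
          c * (g * ((m : G)⁻¹ * F.tI * (m : G)⁻¹⁻¹) * g⁻¹) * c⁻¹ by group, hmt]
      rw [← e1]
      exact hyt.conj b
    refine F.j_inj ?_
    rw [← F.el_conj hr, hrs, hqe', hcomm.symm.eq,
      mul_inv_cancel_right]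
  choose f hf using himg
  let fi : ↥F.Jt → {u : V3 // act r.g u = u} := fun y => ⟨f y y.2, (hf y y.2).1⟩
  have hfi : Function.Injective fi := fun y y' e => Subtype.ext (by
    have e' : F.j (f y y.2) = F.j (f y' y'.2) := congrArg F.j (congrArg Subtype.val e)
    rw [(hf y y.2).2, (hf y' y'.2).2] at e'
    exact mul_left_cancel (mul_right_cancel e'))
  have h9 := Nat.card_le_card_of_injective fi hfi
  rw [F.card_Jt, Nat.card_eq_fintype_card, Fintype.card_subtype] at h9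
  omega

/-- The subgroup of the element is normal. -/
theorem case_one (hk : F.k = 1) : Subgroup.normalizer (Subgroup.zpowers F.D.a : Set G) = ⊤ := by
  classical
  have ht2 : orderOf F.tI = 2 := orderOf_eq_prime (by rw [pow_two]; exact F.tI_sq) F.tI_ne
  obtain ⟨O, hO⟩ : ∃ O, O = Cfsg.pPrimeCore 2 G := ⟨_, rfl⟩
  have hcomm : ∀ g, F.tI * g * F.tI⁻¹ * g⁻¹ ∈ O := fun g => hO ▸ CfsgLib.ZStar.commutator_mem ht2 (F.one_isolated hk) g
  have hOn : O.Normal := hO ▸ Subgroup.sSup_normal _ (fun _ h => h.1)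
  have hOodd : Odd (Nat.card O) := by
    rw [hO]; exact Nat.coprime_two_right.1 (CfsgLib.card_pPrimeCore_coprime 2)
  have : Fact (Nat.Prime 3) := ⟨Nat.prime_three⟩
  have hodd : ∀ g ∈ O, Odd (orderOf g) := fun g hg => hOodd.of_dvd_nat (Subgroup.orderOf_dvd_natCard _ hg)
  have hOC : ∀ g ∈ O, g ∈ F.D.C → g ∈ F.D.R := by
    intro g hg hgC
    by_contra hgR
    obtain ⟨w, hw, hwπ⟩ := F.D.exists_neg (O.subgroupOf F.D.C) inferInstance (x := ⟨g, hgC⟩)
      (Subgroup.mem_subgroupOf.2 hg) (fun h => hgR ((F.D.mem_R (x := ⟨g, hgC⟩)).2 h))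
    have h2 : orderOf (F.D.π w) ∣ orderOf (w : G) := by
      rw [Subgroup.orderOf_coe]; exact orderOf_map_dvd F.D.π w
    have : Fact (Nat.Prime 2) := ⟨Nat.prime_two⟩
    rw [hwπ, orderOf_eq_prime (p := 2) (by rw [pow_two]; exact sl_neg.2.1) sl_neg.1] at h2
    exact (Nat.not_even_iff_odd.2 (hodd _ (Subgroup.mem_subgroupOf.1 hw))) (even_iff_two_dvd.2 h2)
  have hsigbot : ∀ M : Subgroup G, M.Normal → (Nat.card M).Coprime 3 → M = ⊥ := fun M hM h3 =>
    F.D.sig M h3 fun j _ => Subgroup.eq_of_le_of_card_ge (by rintro _ ⟨x, hx, rfl⟩; exact hM.conj_mem x hx j)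
      (by rw [Subgroup.card_map_of_injective (f := (MulAut.conj j).toMonoidHom) (MulAut.conj j).injective])
  have h3O : 3 ∣ Nat.card O := by
    by_contra h3
    have hb := hsigbot O hOn ((Nat.Prime.coprime_iff_not_dvd Nat.prime_three).2 h3).symm
    refine F.D.no_central (x := ⟨F.tI, F.tI_C⟩) (F.pi_tI rfl) fun y _ => ?_
    have := hcomm y
    rw [hb, Subgroup.mem_bot, mul_inv_eq_one, mul_inv_eq_iff_eq_mul] at this
    exact this
  have hRO : F.D.R ≤ O := by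
    have := hOn
    obtain ⟨u, huO, huR, hu1⟩ : ∃ u ∈ O, u ∈ F.D.R ∧ u ≠ 1 := by
      obtain ⟨x, hx⟩ := exists_prime_orderOf_dvd_card' (G := (CfsgLib.sylowInfNormal F.D.sylow O : Subgroup O)) 3
        ((CfsgLib.sylowInfNormal F.D.sylow O).dvd_card_of_dvd_card h3O)
      have hxS : ((x : O) : G) ∈ F.D.S := Subgroup.mem_subgroupOf.1 x.2
      refine ⟨_, (x : O).2, hOC _ (x : O).2 (F.D.S_le hxS), fun e => ?_⟩
      rw [← Subgroup.orderOf_coe, ← Subgroup.orderOf_coe, e, orderOf_one] at hx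
      norm_num at hx
    have hmod : ∀ v ∈ F.D.R, ∃ z ∈ F.D.Z, z * v ∈ O := fun v hv => by
      obtain ⟨z, hz, he⟩ := F.R_inverted hv
      refine ⟨z, hz, ?_⟩
      have h1 := hcomm v
      rw [F.tI_inv, he] at h1
      rwa [show z * v⁻¹ * v⁻¹ = z * v by rw [mul_assoc, ← mul_inv_rev, Setup.cube_sq (F.D.R_exp hv), inv_inv]] at h1
    obtain ⟨e, he, r, hr, her⟩ := F.D.exists_noncomm
    obtain ⟨z1, hz1, h1⟩ := hmod e he
    obtain ⟨z2, hz2, h2⟩ := hmod r hr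
    have hcO : e * r * e⁻¹ * r⁻¹ ∈ O := by
      have h3 := mul_mem (hOn.conj_mem _ h2 e) (inv_mem h2)
      rwa [show e * (z2 * r) * e⁻¹ * (z2 * r)⁻¹ = e * r * e⁻¹ * r⁻¹ by
        rw [show e * (z2 * r) = z2 * (e * r) by
          rw [← mul_assoc, F.D.comm_C (F.D.R_le he) hz2, mul_assoc],
          show z2 * (e * r) * e⁻¹ * (z2 * r)⁻¹ = z2 * (e * r * e⁻¹ * r⁻¹) * z2⁻¹ by group,
          ← F.D.comm_C (F.D.R_le (F.D.Z_le (F.D.comm_R he hr))) hz2, mul_inv_cancel_right]] at h3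
    have hZO : F.D.Z ≤ O := by
      rw [Subgroup.zpowers_le]
      rcases F.D.Z_cases (F.D.comm_R he hr) with e1 | e1 | e1
      · rw [mul_inv_eq_one, mul_inv_eq_iff_eq_mul] at e1; exact absurd e1 her
      · exact e1 ▸ hcO
      · simpa using inv_mem (e1 ▸ hcO : F.D.a⁻¹ ∈ O)
    intro v hv
    obtain ⟨z, hz, h⟩ := hmod v hv
    have := mul_mem (inv_mem (hZO hz)) h
    rwa [inv_mul_cancel_left] at this
  have hNO : ∀ g ∈ O, (g * F.D.a * g⁻¹ = F.D.a ∨ g * F.D.a * g⁻¹ = F.D.a⁻¹) → g ∈ F.D.R := fun g hg h =>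
    hOC g hg (F.D.comm_of_odd h (hodd g hg))
  -- the derived group of the odd normal subgroup meets the kernel in the centre
  have := hOn
  let SO : Sylow 3 O := CfsgLib.sylowInfNormal F.D.sylow O
  have hSO : ∀ x : O, x ∈ (SO : Subgroup O) → (x : G) ∈ F.D.R := fun x hx => by
    have hxS : (x : G) ∈ F.D.S := Subgroup.mem_subgroupOf.1 hx
    exact hOC _ x.2 (F.D.S_le hxS)
  have hZO' : F.D.Z ≤ O := F.D.Z_le.trans hRO
  obtain ⟨ZO, hZOdef⟩ : ∃ ZO, ZO = F.D.Z.subgroupOf O := ⟨_, rfl⟩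
  have hZOm : ∀ x : O, x ∈ ZO ↔ (x : G) ∈ F.D.Z := fun x => by rw [hZOdef]; exact Subgroup.mem_subgroupOf
  have hW : Cfsg.IsWeaklyClosed ZO (SO : Subgroup O) := by
    refine ⟨fun x hx => Subgroup.mem_subgroupOf.2 (F.D.R_le_S (F.D.Z_le ((hZOm x).1 hx))), fun g hg => ?_⟩
    have hmem : ((g : G) * F.D.a * (g : G)⁻¹) ∈ F.D.S :=
      Subgroup.mem_subgroupOf.1 (hg ⟨⟨F.D.a, hZO' (Subgroup.mem_zpowers _)⟩, (hZOm _).2 (Subgroup.mem_zpowers _), rfl⟩)
    have h := F.weakly_closed (Or.inr hk) hmem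
    refine Subgroup.eq_of_le_of_card_ge ?_
      (by rw [Subgroup.card_map_of_injective (f := (MulAut.conj g).toMonoidHom) (MulAut.conj g).injective])
    rintro _ ⟨x, hx, rfl⟩
    rw [hZOm]
    obtain ⟨n, hn⟩ := Subgroup.mem_zpowers_iff.1 ((hZOm x).1 hx)
    show (g : G) * x * (g : G)⁻¹ ∈ F.D.Z
    rw [← hn, ← conj_zpow]
    exact zpow_mem h n
  have hZc : ZO ≤ Subgroup.centralizer ((SO : Subgroup O) : Set O) := fun x hx =>
    Subgroup.mem_centralizer_iff.2 fun y hy => Subtype.ext (F.D.comm_C (F.D.R_le (hSO y hy)) ((hZOm x).1 hx))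
  obtain ⟨RO, hROdef⟩ : ∃ RO, RO = F.D.R.subgroupOf O := ⟨_, rfl⟩
  have hROm : ∀ x : O, x ∈ RO ↔ (x : G) ∈ F.D.R := fun x => by rw [hROdef]; exact Subgroup.mem_subgroupOf
  have hder := CfsgLib.TransferApps.commutator_inf_sylow_eq_of_control SO RO (fun x hx g hg => by
      obtain ⟨n, hn, e⟩ := CfsgLib.TransferApps.exists_normalizer_conj SO hW hZc hx hg
      refine ⟨n, (hROm n).2 (hNO _ n.2 ?_), e⟩
      have ha : (⟨F.D.a, hZO' (Subgroup.mem_zpowers _)⟩ : O) ∈ ZO := (hZOm _).2 (Subgroup.mem_zpowers _)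
      have := (hZOm _).1 ((Subgroup.mem_normalizer_iff.1 hn _).1 ha)
      rcases F.D.Z_cases this with e1 | e1 | e1
      · exact absurd (conj_eq_one_iff.1 e1) F.D.ne
      · exact Or.inl e1
      · exact Or.inr e1) fun x hx => (hROm x).2 (hSO x hx)
  obtain ⟨M, hM⟩ : ∃ M, M = (commutator O).map O.subtype := ⟨_, rfl⟩
  have hMn : M.Normal := hM ▸ ConjAct.normal_of_characteristic_of_normal
  have hMR : ∀ x ∈ M, x ∈ F.D.R → x ∈ F.D.Z := by
    intro x hx hxR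
    rw [hM] at hx
    obtain ⟨y, hy, rfl⟩ := hx
    have hyS : y ∈ (SO : Subgroup O) := Subgroup.mem_subgroupOf.2 (F.D.R_le_S hxR)
    have h2 : y ∈ ⁅RO, RO⁆ ⊓ (SO : Subgroup O) := hder ▸ ⟨hy, hyS⟩
    refine (hZOm y).1 ((?_ : ⁅RO, RO⁆ ≤ ZO) h2.1)
    rw [Subgroup.commutator_le]
    intro p hp q hq
    rw [hZOm, commutatorElement_def]
    exact F.D.comm_R ((hROm p).1 hp) ((hROm q).1 hq)
  have hSR : ∀ x ∈ O, x ∈ F.D.S → x ∈ F.D.R := fun x hx hxS => hOC x hx (F.D.S_le hxS)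
  have hMO : M ≤ O := hM ▸ Subgroup.map_subtype_le _
  haveI := hMn
  obtain ⟨SM, hSM⟩ : ∃ SM : Sylow 3 M, ∀ x : M, x ∈ (SM : Subgroup M) → (x : G) ∈ F.D.Z :=
    ⟨CfsgLib.sylowInfNormal F.D.sylow M, fun x hx => hMR x x.2 (hSR x (hMO x.2) (Subgroup.mem_subgroupOf.1 hx))⟩
  have hnc : Cfsg.HasNormalPComplement 3 M := by
    refine CfsgLib.hasNormalPComplement_of_normalizer_le_centralizer SM fun n hn =>
      Subgroup.mem_centralizer_iff.2 fun x hx => Subtype.ext ?_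
    have hxZ := hSM x hx
    rcases F.D.Z_cases hxZ with e | e | e
    · show (x : G) * n = n * x
      rw [e, one_mul, mul_one]
    all_goals
      have h' := F.D.Z_cases (hSM _ ((Subgroup.mem_normalizer_iff.1 hn x).1 hx))
      rw [Subgroup.coe_mul, Subgroup.coe_mul, Subgroup.coe_inv, e] at h'
      show (x : G) * n = n * x
      rw [e]
    · rcases h' with h' | h' | h'
      · exact absurd (conj_eq_one_iff.1 h') F.D.ne
      · exact (F.D.mem_C.1 (F.D.comm_of_odd (Or.inl h') (hodd _ (hMO n.2)))).symm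
      · exact (F.D.mem_C.1 (F.D.comm_of_odd (Or.inr h') (hodd _ (hMO n.2)))).symm
    · have hc : (n : G) ∈ F.D.C := by
        refine F.D.comm_of_odd ?_ (hodd _ (hMO n.2))
        rw [show (n : G) * F.D.a⁻¹ * (n : G)⁻¹ = ((n : G) * F.D.a * (n : G)⁻¹)⁻¹ by group] at h'
        rcases h' with h' | h' | h'
        · exact absurd (conj_eq_one_iff.1 (inv_eq_one.1 h')) F.D.ne
        · exact Or.inr (inv_eq_iff_eq_inv.1 h')
        · exact Or.inl (inv_injective h')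
      exact ((show Commute (n : G) F.D.a from F.D.mem_C.1 hc).inv_right).symm.eq
  have hK : ((Cfsg.pPrimeCore 3 M).map M.subtype) = ⊥ := by
    refine hsigbot _ ?_ ?_
    · refine ⟨fun x hx g => ?_⟩
      obtain ⟨y, hy, rfl⟩ := hx
      have hcore : (Cfsg.pPrimeCore 3 M).Normal := Subgroup.sSup_normal _ (fun _ h => h.1)
      have hK : ((Cfsg.pPrimeCore 3 M).map (MulAut.conjNormal g : MulAut M).toMonoidHom).Normal :=
        Subgroup.Normal.map hcore _ (MulAut.conjNormal g : MulAut M).surjective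
      have hle := CfsgLib.le_pPrimeCore (hN := hK) ((congrArg (Nat.Coprime · 3) (Subgroup.card_map_of_injective
        (f := (MulAut.conjNormal g : MulAut M).toMonoidHom) (MulAut.conjNormal g : MulAut M).injective)).mpr
        (CfsgLib.card_pPrimeCore_coprime 3))
      exact ⟨_, hle ⟨y, hy, rfl⟩, MulAut.conjNormal_apply g y⟩
    · rw [Subgroup.card_map_of_injective M.subtype_injective]
      exact CfsgLib.card_pPrimeCore_coprime 3
  rw [Subgroup.map_eq_bot_iff_of_injective _ M.subtype_injective] at hK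
  have hM3 : IsPGroup 3 M := by
    intro x
    obtain ⟨j, hj⟩ := CfsgLib.isPGroup_quotient_of_hasNormalPComplement hnc (x : M ⧸ Cfsg.pPrimeCore 3 M)
    refine ⟨j, ?_⟩
    rwa [← QuotientGroup.mk_pow, QuotientGroup.eq_one_iff, hK, Subgroup.mem_bot] at hj
  -- the derived group is the centre
  have hMZ : M ≤ F.D.Z := fun x hx => by
    have := SM.3 (hM3.to_subgroup ⊤) le_top
    exact hSM ⟨x, hx⟩ (this ▸ Subgroup.mem_top _)
  obtain ⟨e, he, r, hr, her⟩ := F.D.exists_noncomm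
  have hcM : e * r * e⁻¹ * r⁻¹ ∈ M := by
    rw [hM]
    exact ⟨⁅(⟨e, hRO he⟩ : O), ⟨r, hRO hr⟩⁆, Subgroup.commutator_mem_commutator trivial trivial, rfl⟩
  have hMeq : M = F.D.Z := by
    refine Subgroup.eq_of_le_of_card_ge hMZ ?_
    have hd := F.D.card_Z ▸ Subgroup.card_dvd_of_le hMZ
    rcases (Nat.dvd_prime Nat.prime_three).1 hd with h | h
    · have hb := Subgroup.card_eq_one.1 h
      rw [hb, Subgroup.mem_bot, mul_inv_eq_one, mul_inv_eq_iff_eq_mul] at hcM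
      exact absurd hcM her
    · rw [h, F.D.card_Z]
  rw [Subgroup.normalizer_eq_top_iff]
  exact (hMeq ▸ hMn : F.D.Z.Normal)

end Frame

end CfsgPSp43Real
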