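import Cfsg.Agent.Lib.PSp43Real.Conj
import Cfsg.Agent.Lib.PSp43Rec.NonReal

/-!
When the element has four conjugates in the elementary subgroup the group is the projective symplectic group.
-/

set_option autoImplicit false
set_option linter.style.haveILetI false
set_option synthInstance.maxSize 4000

namespace CfsgPSp43Real

open Equiv
open CfsgLib.Sym9Three (V3 xv Mon Sub tr rot act toR rMul inR tr_mem_Sub tr_mul mem_Sub rot_mul mon_split)

/-- The four conjugates. -/
def zv : Fin 4 → V3 := ![(1, 2, 2), (2, 1, 2), (2, 2, 1), (1, 1, 1)]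

/-- The rotation realising a permutation of the four conjugates. -/
def rOf (σ : Perm (Fin 4)) : Fin 48 :=
  ((List.finRange 48).find? fun r => inR 2 r && (List.finRange 4).all fun k => act r (zv k) == zv (σ k)).getD 0

theorem rOf_facts : (∀ σ : Perm (Fin 4), inR 2 (rOf σ) = true ∧ ∀ k, act (rOf σ) (zv k) = zv (σ k)) ∧
    rOf 1 = 0 ∧ (∀ σ τ : Perm (Fin 4), rOf (σ * τ) = rMul (rOf σ) (rOf τ)) ∧
    ∀ r : Fin 48, inR 2 r = true → ∃ σ : Perm (Fin 4), rOf σ = r := by decide +kernel

theorem zv_facts : zv 3 = xv ∧ zv 0 + zv 1 + zv 2 + zv 3 = 0 ∧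
    (∀ a b c : ZMod 3, a.val • zv 0 + b.val • zv 1 + c.val • zv 2 = 0 → a = 0 ∧ b = 0 ∧ c = 0) ∧
    ∀ v : V3, ∃ a b c : ZMod 3, a.val • zv 0 + b.val • zv 1 + c.val • zv 2 = v := by decide +kernel

theorem Setup.nat {G : Type*} [Group G] [Finite G] (D : Setup G) {x : ↥D.C}
    (h : ∀ u ∈ D.R, (x : G) * u * (x : G)⁻¹ * u⁻¹ ∈ D.Z) : D.π x = 1 := by
  by_contra hx
  let N : Subgroup ↥D.C :=
    { carrier := {z | ∀ u ∈ D.R, (z : G) * u * (z : G)⁻¹ * u⁻¹ ∈ D.Z}
      mul_mem' := by
        intro p q hp hq u hu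
        have h1 := hq u hu
        have h2 := hp _ (D.conj_R q.2 hu)
        rw [Subgroup.coe_mul, show (p : G) * q * u * ((p : G) * q)⁻¹ * u⁻¹ =
          ((p : G) * ((q : G) * u * (q : G)⁻¹) * (p : G)⁻¹ * ((q : G) * u * (q : G)⁻¹)⁻¹) *
            ((q : G) * u * (q : G)⁻¹ * u⁻¹) by group]
        exact mul_mem h2 h1
      one_mem' := fun u hu => by simp
      inv_mem' := by
        intro p hp u hu
        have hu' : (p : G)⁻¹ * u * p ∈ D.R := by
          have := D.conj_R (inv_mem p.2) hu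
          rwa [inv_inv] at this
        have h1 := inv_mem (hp _ hu')
        rw [Subgroup.coe_inv]
        simpa [mul_assoc] using h1 }
  obtain ⟨w, hw, hwπ⟩ := D.exists_neg N ⟨fun z hz g u hu => by
    have hu' : (g : G)⁻¹ * u * g ∈ D.R := by
      have := D.conj_R (inv_mem g.2) hu
      rwa [inv_inv] at this
    have h1 := hz _ hu'
    rw [Subgroup.coe_mul, Subgroup.coe_mul, Subgroup.coe_inv,
      show (g : G) * z * (g : G)⁻¹ * u * ((g : G) * z * (g : G)⁻¹)⁻¹ * u⁻¹ =
        (g : G) * ((z : G) * ((g : G)⁻¹ * u * g) * (z : G)⁻¹ * ((g : G)⁻¹ * u * g)⁻¹) * (g : G)⁻¹ by group,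
      D.comm_C g.2 h1, mul_inv_cancel_right]
    exact h1⟩ (x := x) h hx
  have hle : D.R ≤ D.Z := fun u hu => D.Z_of_sq hu (by
    have h1 := D.neg_inverts hwπ hu
    have := mul_mem (inv_mem (hw u hu)) h1
    simpa [mul_assoc] using this)
  have := Subgroup.card_le_of_le hle
  rw [D.card_R, D.card_Z] at this
  omega

namespace Frame

universe u

variable {G : Type u} [Group G] [Finite G] (F : Frame G)

omit [Finite G] in
theorem j_smul (n : ℕ) (v : V3) : F.j (n • v) = F.j v ^ n := by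
  induction n with
  | zero => rw [zero_smul, pow_zero, F.j_zero]
  | succ n ih => rw [succ_nsmul, F.j_add, ih, pow_succ]

/-- The coordinates of the second recognition. -/
theorem exists_recFrame (hk : F.k = 2) : ∃ E : CfsgPSp43Rec.Frame G, E.z 3 = F.D.a := by
  classical
  have hx : F.j (zv 3) = F.D.a := by rw [zv_facts.1]; exact F.el_x
  have hrot : ∀ σ, rot (rOf σ) ∈ Sub F.k := fun σ => by rw [hk]; exact (rOf_facts.1 σ).1
  let φ : Perm (Fin 4) →* G :=
    { toFun := fun σ => F.el (rot (rOf σ))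
      map_one' := by
        show F.el (rot (rOf 1)) = 1
        rw [rOf_facts.2.1]; exact F.el_one
      map_mul' := fun σ τ => by
        rw [rOf_facts.2.2.1]; exact (congrArg F.el (rot_mul _ _).symm).trans (F.el_mul _ (hrot σ) _ (hrot τ)) }
  have hcl : Subgroup.closure (Set.range fun k => F.j (zv k)) = F.D.J := by
    refine le_antisymm ((Subgroup.closure_le _).2 (by rintro _ ⟨k, rfl⟩; exact F.j_mem _)) fun g hg => ?_
    obtain ⟨v, rfl⟩ := (F.mem_J g).1 hg
    obtain ⟨a, b, c, rfl⟩ := zv_facts.2.2.2 v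
    show F.j _ ∈ _
    rw [F.j_add, F.j_add, F.j_smul, F.j_smul, F.j_smul]
    refine mul_mem (mul_mem (pow_mem ?_ _) (pow_mem ?_ _)) (pow_mem ?_ _) <;> exact Subgroup.subset_closure ⟨_, rfl⟩
  have hCeq : Subgroup.centralizer ({F.j (zv 3)} : Set G) = F.D.C := by rw [hx]
  let f : ↥(Subgroup.centralizer ({F.j (zv 3)} : Set G)) →* ↥F.D.C :=
    (Subgroup.subtype _).codRestrict _ fun x => hCeq ▸ x.2
  have hf : Function.Bijective f :=
    ⟨fun x y e => Subtype.ext (congrArg (fun u : ↥F.D.C => (u : G)) e), fun y => ⟨⟨y, hCeq.symm ▸ y.2⟩, rfl⟩⟩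
  refine ⟨{
    z := fun k => F.j (zv k)
    φ := φ
    π := F.D.π.comp f
    cube := fun k => F.j_cube _
    comm := fun k l => F.J_comm (F.j_mem _) (F.j_mem _)
    prod := by rw [← F.j_add, ← F.j_add, ← F.j_add, zv_facts.2.1, F.j_zero]
    conj := fun σ k => by
      show F.el (rot (rOf σ)) * F.j (zv k) * (F.el (rot (rOf σ)))⁻¹ = _
      rw [F.el_conj (hrot σ)]
      exact congrArg F.j ((rOf_facts.1 σ).2 k)
    inj := fun a b c h => zv_facts.2.2.1 a b c (F.j_inj (by
      rw [F.j_zero, F.j_add, F.j_add, F.j_smul, F.j_smul, F.j_smul]; exact h))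
    norm := fun x hx => by
      rw [hcl] at hx ⊢
      obtain ⟨m, hm, rfl⟩ := (F.mem_N x).1 hx
      obtain ⟨σ, hσ⟩ := rOf_facts.2.2.2 m.g (by have := mem_Sub.1 hm; rwa [hk] at this)
      refine ⟨F.j m.v, F.j_mem _, σ, ?_⟩
      show F.el m = F.el (tr m.v) * F.el (rot (rOf σ))
      rw [← F.el_mul _ (tr_mem_Sub _ _) _ (hrot σ), hσ, ← mon_split]
    self := fun x h => by
      rw [hcl]
      refine F.D.cent_J fun j hj => ?_
      have hle : F.D.J ≤ Subgroup.centralizer {x} := by
        rw [← hcl, Subgroup.closure_le]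
        rintro _ ⟨k, rfl⟩
        exact Subgroup.mem_centralizer_singleton_iff.2 (h k).symm.eq
      exact (Subgroup.mem_centralizer_singleton_iff.1 (hle hj)).symm
    sig := fun K hK hn => F.D.sig K hK fun j hj => by
      have hle : F.D.J ≤ Subgroup.normalizer (K : Set G) := by
        rw [← hcl, Subgroup.closure_le]
        rintro _ ⟨k, rfl⟩
        refine Subgroup.mem_normalizer_iff.2 fun x => ⟨hn k x, fun hx => ?_⟩
        have h3 := hn k _ (hn k _ hx)
        have e : F.j (zv k) * F.j (zv k) * F.j (zv k) = 1 := by rw [← pow_three', F.j_cube]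
        rwa [show F.j (zv k) * (F.j (zv k) * (F.j (zv k) * x * (F.j (zv k))⁻¹) * (F.j (zv k))⁻¹) * (F.j (zv k))⁻¹ =
          F.j (zv k) * F.j (zv k) * F.j (zv k) * x * (F.j (zv k) * F.j (zv k) * F.j (zv k))⁻¹ by group, e, one_mul,
          inv_one, mul_one] at h3
      refine le_antisymm ?_ fun x hx => ?_
      · rintro _ ⟨x, hx, rfl⟩
        exact (Subgroup.mem_normalizer_iff.1 (hle hj) x).1 hx
      · refine ⟨j⁻¹ * x * j, ?_, ?_⟩
        · have := (Subgroup.mem_normalizer_iff.1 (inv_mem (hle hj)) x).1 hx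
          rwa [inv_inv] at this
        · show j * (j⁻¹ * x * j) * j⁻¹ = x
          group
    surj := F.D.surj.comp hf.2
    kerCard := by
      rw [← F.D.kerCard, ← MonoidHom.comap_ker]
      exact Nat.card_congr
        { toFun := fun x => ⟨f x.1, x.2⟩
          invFun := fun y => ⟨(Equiv.ofBijective f hf).symm y.1, by
            rw [Subgroup.mem_comap]
            exact ((Equiv.ofBijective f hf).apply_symm_apply y.1).symm ▸ y.2⟩
          left_inv := fun x => Subtype.ext ((Equiv.ofBijective f hf).symm_apply_apply x.1)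
          right_inv := fun y => Subtype.ext ((Equiv.ofBijective f hf).apply_symm_apply y.1) }
    kerCent := fun x hx' hc => by
      have h := F.D.kerCent (f x) hx' fun y hy => by
        obtain ⟨y', rfl⟩ := hf.2 y
        rw [← map_mul, hc y' hy, map_mul]
      exact (congrArg Subgroup.zpowers hx).ge h
    nat := fun x h => F.D.nat (x := f x) fun u hu => by
      obtain ⟨y, hy, rfl⟩ := hu
      obtain ⟨y', rfl⟩ := hf.2 y
      have h2 := (Subgroup.mem_inf.1 (h y' hy)).2
      rw [Subgroup.mem_subgroupOf] at h2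
      show (x : G) * y' * (x : G)⁻¹ * (y' : G)⁻¹ ∈ Subgroup.zpowers F.D.a
      exact (congrArg Subgroup.zpowers hx).le h2 }, hx⟩

/-- The group is the projective symplectic group. -/
theorem case_two (hk : F.k = 2) : Nonempty (G ≃* Cfsg.PSp 2 CfsgLib.Heis43.K3) := by
  obtain ⟨E, hE⟩ := F.exists_recFrame hk
  refine E.iso_of_nonreal fun g hg => ?_
  rw [hE] at hg
  rcases F.real_iff.1 ⟨g, hg⟩ with h | h <;> rw [hk] at h <;> exact absurd h (by decide)

end Frame

end CfsgPSp43Real
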