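import Cfsg.Agent.Lib.PSp43Real.Conj
import Cfsg.Agent.Lib.TransferApps

/-!
When the element is the only conjugate of itself in the elementary subgroup there is a normal subgroup of index three.
-/

set_option autoImplicit false
set_option linter.style.haveILetI false

namespace CfsgPSp43Real

open scoped commutatorElement

theorem sl_comm_Q8 : ∀ A B : SL23, A * B * A⁻¹ * B⁻¹ ∈ Setup.Q8 := by
  have h : ∀ A B : SL23, A * B * A⁻¹ * B⁻¹ * (A * B * A⁻¹ * B⁻¹) * (A * B * A⁻¹ * B⁻¹ * (A * B * A⁻¹ * B⁻¹)) = 1 := by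
    decide +kernel
  exact fun A B => Setup.mem_Q8.2 (h A B)

/-- A finite commutative group of order divisible by three has a subgroup of index three. -/
theorem exists_index_three {A : Type*} [CommGroup A] [Finite A] (h : 3 ∣ Nat.card A) :
    ∃ H : Subgroup A, H.index = 3 := by
  haveI : Fact (Nat.Prime 3) := ⟨Nat.prime_three⟩
  let P : Subgroup A := (powMonoidHom 3 : A →* A).range
  have hne : 1 < P.index := by
    have hker : 3 ∣ Nat.card (powMonoidHom 3 : A →* A).ker := by
      obtain ⟨x, hx⟩ := exists_prime_orderOf_dvd_card' (G := A) 3 h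
      have := Subgroup.orderOf_dvd_natCard (powMonoidHom 3 : A →* A).ker
        (x := x) (MonoidHom.mem_ker.2 (show x ^ 3 = 1 from hx ▸ pow_orderOf_eq_one x))
      rwa [hx] at this
    have h1 := P.card_mul_index
    have h2 := (powMonoidHom 3 : A →* A).ker.card_mul_index
    rw [Subgroup.index_ker] at h2
    have hp : 0 < Nat.card P := Nat.card_pos
    have : P.index = Nat.card (powMonoidHom 3 : A →* A).ker :=
      Nat.eq_of_mul_eq_mul_left hp (by rw [h1, ← h2, mul_comm])
    have := Nat.le_of_dvd Nat.card_pos hker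
    omega
  have hq : IsPGroup 3 (A ⧸ P) := fun q => by
    obtain ⟨x, rfl⟩ := QuotientGroup.mk'_surjective P q
    exact ⟨1, by rw [pow_one, ← map_pow]; exact (QuotientGroup.eq_one_iff _).2 ⟨x, rfl⟩⟩
  obtain ⟨i, hi⟩ := hq.exists_card_eq
  rw [Subgroup.index_eq_card, hi] at hne
  obtain ⟨j, rfl⟩ : ∃ j, i = j + 1 := ⟨i - 1, by rcases i with _ | i <;> simp_all⟩
  obtain ⟨H, hH⟩ := Sylow.exists_subgroup_card_pow_prime 3 (G := A ⧸ P) (n := j) (by rw [hi]; exact Dvd.intro _ rfl)
  refine ⟨H.comap (QuotientGroup.mk' P), ?_⟩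
  rw [Subgroup.index_comap_of_surjective _ (QuotientGroup.mk'_surjective P)]
  have := H.card_mul_index
  rw [hH, hi, pow_succ] at this
  exact Nat.eq_of_mul_eq_mul_left (by positivity) this

namespace Frame

universe u

variable {G : Type u} [Group G] [Finite G] (F : Frame G)

theorem exists_index_three (hk : F.k = 0) : ∃ N : Subgroup G, N.Normal ∧ N.index = 3 := by
  haveI : Fact (Nat.Prime 3) := ⟨Nat.prime_three⟩
  have hW : Cfsg.IsWeaklyClosed F.D.Z (F.D.sylow : Subgroup G) := by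
    refine ⟨F.D.Z_le.trans F.D.R_le_S, fun g hg => ?_⟩
    have h := F.weakly_closed (Or.inl hk) (g := g) (hg ⟨F.D.a, Subgroup.mem_zpowers _, rfl⟩)
    refine Subgroup.eq_of_le_of_card_ge ?_
      (by rw [Subgroup.card_map_of_injective (f := (MulAut.conj g).toMonoidHom) (MulAut.conj g).injective])
    rintro _ ⟨z, hz, rfl⟩
    obtain ⟨n, rfl⟩ := Subgroup.mem_zpowers_iff.1 hz
    rw [map_zpow]
    exact zpow_mem h n
  have hZc : F.D.Z ≤ Subgroup.centralizer ((F.D.sylow : Subgroup G) : Set G) := fun z hz =>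
    Subgroup.mem_centralizer_iff.2 fun s hs => F.D.comm_C (F.D.S_le hs) hz
  have hN : Subgroup.normalizer (F.D.Z : Set G) ≤ F.D.C := by
    intro n hn
    rcases F.D.Z_cases ((Subgroup.mem_normalizer_iff.1 hn F.D.a).1 (Subgroup.mem_zpowers _)) with h | h | h
    · exact absurd (conj_eq_one_iff.1 h) F.D.ne
    · exact F.D.mem_C.2 (mul_inv_eq_iff_eq_mul.1 h)
    · rcases F.real_iff.1 ⟨n, h⟩ with e | e <;> rw [hk] at e <;> exact absurd e (by decide)
  have hc := CfsgLib.TransferApps.commutator_inf_sylow_eq_of_control F.D.sylow F.D.C (fun x hx g hg => by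
      obtain ⟨n, hn, e⟩ := CfsgLib.TransferApps.exists_normalizer_conj F.D.sylow hW hZc hx hg
      exact ⟨n, hN hn, e⟩) F.D.S_le
  have hj : F.D.j0 ∉ commutator G := by
    intro h
    have h2 : F.D.j0 ∈ ⁅F.D.C, F.D.C⁆ ⊓ (F.D.sylow : Subgroup G) := hc ▸ ⟨h, F.D.J_le_S F.D.j0_mem⟩
    have h3 : ⁅F.D.C, F.D.C⁆ ≤ (Setup.Q8.comap F.D.π).map F.D.C.subtype := by
      rw [Subgroup.commutator_le]
      intro p hp q hq
      refine ⟨⁅(⟨p, hp⟩ : ↥F.D.C), ⟨q, hq⟩⁆, ?_, rfl⟩
      show F.D.π _ ∈ Setup.Q8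
      rw [map_commutatorElement, commutatorElement_def]
      exact sl_comm_Q8 _ _
    obtain ⟨⟨z, hz⟩, hzQ, hze⟩ := h3 h2.1
    obtain rfl : z = F.D.j0 := hze
    have hQ := Setup.mem_Q8.1 (Subgroup.mem_comap.1 hzQ)
    change F.D.X * F.D.X * (F.D.X * F.D.X) = 1 at hQ
    rw [← mul_assoc, F.D.X_cube, one_mul] at hQ
    exact F.D.X_ne hQ
  have h3 : 3 ∣ Nat.card (G ⧸ commutator G) := by
    have ho : orderOf (QuotientGroup.mk' (commutator G) F.D.j0) = 3 := by
      refine orderOf_eq_prime (by rw [← map_pow, F.D.J_exp _ F.D.j0_mem, map_one]) fun e => hj ?_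
      exact (QuotientGroup.eq_one_iff _).1 e
    exact ho ▸ orderOf_dvd_natCard _
  obtain ⟨H, hH⟩ := CfsgPSp43Real.exists_index_three (A := Abelianization G) h3
  refine ⟨H.comap (Abelianization.of), inferInstance, ?_⟩
  rw [Subgroup.index_comap_of_surjective (f := Abelianization.of) H (QuotientGroup.mk'_surjective (commutator G)), hH]

end Frame

end CfsgPSp43Real
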