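import Cfsg.Agent.Lib.PSp43Real.Invol
import Cfsg.Agent.Lib.ThreeCC.Local
import Cfsg.Agent.Lib.CoprimeGen
import Cfsg.Agent.S3331

/-!
The centraliser of the quaternion group modulo the involution.
-/

set_option autoImplicit false
set_option linter.style.haveILetI false
set_option synthInstance.maxSize 4000

namespace CfsgPSp43Real

open CfsgLib.Sym9Three (V3 xv Mon Sub tr rot act inR tr_mem_Sub)

theorem fixed_nine : act 1 xv = xv ∧ act 1 ((0, 0, 1) : V3) = ((0, 0, 1) : V3) ∧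
    (Finset.univ.filter fun v : V3 => act 1 v = v).card = 9 := by decide +kernel

namespace Frame

universe u

variable {G : Type u} [Group G] [Finite G] (F : Frame G)

/-- The translations centralising the involution. -/
def Jt : Subgroup G := F.D.J ⊓ Subgroup.centralizer ({F.tI} : Set G)

theorem mem_Jt {g : G} : g ∈ F.Jt ↔ ∃ v, act 1 v = v ∧ F.j v = g := by
  constructor
  · rintro ⟨hJ, hc⟩
    obtain ⟨v, rfl⟩ := (F.mem_J g).1 hJ
    refine ⟨v, F.j_inj ?_, rfl⟩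
    rw [← F.tI_j, ← (show F.j v * F.tI = F.tI * F.j v from Subgroup.mem_centralizer_singleton_iff.1 hc), mul_assoc,
      F.tI_sq, mul_one]
  · rintro ⟨v, hv, rfl⟩
    refine ⟨F.j_mem v, Subgroup.mem_centralizer_singleton_iff.2 ?_⟩
    have := F.tI_j v
    rw [hv] at this
    nth_rewrite 1 [← this]
    rw [mul_assoc, F.tI_sq, mul_one]

theorem a_Jt : F.D.a ∈ F.Jt := F.mem_Jt.2 ⟨xv, fixed_nine.1, F.el_x⟩

theorem card_Jt : Nat.card F.Jt = 9 := by
  classical
  let f : {v : V3 // act 1 v = v} → F.Jt := fun v => ⟨F.j v.1, F.mem_Jt.2 ⟨v.1, v.2, rfl⟩⟩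
  have hf : Function.Bijective f := ⟨fun a b e => Subtype.ext (F.j_inj (congrArg Subtype.val e)), fun g => by
    obtain ⟨v, hv, e⟩ := F.mem_Jt.1 g.2
    exact ⟨⟨v, hv⟩, Subtype.ext e⟩⟩
  rw [← Nat.card_congr (Equiv.ofBijective f hf), Nat.card_eq_fintype_card, Fintype.card_subtype, fixed_nine.2.2]

theorem Jt_le_Ct : F.Jt ≤ Subgroup.centralizer ({F.tI} : Set G) := inf_le_right

/-- The involution inside its centraliser. -/
abbrev Kt : Subgroup ↥(Subgroup.centralizer ({F.tI} : Set G)) :=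
  (Subgroup.zpowers F.tI).subgroupOf (Subgroup.centralizer ({F.tI} : Set G))

instance Kt_normal : F.Kt.Normal := ⟨fun k hk g => by
  obtain ⟨n, hn⟩ := Subgroup.mem_zpowers_iff.1 (show (k : G) ∈ Subgroup.zpowers F.tI from hk)
  show (g : G) * k * (g : G)⁻¹ ∈ Subgroup.zpowers F.tI
  rw [← hn, ((show Commute (g : G) F.tI from Subgroup.mem_centralizer_singleton_iff.1 g.2).zpow_right n).eq,
    mul_inv_cancel_right]
  exact Subgroup.zpow_mem_zpowers _ _⟩

/-- The projection modulo the involution. -/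
abbrev mkI : ↥(Subgroup.centralizer ({F.tI} : Set G)) →* ↥(Subgroup.centralizer ({F.tI} : Set G)) ⧸ F.Kt :=
  QuotientGroup.mk' F.Kt

theorem mkI_eq {g h : ↥(Subgroup.centralizer ({F.tI} : Set G))} (e : F.mkI g = F.mkI h) :
    (g : G) = h ∨ (g : G) = h * F.tI := by
  have e' : (h : ↥(Subgroup.centralizer ({F.tI} : Set G)) ⧸ F.Kt) = g := e.symm
  have hm : ((h⁻¹ * g : ↥(Subgroup.centralizer ({F.tI} : Set G))) : G) ∈ Subgroup.zpowers F.tI :=
    (QuotientGroup.eq (s := F.Kt)).1 e'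
  obtain ⟨n, hn⟩ := Subgroup.mem_zpowers_iff.1 hm
  have h2 : F.tI ^ (2 : ℤ) = 1 := by rw [zpow_two, F.tI_sq]
  have key : (g : G) = h * F.tI ^ (n % 2) := by
    rw [← Int.emod_add_mul_ediv n 2, zpow_add, zpow_mul, h2, one_zpow, mul_one, Subgroup.coe_mul, Subgroup.coe_inv] at hn
    rw [hn]; group
  rcases Int.emod_two_eq_zero_or_one n with h0 | h0 <;> rw [h0] at key
  · left; rwa [zpow_zero, mul_one] at key
  · right; rwa [zpow_one] at key

theorem mkI_lift {g e e' : ↥(Subgroup.centralizer ({F.tI} : Set G))} (he : (e : G) ^ 3 = 1) (he' : (e' : G) ^ 3 = 1)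
    (h : F.mkI g * F.mkI e * (F.mkI g)⁻¹ = F.mkI e') : (g : G) * e * (g : G)⁻¹ = e' := by
  rw [← map_inv, ← map_mul, ← map_mul] at h
  rcases F.mkI_eq h with h1 | h1
  · exact h1
  · exfalso
    refine F.tI_ne ?_
    have h2 : ((g * e * g⁻¹ : ↥(Subgroup.centralizer ({F.tI} : Set G))) : G) ^ 3 = 1 := by
      show ((g : G) * e * (g : G)⁻¹) ^ 3 = 1
      rw [conj_pow, he, mul_one, mul_inv_cancel]
    rw [h1, (show Commute (e' : G) F.tI from Subgroup.mem_centralizer_singleton_iff.1 e'.2).mul_pow, he', one_mul,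
      pow_succ, pow_two, F.tI_sq, one_mul] at h2
    exact h2

/-- An element of the centraliser of the quaternion group centralising the element. -/
theorem cent_Qt_C {z : G} (hQ : ∀ q ∈ F.Qt, q * z = z * q) (hC : z ∈ F.D.C) :
    z ∈ F.D.Z ∨ z * F.tI ∈ F.D.Z := by
  have ht : Commute z F.tI := (hQ _ F.tI_Qt).symm
  rcases sl_invol.2.1 (F.D.π ⟨z, hC⟩) (fun B hB => by
    obtain ⟨q, hq, rfl⟩ := F.Qt_surj hB
    rw [← map_mul, ← map_mul]
    exact congrArg F.D.π (Subtype.ext (hQ q hq).symm)) with h | h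
  · exact Or.inl (F.R_tI ((F.D.mem_R (x := ⟨z, hC⟩)).2 h) ht)
  · refine Or.inr (F.R_tI ((F.D.mem_R (x := ⟨z, hC⟩ * ⟨F.tI, F.tI_C⟩)).2 ?_) (ht.mul_left (Commute.refl _)))
    rw [map_mul, h, F.pi_tI (z := ⟨F.tI, F.tI_C⟩) rfl, sl_neg.2.1]

/-- The structure of the centraliser of the quaternion group modulo the involution. -/
theorem cent_Qt_struct
    (hsyl : ∀ P : Subgroup G, IsPGroup 3 P → P ≤ Subgroup.centralizer ({F.tI} : Set G) → F.Jt ≤ P → P = F.Jt)
    (hord : ∀ g : G, Commute g F.tI → ∀ v, act 1 v = v → v ≠ 0 → Commute g (F.j v) →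
      ¬ 5 ∣ orderOf g ∧ ¬ 7 ∣ orderOf g) :
    ∃ M : Subgroup (↥(Subgroup.centralizer ({F.tI} : Set G)) ⧸ F.Kt), (Nat.card M).Coprime 3 ∧
      M ≤ ((Subgroup.centralizer (F.Qt : Set G)).subgroupOf _).map F.mkI ∧
      (∀ g : ↥(Subgroup.centralizer ({F.tI} : Set G)), (g : G) ∈ Subgroup.normalizer (F.Qt : Set G) →
        F.mkI g ∈ Subgroup.normalizer (M : Set (↥(Subgroup.centralizer ({F.tI} : Set G)) ⧸ F.Kt))) ∧
      (∀ x ∈ M, ∀ a : ↥(Subgroup.centralizer ({F.tI} : Set G)), (a : G) = F.D.a →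
        x * F.mkI a = F.mkI a * x → x = 1) ∧
      ∀ h : ↥(Subgroup.centralizer ({F.tI} : Set G)), (h : G) ∈ Subgroup.centralizer (F.Qt : Set G) →
        ∀ a : ↥(Subgroup.centralizer ({F.tI} : Set G)), (a : G) = F.D.a →
          F.mkI (h * a * h⁻¹) * (F.mkI a)⁻¹ ∈ M ∨ F.mkI (h * a * h⁻¹) * F.mkI a ∈ M := by
  classical
  have : Fact (Nat.Prime 3) := ⟨Nat.prime_three⟩
  obtain ⟨Ct, hCt⟩ : ∃ Ct, Ct = Subgroup.centralizer ({F.tI} : Set G) := ⟨_, rfl⟩
  let X := ↥(Subgroup.centralizer ({F.tI} : Set G)) ⧸ F.Kt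
  have hmk : Function.Surjective F.mkI := QuotientGroup.mk'_surjective F.Kt
  have haT : F.D.a ∈ Subgroup.centralizer ({F.tI} : Set G) := F.Jt_le_Ct F.a_Jt
  obtain ⟨ac, hac⟩ : ∃ ac : ↥(Subgroup.centralizer ({F.tI} : Set G)), (ac : G) = F.D.a := ⟨⟨_, haT⟩, rfl⟩
  have hauniq : ∀ a : ↥(Subgroup.centralizer ({F.tI} : Set G)), (a : G) = F.D.a → a = ac := fun a ha =>
    Subtype.ext (ha.trans hac.symm)
  obtain ⟨Hb, hHb⟩ : ∃ Hb : Subgroup X, Hb = ((Subgroup.centralizer (F.Qt : Set G)).subgroupOf _).map F.mkI :=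
    ⟨_, rfl⟩
  have haQ : F.D.a ∈ Subgroup.centralizer (F.Qt : Set G) := Subgroup.mem_centralizer_iff.2 fun q hq =>
    F.D.mem_C.1 hq.1
  have haH : F.mkI ac ∈ Hb := hHb ▸ ⟨ac, (show (ac : G) ∈ _ from hac.symm ▸ haQ), rfl⟩
  have hHmem : ∀ x ∈ Hb, ∃ h : ↥(Subgroup.centralizer ({F.tI} : Set G)),
      (∀ q ∈ F.Qt, q * (h : G) = h * q) ∧ F.mkI h = x := fun x hx => by
    rw [hHb] at hx
    obtain ⟨h, hh, rfl⟩ := hx
    exact ⟨h, fun q hq => Subgroup.mem_centralizer_iff.1 (show (h : G) ∈ _ from hh) q hq, rfl⟩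
  have hac3 : (ac : G) ^ 3 = 1 := by rw [hac, F.D.cube]
  obtain ⟨ab, hab⟩ : ∃ ab : ↥Hb, ab = ⟨F.mkI ac, haH⟩ := ⟨_, rfl⟩
  have habv : (ab : X) = F.mkI ac := by rw [hab]
  have hab3 : ab ^ 3 = 1 := Subtype.ext (by
    rw [Subgroup.coe_pow, habv, ← map_pow, show ac ^ 3 = 1 from Subtype.ext hac3, map_one]; rfl)
  have hab1 : ab ≠ 1 := fun e => by
    have h1 : F.mkI ac = F.mkI 1 := by rw [map_one, ← habv, e]; rfl
    rcases F.mkI_eq h1 with h | h <;> rw [hac, Subgroup.coe_one] at h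
    · exact F.D.ne h
    · rw [one_mul] at h
      have h3 := F.D.cube
      rw [h, pow_succ, pow_two, F.tI_sq, one_mul] at h3
      exact F.tI_ne h3
  have habo : orderOf ab = 3 := orderOf_eq_prime hab3 hab1
  -- the element is self-centralising
  have hself : ∀ x : ↥Hb, x * ab = ab * x → x ∈ Subgroup.zpowers ab := by
    intro x hx
    obtain ⟨h, hh, he⟩ := hHmem x x.2
    have hx' : F.mkI h * F.mkI ac * (F.mkI h)⁻¹ = F.mkI ac := by
      rw [he, ← habv, ← Subgroup.coe_mul, hx, Subgroup.coe_mul, mul_inv_cancel_right]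
    have hC : (h : G) ∈ F.D.C := F.D.mem_C.2 (mul_inv_eq_iff_eq_mul.1 (by
      rw [← hac]; exact F.mkI_lift hac3 hac3 hx'))
    have key : ∀ z : ↥(Subgroup.centralizer ({F.tI} : Set G)), (z : G) ∈ F.D.Z →
        ∃ n : ℤ, F.mkI z = (ab : X) ^ n := fun z hz => by
      obtain ⟨n, hn⟩ := Subgroup.mem_zpowers_iff.1 hz
      refine ⟨n, ?_⟩
      rw [habv, ← map_zpow]
      exact congrArg F.mkI (Subtype.ext (by rw [Subgroup.coe_zpow, hac, hn]))
    rcases F.cent_Qt_C hh hC with h1 | h1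
    · obtain ⟨n, hn⟩ := key h h1
      exact Subgroup.mem_zpowers_iff.2 ⟨n, Subtype.ext (by rw [Subgroup.coe_zpow, ← hn, he])⟩
    · obtain ⟨n, hn⟩ := key (h * ⟨F.tI, Subgroup.mem_centralizer_singleton_iff.2 rfl⟩) h1
      refine Subgroup.mem_zpowers_iff.2 ⟨n, Subtype.ext ?_⟩
      rw [Subgroup.coe_zpow, ← hn, map_mul, he,
        show F.mkI ⟨F.tI, _⟩ = 1 from (QuotientGroup.eq_one_iff _).2 (Subgroup.mem_zpowers F.tI), mul_one]
  have hXc : Subgroup.centralizer ((Subgroup.zpowers ab : Subgroup ↥Hb) : Set ↥Hb) = Subgroup.zpowers ab :=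
    le_antisymm (fun x hx => hself x ((Subgroup.mem_centralizer_iff.1 hx) ab (Subgroup.mem_zpowers ab)).symm)
      (Subgroup.le_centralizer _)
  -- the Sylow subgroup of order nine
  obtain ⟨P, hP⟩ : ∃ P : Sylow 3 ↥(Subgroup.centralizer ({F.tI} : Set G)),
      (P : Subgroup ↥(Subgroup.centralizer ({F.tI} : Set G))) = F.Jt.subgroupOf (Subgroup.centralizer ({F.tI} : Set G)) := by
    have hp : IsPGroup 3 (F.Jt.subgroupOf (Subgroup.centralizer ({F.tI} : Set G))) := IsPGroup.of_card (n := 2) (by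
      rw [Nat.card_congr (Subgroup.subgroupOfEquivOfLe F.Jt_le_Ct).toEquiv, F.card_Jt]; norm_num)
    obtain ⟨P, hP⟩ := hp.exists_le_sylow
    refine ⟨P, ?_⟩
    have e := hsyl _ (P.2.map (Subgroup.subtype _)) (Subgroup.map_subtype_le _) fun g hg =>
      ⟨⟨g, F.Jt_le_Ct hg⟩, hP hg, rfl⟩
    refine le_antisymm (fun x hx => ?_) hP
    show (x : G) ∈ F.Jt
    rw [← e]
    exact ⟨x, hx, rfl⟩
  let T : Sylow 3 X := P.mapSurjective hmk
  have hT : (T : Subgroup X) = (F.Jt.subgroupOf _).map F.mkI := by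
    show ((P.mapSurjective hmk : Sylow 3 X) : Subgroup X) = _
    rw [Sylow.coe_mapSurjective, hP]
  have hTelt : ∀ y ∈ (T : Subgroup X), ∃ v, ∃ hv : F.j v ∈ Subgroup.centralizer ({F.tI} : Set G),
      act 1 v = v ∧ F.mkI ⟨F.j v, hv⟩ = y := fun y hy => by
    rw [hT] at hy
    obtain ⟨u, hu, rfl⟩ := hy
    obtain ⟨v, hv, he⟩ := F.mem_Jt.1 (show (u : G) ∈ F.Jt from hu)
    exact ⟨v, he ▸ u.2, hv, congrArg F.mkI (Subtype.ext he)⟩
  have hTcard : Nat.card (T : Subgroup X) = 9 := by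
    let f : ↥F.Jt →* X := F.mkI.comp (Subgroup.inclusion F.Jt_le_Ct)
    have hf : Function.Injective f := (injective_iff_map_eq_one f).2 fun y hy => by
      have h1 : F.mkI (Subgroup.inclusion F.Jt_le_Ct y) = F.mkI 1 := by rw [map_one]; exact hy
      have h3 : (y : G) ^ 3 = 1 := F.D.J_exp _ y.2.1
      rcases F.mkI_eq h1 with h | h
      · exact Subtype.ext h
      · exfalso
        change (y : G) = 1 * F.tI at h
        rw [one_mul] at h
        rw [h, pow_succ, pow_two, F.tI_sq, one_mul] at h3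
        exact F.tI_ne h3
    rw [hT, show (F.Jt.subgroupOf _).map F.mkI = f.range by
      rw [MonoidHom.range_comp, Subgroup.inclusion_range], ← Nat.card_congr (MonoidHom.ofInjective hf).toEquiv, F.card_Jt]
  have hTcomm : ∀ a ∈ (T : Subgroup X), ∀ b ∈ (T : Subgroup X), a * b = b * a := fun a ha b hb => by
    obtain ⟨v, hv, -, rfl⟩ := hTelt a ha
    obtain ⟨w, hw, -, rfl⟩ := hTelt b hb
    rw [← map_mul, ← map_mul]
    exact congrArg F.mkI (Subtype.ext (F.J_comm (F.j_mem v) (F.j_mem w)))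
  have hnorm : ∀ g : ↥(Subgroup.centralizer ({F.tI} : Set G)), (g : G) ∈ Subgroup.normalizer (F.Qt : Set G) →
      F.mkI g ∈ Subgroup.normalizer (Hb : Set X) := by
    intro g hg
    have key : ∀ g : ↥(Subgroup.centralizer ({F.tI} : Set G)), (g : G) ∈ Subgroup.normalizer (F.Qt : Set G) →
        ∀ x ∈ Hb, F.mkI g * x * (F.mkI g)⁻¹ ∈ Hb := by
      intro g hg x hx
      obtain ⟨h, hh, rfl⟩ := hHmem x hx
      rw [← map_inv, ← map_mul, ← map_mul, hHb]
      refine ⟨g * h * g⁻¹, Subgroup.mem_centralizer_iff.2 fun q hq => ?_, rfl⟩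
      have hq' := (Subgroup.mem_normalizer_iff.1 (inv_mem hg) q).1 hq
      rw [inv_inv] at hq'
      have h2 := (show Commute ((g : G)⁻¹ * q * g) h from hh _ hq').conj (g : G)
      rw [show (g : G) * ((g : G)⁻¹ * q * g) * (g : G)⁻¹ = q by group] at h2
      exact h2.eq
    refine Subgroup.mem_normalizer_iff.2 fun x => ⟨key g hg x, fun hx => ?_⟩
    have := key g⁻¹ (inv_mem hg) _ hx
    rwa [map_inv, inv_inv, ← mul_assoc, ← mul_assoc, inv_mul_cancel, one_mul, inv_mul_cancel_right] at this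
  have hJtQ : ∀ g : ↥(Subgroup.centralizer ({F.tI} : Set G)), (g : G) ∈ F.Jt →
      (g : G) ∈ Subgroup.normalizer (F.Qt : Set G) := fun g hg =>
    F.norm_Qt (Subgroup.mem_centralizer_singleton_iff.1 g.2) (Or.inl (mul_inv_eq_iff_eq_mul.2
      (F.D.mem_C.1 (F.D.J_le hg.1))))
  have hTN : (T : Subgroup X) ≤ Subgroup.normalizer (Hb : Set X) := fun y hy => by
    rw [hT] at hy
    obtain ⟨u, hu, rfl⟩ := hy
    exact hnorm u (hJtQ u hu)
  have h9H : ¬ 9 ∣ Nat.card ↥Hb := by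
    intro h9
    obtain ⟨Q, hQ⟩ := (IsPGroup.of_card (n := 1) (show Nat.card (Subgroup.zpowers ab) = 3 ^ 1 by
      rw [Nat.card_zpowers, habo, pow_one])).exists_le_sylow (p := 3)
    obtain ⟨Q', hQ'⟩ := (Q.2.map Hb.subtype).exists_le_sylow
    obtain ⟨n, hn⟩ := MulAction.exists_smul_eq X Q' T
    have habQ : ab ∈ (Q : Subgroup ↥Hb) := hQ (Subgroup.mem_zpowers _)
    have hin : ∀ y ∈ (Q : Subgroup ↥Hb), n * (y : X) * n⁻¹ ∈ (T : Subgroup X) := fun y hy => by
      rw [← hn, Sylow.coe_subgroup_smul, Subgroup.mem_pointwise_smul_iff_inv_smul_mem]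
      simpa [MulAut.smul_def, mul_assoc] using hQ' ⟨y, hy, rfl⟩
    have hle : (Q : Subgroup ↥Hb) ≤ Subgroup.zpowers ab := fun y hy => hself y (Subtype.ext (by
      have := hTcomm _ (hin y hy) _ (hin ab habQ)
      rw [conj_mul, conj_mul] at this
      exact mul_left_cancel (mul_right_cancel this)))
    have h := (Q.pow_dvd_card_of_pow_dvd_card (n := 2) (by norm_num; exact h9)).trans (Subgroup.card_dvd_of_le hle)
    rw [Nat.card_zpowers, habo] at h
    norm_num at h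
  -- no element of order five or seven centralising one of order three
  have hkill : ∀ p : ℕ, p.Prime → p = 5 ∨ p = 7 → ∀ (hp : p ∣ Nat.card ↥Hb) (hp2 : ¬ p ^ 2 ∣ Nat.card ↥Hb),
      (∀ n : ℕ, n ∣ Nat.card ↥Hb → n % p = 1 → ¬ p ∣ n → (¬ 3 ∣ n) ∨ (¬ 3 ∣ p - 1 ∧ ¬ 9 ∣ n)) → False := by
    intro p hpp hp57 hp hp2 hn
    have := Fact.mk hpp
    obtain ⟨Y, hY⟩ : ∃ Y, Y = Hb ⊔ (T : Subgroup X) := ⟨_, rfl⟩
    have hHY : Hb ≤ Y := hY ▸ le_sup_left
    have hTY : (T : Subgroup X) ≤ Y := hY ▸ le_sup_right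
    have hHn : (Hb.subgroupOf Y).Normal := by
      refine Subgroup.normal_subgroupOf_iff_le_normalizer hHY |>.2 ?_
      rw [hY]; exact sup_le Subgroup.le_normalizer hTN
    have hcY : Nat.card ↥(Hb.subgroupOf Y) = Nat.card ↥Hb :=
      Nat.card_congr (Subgroup.subgroupOfEquivOfLe hHY).toEquiv
    obtain ⟨r, x, hr, hx, hrx⟩ := CfsgLib.ThreeCC.exists_three_centralizing (Hb.subgroupOf Y)
      (hTcard ▸ Subgroup.card_dvd_of_le hTY) (p := p)
      (by rcases hp57 with rfl | rfl <;> norm_num) (hcY.symm ▸ hp) (hcY.symm ▸ hp2) (hcY.symm ▸ hn)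
    have hX : IsPGroup 3 (Subgroup.zpowers (x : X)) := IsPGroup.of_card (n := 1) (by
      rw [Nat.card_zpowers, Subgroup.orderOf_coe, hx, pow_one])
    obtain ⟨Q, hQ⟩ := hX.exists_le_sylow
    obtain ⟨m, hm⟩ := MulAction.exists_smul_eq X Q T
    have hxT : m * x * m⁻¹ ∈ (T : Subgroup X) := by
      rw [← hm, Sylow.coe_subgroup_smul, Subgroup.mem_pointwise_smul_iff_inv_smul_mem]
      simpa [MulAut.smul_def, mul_assoc] using hQ (Subgroup.mem_zpowers _)
    obtain ⟨v, hv, hfix, he⟩ := hTelt _ hxT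
    have hv0 : v ≠ 0 := fun e0 => by
      subst e0
      have h1 : m * (x : X) * m⁻¹ = 1 := he.symm.trans ((congrArg F.mkI (Subtype.ext F.j_zero)).trans (map_one _))
      rw [conj_eq_one_iff, OneMemClass.coe_eq_one] at h1
      rw [h1, orderOf_one] at hx
      norm_num at hx
    obtain ⟨g, hg⟩ := hmk (m * r * m⁻¹)
    have hgc : Commute (g : G) (F.j v) := mul_inv_eq_iff_eq_mul.1
      (F.mkI_lift (e := ⟨F.j v, hv⟩) (e' := ⟨F.j v, hv⟩) (F.j_cube v) (F.j_cube v) (by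
        rw [hg, he]
        have e1 : (x : X) * r = r * x := congrArg Subtype.val hrx
        rw [mul_inv_eq_iff_eq_mul, conj_mul, conj_mul, e1]))
    have h1 : p ∣ orderOf (g : G) := by
      rw [Subgroup.orderOf_coe]
      refine dvd_trans (dvd_of_eq ?_) (orderOf_map_dvd F.mkI g)
      rw [hg, show m * (r : X) * m⁻¹ = MulAut.conj m r from rfl, MulEquiv.orderOf_eq, Subgroup.orderOf_coe, hr]
    obtain ⟨h5, h7⟩ := hord g (Subgroup.mem_centralizer_singleton_iff.1 g.2) v hfix hv0 hgc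
    rcases hp57 with rfl | rfl
    · exact h5 h1
    · exact h7 h1
  rcases Cfsg.Agent.S3331.result (Subgroup.zpowers ab) (by rw [Nat.card_zpowers, habo]) hXc with
    ⟨N, hN, hNnil, hN3, hcase⟩ | ⟨N, hN, -, hN2, ⟨e⟩⟩ | ⟨⟨e⟩⟩
  rotate_left
  · exfalso
    have : Fact (Nat.Prime 2) := ⟨Nat.prime_two⟩
    obtain ⟨k, hk⟩ := (show IsPGroup 2 N from fun n => ⟨1, by rw [pow_one]; exact Subtype.ext (hN2 n n.2)⟩).exists_card_eq
    have hcL : Nat.card ↥Hb = 2 ^ k * 60 := by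
      rw [Subgroup.card_eq_card_quotient_mul_card_subgroup N, hk, Nat.card_congr e.toEquiv,
        nat_card_alternatingGroup, Nat.card_fin, mul_comm]
      rfl
    refine hkill 5 (by norm_num) (Or.inl rfl) (by rw [hcL]; exact Dvd.dvd.mul_left (by norm_num) _) (fun h => ?_)
      (fun n hn _ _ => Or.inr ⟨by norm_num, fun h => h9H (h.trans hn)⟩)
    rw [hcL] at h
    have hco : Nat.Coprime (5 ^ 2) (2 ^ k) := Nat.Coprime.pow _ _ (by norm_num)
    exact absurd (hco.dvd_of_dvd_mul_left h) (by norm_num)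
  · exfalso
    have hcL : Nat.card ↥Hb = 168 := by rw [Nat.card_congr e.toEquiv, CfsgLib.ThreeCC.card_psl_two_seven]
    refine hkill 7 (by norm_num) (Or.inr rfl) (by rw [hcL]; norm_num) (by rw [hcL]; norm_num) fun n hn hn1 _ => ?_
    rw [hcL] at hn
    have := Nat.le_of_dvd (by norm_num) hn
    interval_cases n <;> revert hn hn1 <;> decide
  -- the nilpotent case
  obtain ⟨M, hM⟩ : ∃ M, M = (Cfsg.pPrimeCore 3 ↥Hb).map Hb.subtype := ⟨_, rfl⟩
  have hM3 : (Nat.card M).Coprime 3 := by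
    rw [hM, Subgroup.card_map_of_injective Hb.subtype_injective]
    exact CfsgLib.card_pPrimeCore_coprime 3
  have hcore : (Cfsg.pPrimeCore 3 ↥Hb).Normal := Subgroup.sSup_normal _ (fun _ h => h.1)
  have hNle : N ≤ Cfsg.pPrimeCore 3 ↥Hb := by
    have := hN
    exact CfsgLib.le_pPrimeCore hN3
  refine ⟨M, hM3, hHb ▸ hM ▸ Subgroup.map_subtype_le _, ?_, ?_, ?_⟩
  · intro g hg
    have key : ∀ g : X, g ∈ Subgroup.normalizer (Hb : Set X) → ∀ x ∈ M, g * x * g⁻¹ ∈ M := by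
      intro g hg x hx
      let K : Subgroup ↥Hb := ((M.map (MulAut.conj g).toMonoidHom)).subgroupOf Hb
      have hMH : M ≤ Hb := hM ▸ Subgroup.map_subtype_le _
      have hgMH : M.map (MulAut.conj g).toMonoidHom ≤ Hb := by
        rintro _ ⟨y, hy, rfl⟩
        exact (Subgroup.mem_normalizer_iff.1 hg y).1 (hMH hy)
      have hKn : K.Normal := by
        refine Subgroup.normal_subgroupOf_iff_le_normalizer hgMH |>.2 fun h hh => Subgroup.mem_normalizer_iff.2 fun y => ?_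
        have hstep : ∀ h ∈ Hb, ∀ y ∈ M.map (MulAut.conj g).toMonoidHom,
            h * y * h⁻¹ ∈ M.map (MulAut.conj g).toMonoidHom := by
          rintro h hh _ ⟨z, hz, rfl⟩
          have hh' := (Subgroup.mem_normalizer_iff.1 (inv_mem hg) h).1 hh
          rw [inv_inv] at hh'
          refine ⟨(g⁻¹ * h * g) * z * (g⁻¹ * h * g)⁻¹, ?_, ?_⟩
          · rw [hM] at hz ⊢
            obtain ⟨z', hz', rfl⟩ := hz
            exact ⟨⟨_, hh'⟩ * z' * ⟨_, hh'⟩⁻¹, hcore.conj_mem _ hz' _, rfl⟩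
          · show g * ((g⁻¹ * h * g) * z * (g⁻¹ * h * g)⁻¹) * g⁻¹ = h * (g * z * g⁻¹) * h⁻¹
            group
        refine ⟨hstep h hh y, fun hy => ?_⟩
        have := hstep h⁻¹ (inv_mem hh) _ hy
        rwa [inv_inv, ← mul_assoc, ← mul_assoc, inv_mul_cancel, one_mul, inv_mul_cancel_right] at this
      have hK3 : (Nat.card K).Coprime 3 := by
        refine (Nat.Coprime.coprime_dvd_left ?_ hM3)
        rw [Nat.card_congr (Subgroup.subgroupOfEquivOfLe hgMH).toEquiv,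
          Subgroup.card_map_of_injective (f := (MulAut.conj g).toMonoidHom) (MulAut.conj g).injective]
      have hKle : K ≤ Cfsg.pPrimeCore 3 ↥Hb := CfsgLib.le_pPrimeCore hK3
      rw [hM]
      exact ⟨⟨_, hgMH ⟨x, hx, rfl⟩⟩, hKle (show (g * x * g⁻¹) ∈ M.map (MulAut.conj g).toMonoidHom from ⟨x, hx, rfl⟩),
        rfl⟩
    have hgn := hnorm g hg
    refine Subgroup.mem_normalizer_iff.2 fun x => ⟨key _ hgn x, fun hx => ?_⟩
    have := key _ (inv_mem hgn) _ hx
    rwa [inv_inv, ← mul_assoc, ← mul_assoc, inv_mul_cancel, one_mul, inv_mul_cancel_right] at this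
  · intro x hx a ha he
    rw [hauniq a ha, ← habv] at he
    rw [hM] at hx
    obtain ⟨y, hy, rfl⟩ := hx
    have hyz := hself y (Subtype.ext he)
    have h1 := Subgroup.orderOf_dvd_natCard _ hyz
    rw [Nat.card_zpowers, habo] at h1
    have h2 : orderOf y ∣ Nat.card ↥(Cfsg.pPrimeCore 3 ↥Hb) := Subgroup.orderOf_dvd_natCard _ hy
    have := Nat.eq_one_of_dvd_coprimes (CfsgLib.card_pPrimeCore_coprime 3) h2 h1
    rw [orderOf_eq_one_iff.1 this]; rfl
  · intro h hh a ha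
    obtain rfl := hauniq a ha
    obtain ⟨hb, hhb⟩ : ∃ hb : ↥Hb, (hb : X) = F.mkI h := ⟨⟨_, hHb ▸ ⟨h, hh, rfl⟩⟩, rfl⟩
    let q := QuotientGroup.mk' N
    have hq1 : q ab ≠ 1 := fun e => by
      have hm : ab ∈ N := (QuotientGroup.eq_one_iff ab).1 e
      have h1 := Subgroup.orderOf_dvd_natCard _ hm
      rw [habo] at h1
      exact absurd (Nat.eq_one_of_dvd_coprimes hN3 h1 dvd_rfl) (by norm_num)
    have hqo : orderOf (q ab) = 3 := orderOf_eq_prime (by rw [← map_pow, hab3, map_one]) hq1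
    have hnormal : (Subgroup.zpowers (q ab)).Normal := by
      have h1 := (Subgroup.zpowers (q ab)).card_mul_index
      rw [Nat.card_zpowers, hqo] at h1
      rcases hcase with hc | ⟨⟨e⟩⟩
      · rw [hc] at h1
        have : (Subgroup.zpowers (q ab)).index = 1 := by omega
        rw [Subgroup.index_eq_one.1 this]; infer_instance
      · rw [Nat.card_congr e.toEquiv, Nat.card_perm, Nat.card_fin, show Nat.factorial 3 = 6 from rfl] at h1
        exact Subgroup.normal_of_index_eq_two (by omega)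
    obtain ⟨i, hi⟩ := Subgroup.mem_zpowers_iff.1 (hnormal.conj_mem _ (Subgroup.mem_zpowers (q ab)) (q hb))
    have hlift : ∀ y : ↥Hb, q y = 1 → (y : X) ∈ M := fun y hy =>
      hM ▸ ⟨y, hNle ((QuotientGroup.eq_one_iff y).1 hy), rfl⟩
    have hi3 : q ab ^ i = q ab ^ (i % 3) := by
      have e3 : q ab ^ (3 : ℤ) = 1 := by
        rw [show (3 : ℤ) = ((3 : ℕ) : ℤ) from rfl, zpow_natCast, ← map_pow, hab3, map_one]
      conv_lhs => rw [← Int.emod_add_mul_ediv i 3, zpow_add, zpow_mul, e3, one_zpow, mul_one]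
    rw [hi3] at hi
    rcases (show i % 3 = 0 ∨ i % 3 = 1 ∨ i % 3 = 2 by omega) with h0 | h0 | h0 <;> rw [h0] at hi
    · rw [zpow_zero] at hi
      exact absurd (conj_eq_one_iff.1 hi.symm) hq1
    · left
      rw [zpow_one] at hi
      have := hlift (hb * ab * hb⁻¹ * ab⁻¹) (by rw [map_mul, map_mul, map_mul, map_inv, map_inv, ← hi, mul_inv_cancel])
      simpa [hhb, habv] using this
    · right
      have := hlift (hb * ab * hb⁻¹ * ab) (by
        rw [map_mul, map_mul, map_mul, map_inv, ← hi, ← zpow_add_one]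
        show q ab ^ ((3 : ℕ) : ℤ) = 1
        rw [zpow_natCast, ← map_pow, hab3, map_one])
      simpa [hhb, habv] using this

end Frame

end CfsgPSp43Real
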