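import Cfsg.Agent.Lib.PSp43Real.Local

/-!
The kernel and the conjugates of the element in coordinates.
-/

set_option autoImplicit false
set_option linter.style.haveILetI false
set_option synthInstance.maxSize 4000

namespace CfsgPSp43Real

open CfsgLib.Sym9Three (V3 xv Mon Sub tr rot act toR rMul rInv inR Sub_zero_le tr_mem_Sub tr_mul mem_Sub)

/-- The sum of the coordinates. -/
def vsum (v : V3) : ZMod 3 := v.1 + v.2.1 + v.2.2

/-- Membership in the preimage in coordinates. -/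
def inS3 (m : Mon) : Bool := m.g == 0 || m.g == 4 || m.g == 5

/-- Membership in the kernel in coordinates. -/
def inKer (m : Mon) : Bool := inS3 m && vsum m.v == 0

theorem inS3_facts : (∀ m : Mon, inS3 m = true → inR 0 m.g = true ∧ (m * m * m = 1 ∨ m ^ 9 = 1)) ∧
    (Finset.univ.filter fun m : Mon => inS3 m = true).card = 81 ∧
    (∀ r : Fin 48, act r xv = xv ↔ r.val < 6) ∧
    (∀ m : Mon, inR 0 m.g = true → m * m * m = 1 → inS3 m = true) ∧
    (∀ m : Mon, inS3 m = true → m * m * m = 1 → m.g = 0 ∨ inKer m = true) := by decide +kernel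

theorem ker_gen : (∀ u : V3, vsum u = 0 → ∀ g : Fin 48, (g = 4 ∨ g = 5) → ∀ u' : V3, vsum u' = 0 → ∀ g' : Fin 48,
      (g' = 4 ∨ g' = 5) → ∃ w : V3, vsum w = 0 ∧ ((⟨u', g'⟩ : Mon) = tr w * ⟨u, g⟩ ∨ (⟨u', g'⟩ : Mon) = tr w * ⟨u, g⟩⁻¹)) ∧
    (∀ v : V3, vsum v = 0 → ∃ w : V3, tr v = tr w * rot 4 * (tr w)⁻¹ * (rot 4)⁻¹) ∧
    (∀ v w : V3, vsum v ≠ 0 → ∃ i : Fin 3, vsum (w - i.val • v) = 0) := by decide +kernel

theorem ker_move : ∀ u : V3, vsum u = 0 → ∀ g : Fin 48, (g = 4 ∨ g = 5) → ∀ u' : V3, vsum u' = 0 → ∀ g' : Fin 48,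
    (g' = 4 ∨ g' = 5) → ∃ w : V3, tr w * ⟨u', g'⟩ * (tr w)⁻¹ = ⟨u, g⟩ ∨ tr w * (⟨u', g'⟩ : Mon)⁻¹ * (tr w)⁻¹ = ⟨u, g⟩ := by
  decide +kernel

theorem orbit_sign : (∀ k : Fin 4, (k = 0 ∨ k = 2) → ∀ r : Fin 48, inR k r = true → act r xv ≠ -xv) ∧
    (∀ k : Fin 4, (k = 0 ∨ k = 1) → ∀ r : Fin 48, inR k r = true → act r xv = xv ∨ act r xv = -xv) ∧
    (∀ k : Fin 4, (k = 1 ∨ k = 3) → inR k 42 = true ∧ act 42 xv = -xv) := by decide +kernel

namespace Frame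

universe u

variable {G : Type u} [Group G] [Finite G] (F : Frame G)

omit [Finite G] in
theorem mem_C_iff {m : Mon} (hm : m ∈ Sub F.k) : F.el m ∈ F.D.C ↔ act m.g xv = xv := by
  rw [Setup.mem_C, ← F.el_x]
  show F.el m * F.j xv = F.j xv * F.el m ↔ _
  rw [← mul_inv_eq_iff_eq_mul, F.el_conj hm]
  exact ⟨F.j_inj, fun h => by rw [h]⟩

theorem mem_S_three {m : Mon} (hm : m ∈ Sub 0) {j : ℕ} (h3 : m ^ 3 ^ j = 1) : F.el m ∈ F.D.S := by
  have hm' := Sub_zero_le F.k hm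
  have hC : F.el m ∈ F.D.C := (F.mem_C_iff hm').2 ((inS3_facts.2.2.1 _).2 ((inR_zero_iff _).1 hm))
  have hj := (Subgroup.mem_normalizer_iff.1 (F.el_mem_N hm') _).1 F.D.j0_mem
  rcases (F.D.mem_S (g := ⟨F.el m, hC⟩ * ⟨F.D.j0, F.D.J_le F.D.j0_mem⟩ * ⟨F.el m, hC⟩⁻¹)).1 (F.D.J_le_S hj) with h | h | h
  · rw [map_mul, map_mul, map_inv, conj_eq_one_iff] at h
    exact absurd h F.D.X_ne
  all_goals
    rw [map_mul, map_mul, map_inv, ← Setup.X] at h
    refine ⟨hC, sl_three_part _ _ F.D.X_cube F.D.X_ne (by first | exact Or.inl h | exact Or.inr h) ?_⟩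
    have hp : F.D.π ⟨F.el m, hC⟩ ^ 3 ^ j = 1 := by
      have hn : ∀ n, F.el (m ^ n) = F.el m ^ n := fun n => by
        induction n with
        | zero => rw [pow_zero, pow_zero, F.el_one]
        | succ n ih => rw [pow_succ, pow_succ, F.el_mul _ (pow_mem hm' n) _ hm', ih]
      rw [← map_pow, show (⟨F.el m, hC⟩ : ↥F.D.C) ^ 3 ^ j = 1 from Subtype.ext (by
        rw [Subgroup.coe_pow, ← hn, h3, F.el_one]; rfl), map_one]
    have h24 : F.D.π ⟨F.el m, hC⟩ ^ 24 = 1 := by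
      rw [show (24 : ℕ) = Nat.card SL23 by rw [Nat.card_eq_fintype_card]; decide +kernel]
      exact pow_card_eq_one'
    have h3' : orderOf (F.D.π ⟨F.el m, hC⟩) ∣ 3 := by
      refine Nat.Coprime.dvd_of_dvd_mul_left ?_
        (show orderOf (F.D.π ⟨F.el m, hC⟩) ∣ 8 * 3 from orderOf_dvd_of_pow_eq_one h24)
      exact Nat.Coprime.coprime_dvd_left (orderOf_dvd_of_pow_eq_one hp) (Nat.Coprime.pow_left j (by norm_num))
    have h9 := orderOf_dvd_iff_pow_eq_one.1 (h3'.trans (show 3 ∣ 9 by norm_num))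
    rw [show (9 : ℕ) = 3 + 3 + 3 from rfl, pow_add, pow_add, pow_three'] at h9
    exact h9

/-- The preimage in coordinates. -/
theorem mem_S_iff {g : G} : g ∈ F.D.S ↔ ∃ m : Mon, inS3 m = true ∧ F.el m = g := by
  classical
  have hle : ∀ m : Mon, inS3 m = true → F.el m ∈ F.D.S := fun m hm => by
    obtain ⟨h0, h⟩ := inS3_facts.1 m hm
    refine F.mem_S_three h0 (j := 2) ?_
    show m ^ 9 = 1
    rcases h with h | h
    · rw [show (9 : ℕ) = 3 * 3 from rfl, pow_mul, show m ^ 3 = m * m * m from pow_three' m, h, one_pow]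
    · exact h
  constructor
  · intro hg
    let f : {m : Mon // inS3 m = true} → F.D.S := fun m => ⟨F.el m.1, hle m.1 m.2⟩
    have hf : Function.Injective f := fun a b h => Subtype.ext (F.el_inj _ (Sub_zero_le F.k (inS3_facts.1 _ a.2).1) _
      (Sub_zero_le F.k (inS3_facts.1 _ b.2).1) (congrArg Subtype.val h))
    obtain ⟨m, hm⟩ := (hf.bijective_of_nat_card_le (by
      rw [F.D.card_S, Nat.card_eq_fintype_card, Fintype.card_subtype, inS3_facts.2.1])).2 ⟨g, hg⟩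
    exact ⟨m.1, m.2, congrArg Subtype.val hm⟩
  · rintro ⟨m, hm, rfl⟩
    exact hle m hm

/-- The kernel in coordinates. -/
theorem el_mem_R {m : Mon} (h : inKer m = true) : F.el m ∈ F.D.R := by
  have hS : ∀ w : V3, F.el (tr w) ∈ F.D.S := fun w => F.D.J_le_S ((F.mem_J _).2 ⟨w, rfl⟩)
  have hk : ∀ m : Mon, inS3 m = true → m ∈ Sub F.k := fun m hm => Sub_zero_le _ (inS3_facts.1 m hm).1
  have h4 : inS3 (rot 4) = true := by decide +kernel
  have htr : ∀ v : V3, vsum v = 0 → F.el (tr v) ∈ F.D.R := by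
    intro v hv
    obtain ⟨w, hw⟩ := ker_gen.2.1 v hv
    have e4 := F.mem_S_iff.2 ⟨_, h4, rfl⟩
    rw [hw, F.el_mul _ (mul_mem (mul_mem (tr_mem_Sub _ _) (hk _ h4)) (inv_mem (tr_mem_Sub _ _))) _ (inv_mem (hk _ h4)),
      F.el_mul _ (mul_mem (tr_mem_Sub _ _) (hk _ h4)) _ (inv_mem (tr_mem_Sub _ _)),
      F.el_mul _ (tr_mem_Sub _ _) _ (hk _ h4), F.el_inv (tr_mem_Sub _ _), F.el_inv (hk _ h4)]
    refine (F.D.mem_R (x := ⟨_, F.D.S_le (hS w)⟩ * ⟨_, F.D.S_le e4⟩ * ⟨_, F.D.S_le (hS w)⟩⁻¹ * ⟨_, F.D.S_le e4⟩⁻¹)).2 ?_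
    rw [map_mul, map_mul, map_mul, map_inv, map_inv]
    obtain ⟨hc1, h1⟩ := hS w
    obtain ⟨hc2, h2⟩ := e4
    rcases h1 with h1 | h1 | h1 <;> rcases h2 with h2 | h2 | h2 <;>
      rw [show (⟨F.el (tr w), F.D.S_le (hS w)⟩ : ↥F.D.C) = ⟨_, hc1⟩ from rfl,
        show (⟨F.el (rot 4), F.D.S_le (F.mem_S_iff.2 ⟨_, h4, rfl⟩)⟩ : ↥F.D.C) = ⟨_, hc2⟩ from rfl, h1, h2] <;>
      group
  obtain ⟨u, g⟩ := m
  rw [inKer, Bool.and_eq_true, beq_iff_eq] at h
  obtain ⟨h1, h2⟩ := h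
  simp only [inS3, Bool.or_eq_true, beq_iff_eq] at h1
  rcases h1 with (h1 | h1) | h1
  · subst h1; exact htr u h2
  all_goals
    obtain ⟨y, hy, hyJ⟩ := SetLike.not_le_iff_exists.1 (show ¬ F.D.R ≤ F.D.J from fun hle => F.D.J_not_le
      (Subgroup.eq_of_le_of_card_ge hle (by rw [F.D.J_card, F.D.card_R])).ge)
    obtain ⟨⟨u', g'⟩, hm', rfl⟩ := F.mem_S_iff.1 (F.D.R_le_S hy)
    have hcube : (⟨u', g'⟩ : Mon) * ⟨u', g'⟩ * ⟨u', g'⟩ = 1 := by
      refine F.el_inj _ (mul_mem (mul_mem (hk _ hm') (hk _ hm')) (hk _ hm')) _ (one_mem _) ?_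
      rw [F.el_mul _ (mul_mem (hk _ hm') (hk _ hm')) _ (hk _ hm'), F.el_mul _ (hk _ hm') _ (hk _ hm'), ← pow_three',
        F.D.R_exp hy, F.el_one]
    rcases inS3_facts.2.2.2.2 _ hm' hcube with h0 | h0
    · exact absurd ((F.mem_J _).2 ⟨u', by rw [show g' = 0 from h0]⟩) hyJ
    · rw [inKer, Bool.and_eq_true, beq_iff_eq] at h0
      have hg' : g' = 4 ∨ g' = 5 := by
        have := h0.1
        simp only [inS3, Bool.or_eq_true, beq_iff_eq] at this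
        rcases this with (e | e) | e
        · exact absurd ((F.mem_J _).2 ⟨u', by rw [show g' = 0 from e]⟩) hyJ
        · exact Or.inl e
        · exact Or.inr e
      obtain ⟨w, hw, e | e⟩ := ker_gen.1 u' h0.2 g' hg' u h2 g (by first | exact Or.inl h1 | exact Or.inr h1)
      · rw [e, F.el_mul _ (tr_mem_Sub _ _) _ (hk _ hm')]
        exact mul_mem (htr w hw) hy
      · rw [e, F.el_mul _ (tr_mem_Sub _ _) _ (inv_mem (hk _ hm')), F.el_inv (hk _ hm')]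
        exact mul_mem (htr w hw) (inv_mem hy)

theorem j_mem_R_iff (v : V3) : F.el (tr v) ∈ F.D.R ↔ vsum v = 0 := by
  have h0 : ∀ v : V3, inS3 (tr v) = true := by decide +kernel
  refine ⟨fun h => ?_, fun h => F.el_mem_R (by rw [inKer, h0, h]; rfl)⟩
  by_contra hv
  refine F.D.J_not_le fun g hg => ?_
  obtain ⟨w, rfl⟩ := (F.mem_J g).1 hg
  obtain ⟨i, hi⟩ := ker_gen.2.2 v w hv
  have hn : ∀ n : ℕ, F.j (n • v) = F.j v ^ n := fun n => by
    induction n with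
    | zero => rw [zero_smul, pow_zero, F.j_zero]
    | succ n ih => rw [succ_nsmul, F.j_add, ih, pow_succ]
  show F.j w ∈ F.D.R
  rw [show w = (w - i.val • v) + i.val • v by abel, F.j_add, hn]
  exact mul_mem (F.el_mem_R (m := tr (w - i.val • v)) (by rw [inKer, h0, hi]; rfl)) (pow_mem h _)

/-- An element of the kernel is conjugate in the centraliser to one in the elementary subgroup. -/
theorem conj_R_into_J {y : G} (hy : y ∈ F.D.R) : ∃ c ∈ F.D.C, c * y * c⁻¹ ∈ F.D.J := by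
  classical
  obtain ⟨m, hm, rfl⟩ := F.mem_S_iff.1 (F.D.R_le_S hy)
  by_cases hm0 : m.g = 0
  · refine ⟨1, one_mem _, ?_⟩
    rw [one_mul, inv_one, mul_one]
    exact (F.mem_J _).2 ⟨m.v, congrArg F.el (by obtain ⟨v, g⟩ := m; simp only at hm0; subst hm0; rfl)⟩
  have hk : ∀ m : Mon, inS3 m = true → m ∈ Sub F.k := fun m hm => Sub_zero_le _ (inS3_facts.1 m hm).1
  obtain ⟨q, hq⟩ : ∃ q : ↥F.D.C, F.D.π q * F.D.π q = -1 := by
    obtain ⟨A, hA⟩ := sl_neg.2.2.2.1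
    obtain ⟨q, rfl⟩ := F.D.surj A
    exact ⟨q, hA⟩
  obtain ⟨b, hb, hbZ⟩ := SetLike.not_le_iff_exists.1 (show ¬ F.D.J ⊓ F.D.R ≤ F.D.Z from fun h => by
    have h1 := Subgroup.card_le_of_le h
    rw [F.D.card_Z] at h1
    have := F.D.card_inf
    omega)
  have hqR : (q : G) * b * (q : G)⁻¹ ∈ F.D.R := F.D.conj_R q.2 hb.2
  have hqJ : (q : G) * b * (q : G)⁻¹ ∉ F.D.J := by
    intro hJ
    have hinv := F.D.neg_inverts (x := q * q) (by rw [map_mul, hq]) hb.2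
    -- the intersection is generated by the centre and the element
    have hgen : F.D.Z ⊔ Subgroup.zpowers b = F.D.J ⊓ F.D.R := by
      refine Subgroup.eq_of_le_of_card_ge (sup_le (le_inf (Subgroup.zpowers_le.2 F.D.a_mem_J) F.D.Z_le)
        (Subgroup.zpowers_le.2 hb)) ?_
      have h9 : Nat.card (F.D.J ⊓ F.D.R : Subgroup G) ≤ 9 := by
        have hd := F.D.J_card ▸ Subgroup.card_dvd_of_le (inf_le_left : F.D.J ⊓ F.D.R ≤ F.D.J)
        obtain ⟨i, hi, e⟩ := (Nat.dvd_prime_pow Nat.prime_three).1 (show _ ∣ 3 ^ 3 from hd)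
        rw [e]
        interval_cases i <;> try norm_num
        exfalso
        refine F.D.J_not_le ?_
        have : F.D.J ⊓ F.D.R = F.D.J := Subgroup.eq_of_le_of_card_ge inf_le_left (by rw [e, F.D.J_card]; norm_num)
        exact this ▸ inf_le_right
      refine h9.trans ?_
      have hlt : Nat.card F.D.Z < Nat.card ↥(F.D.Z ⊔ Subgroup.zpowers b) := by
        refine Nat.lt_of_le_of_ne (Subgroup.card_le_of_le le_sup_left) fun h => hbZ ?_
        rw [Subgroup.eq_of_le_of_card_ge le_sup_left h.ge]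
        exact Subgroup.mem_sup_right (Subgroup.mem_zpowers b)
      have hd := Subgroup.card_dvd_of_le (le_sup_left : F.D.Z ≤ F.D.Z ⊔ Subgroup.zpowers b)
      have hd2 := F.D.card_R ▸ Subgroup.card_dvd_of_le (sup_le F.D.Z_le (Subgroup.zpowers_le.2 hb.2) :
        F.D.Z ⊔ Subgroup.zpowers b ≤ F.D.R)
      obtain ⟨i, hi, e⟩ := (Nat.dvd_prime_pow Nat.prime_three).1 (show _ ∣ 3 ^ 3 from hd2)
      rw [F.D.card_Z, e] at hlt
      rw [e]
      interval_cases i <;> omega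
    -- so the element of order four maps it to a power modulo the centre
    let U : Subgroup G :=
      { carrier := {u | u ∈ F.D.R ∧ ∃ n : ℤ, u * (b ^ n)⁻¹ ∈ F.D.Z}
        mul_mem' := by
          rintro u v ⟨hu, n, hn⟩ ⟨hv, n', hn'⟩
          refine ⟨mul_mem hu hv, n + n', ?_⟩
          rw [zpow_add, mul_inv_rev, show u * v * ((b ^ n')⁻¹ * (b ^ n)⁻¹) = u * ((v * (b ^ n')⁻¹) * (b ^ n)⁻¹) by group,
            ← F.D.comm_C (inv_mem (zpow_mem (F.D.R_le hb.2) n)) hn', ← mul_assoc]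
          exact mul_mem hn hn'
        one_mem' := ⟨one_mem _, 0, by simp⟩
        inv_mem' := by
          rintro u ⟨hu, n, hn⟩
          refine ⟨inv_mem hu, -n, ?_⟩
          rw [zpow_neg, inv_inv, show u⁻¹ * b ^ n = u⁻¹ * (u * (b ^ n)⁻¹)⁻¹ * u by group,
            F.D.comm_C (F.D.R_le (inv_mem hu)) (inv_mem hn), inv_mul_cancel_right]
          exact inv_mem hn }
    obtain ⟨-, n, hn⟩ := (hgen ▸ sup_le (fun z hz => (⟨F.D.Z_le hz, 0, by simpa using hz⟩ : z ∈ U))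
      (Subgroup.zpowers_le.2 (⟨hb.2, 1, by simp⟩ : b ∈ U)) : F.D.J ⊓ F.D.R ≤ U) ⟨hJ, hqR⟩
    obtain ⟨z, hz, e⟩ : ∃ z ∈ F.D.Z, (q : G) * b * (q : G)⁻¹ = z * b ^ n := ⟨_, hn, by group⟩
    have e2 : ∃ z' ∈ F.D.Z, ((q * q : ↥F.D.C) : G) * b * ((q * q : ↥F.D.C) : G)⁻¹ = z' * b ^ (n * n) := by
      refine ⟨z * z ^ n, mul_mem hz (zpow_mem hz n), ?_⟩
      have hc : Commute z (b ^ n) := ((show Commute b z from F.D.comm_C (F.D.R_le hb.2) hz).symm.zpow_right n)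
      rw [Subgroup.coe_mul, show (q : G) * q * b * ((q : G) * q)⁻¹ = (q : G) * ((q : G) * b * (q : G)⁻¹) * (q : G)⁻¹ by
        group, e, ← conj_mul, F.D.comm_C q.2 hz, mul_inv_cancel_right, ← conj_zpow, e,
        (show Commute z (b ^ n) from hc).mul_zpow, ← zpow_mul, mul_assoc]
    obtain ⟨z', hz', e'⟩ := e2
    rw [e', mul_assoc] at hinv
    have h2 : b ^ (n * n + 1) ∈ F.D.Z := by
      have := mul_mem (inv_mem hz') hinv
      rwa [inv_mul_cancel_left, ← zpow_add_one] at this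
    refine hbZ ?_
    have hb3 : b ^ (3 : ℤ) = 1 := by rw [show (3 : ℤ) = ((3 : ℕ) : ℤ) from rfl, zpow_natCast, F.D.R_exp hb.2]
    rw [← Int.emod_add_mul_ediv (n * n + 1) 3, zpow_add, zpow_mul, hb3, one_zpow, mul_one] at h2
    rcases (show n % 3 = 0 ∨ n % 3 = 1 ∨ n % 3 = 2 by omega) with h | h | h <;>
      rw [Int.add_emod, Int.mul_emod, h] at h2 <;> norm_num at h2
    · exact h2
    all_goals exact F.D.Z_of_sq hb.2 (by rw [← pow_two]; exact h2)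
  obtain ⟨⟨u', g'⟩, hm', e'⟩ := F.mem_S_iff.1 (F.D.R_le_S hqR)
  have hker : ∀ m : Mon, inS3 m = true → F.el m ∈ F.D.R → m.g ≠ 0 → (m.g = 4 ∨ m.g = 5) ∧ vsum m.v = 0 := by
    intro m hm hR hg
    have hcube : m * m * m = 1 := by
      refine F.el_inj _ (mul_mem (mul_mem (hk _ hm) (hk _ hm)) (hk _ hm)) _ (one_mem _) ?_
      rw [F.el_mul _ (mul_mem (hk _ hm) (hk _ hm)) _ (hk _ hm), F.el_mul _ (hk _ hm) _ (hk _ hm), ← pow_three',
        F.D.R_exp hR, F.el_one]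
    have h := (inS3_facts.2.2.2.2 _ hm hcube).resolve_left hg
    rw [inKer, Bool.and_eq_true, beq_iff_eq] at h
    refine ⟨?_, h.2⟩
    have h1 := h.1
    simp only [inS3, Bool.or_eq_true, beq_iff_eq] at h1
    rcases h1 with (e | e) | e
    · exact absurd e hg
    · exact Or.inl e
    · exact Or.inr e
  have hg' : g' ≠ 0 := fun e => hqJ (e' ▸ (F.mem_J _).2 ⟨u', by rw [e]⟩)
  obtain ⟨h4, h0⟩ := hker m hm hy hm0
  obtain ⟨h4', h0'⟩ := hker _ hm' (e'.symm ▸ hqR) hg'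
  obtain ⟨w, hw⟩ := ker_move m.v h0 m.g h4 u' h0' g' h4'
  have hwC : F.el (tr w) ∈ F.D.C := F.D.J_le ((F.mem_J _).2 ⟨w, rfl⟩)
  refine ⟨(q : G)⁻¹ * (F.el (tr w))⁻¹, mul_mem (inv_mem q.2) (inv_mem hwC), ?_⟩
  rcases hw with hw | hw
  · rw [show m = ⟨m.v, m.g⟩ from rfl, ← hw, F.el_mul _ (mul_mem (tr_mem_Sub _ _) (hk _ hm')) _ (inv_mem (tr_mem_Sub _ _)),
      F.el_mul _ (tr_mem_Sub _ _) _ (hk _ hm'), F.el_inv (tr_mem_Sub _ _), e']
    simpa [mul_assoc] using hb.1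
  · rw [show m = ⟨m.v, m.g⟩ from rfl, ← hw, F.el_mul _ (mul_mem (tr_mem_Sub _ _) (inv_mem (hk _ hm'))) _
      (inv_mem (tr_mem_Sub _ _)), F.el_mul _ (tr_mem_Sub _ _) _ (inv_mem (hk _ hm')), F.el_inv (tr_mem_Sub _ _),
      F.el_inv (hk _ hm'), e']
    simpa [mul_assoc] using hb.1

/-- A conjugate in the elementary subgroup is the image under a rotation. -/
theorem conj_a_J {g : G} (h : g * F.D.a * g⁻¹ ∈ F.D.J) :
    ∃ r : Fin 48, inR F.k r = true ∧ g * F.D.a * g⁻¹ = F.j (act r xv) := by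
  obtain ⟨n, hn, e⟩ := F.D.ctrl_a h
  obtain ⟨m, hm, rfl⟩ := (F.mem_N n).1 hn
  exact ⟨m.g, hm, by rw [← e, ← F.el_conj hm]; rw [show F.j xv = F.D.a from F.el_x]⟩

/-- The element is inverted by some element exactly for two of the sign sets. -/
theorem real_iff : (∃ g : G, g * F.D.a * g⁻¹ = F.D.a⁻¹) ↔ F.k = 1 ∨ F.k = 3 := by
  have hx : F.j xv = F.D.a := F.el_x
  constructor
  · rintro ⟨g, hg⟩
    obtain ⟨r, hr, e⟩ := F.conj_a_J (g := g) (hg ▸ inv_mem F.D.a_mem_J)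
    rw [hg, ← hx, ← F.j_neg] at e
    by_contra h
    push Not at h
    exact orbit_sign.1 F.k ((by decide : ∀ k : Fin 4, k ≠ 1 → k ≠ 3 → k = 0 ∨ k = 2) F.k h.1 h.2) r hr (F.j_inj e).symm
  · intro hk
    obtain ⟨h1, h2⟩ := orbit_sign.2.2 F.k hk
    exact ⟨F.el (rot 42), by rw [← hx, F.el_conj (show rot 42 ∈ Sub F.k from h1), h2, F.j_neg]⟩

/-- For two of the sign sets the subgroup of the element is weakly closed. -/
theorem weakly_closed (hk : F.k = 0 ∨ F.k = 1) {g : G} (hg : g * F.D.a * g⁻¹ ∈ F.D.S) :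
    g * F.D.a * g⁻¹ ∈ F.D.Z := by
  have hJ : ∀ g : G, g * F.D.a * g⁻¹ ∈ F.D.J → g * F.D.a * g⁻¹ ∈ F.D.Z := by
    intro g hg
    obtain ⟨r, hr, e⟩ := F.conj_a_J hg
    rw [e]
    rcases orbit_sign.2.1 F.k hk r hr with h | h <;> rw [h]
    · rw [show F.j xv = F.D.a from F.el_x]; exact Subgroup.mem_zpowers _
    · rw [F.j_neg, show F.j xv = F.D.a from F.el_x]; exact inv_mem (Subgroup.mem_zpowers _)
  obtain ⟨m, hm, e⟩ := F.mem_S_iff.1 hg
  have hmk : m ∈ Sub F.k := Sub_zero_le _ (inS3_facts.1 m hm).1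
  have hcube : m * m * m = 1 := by
    refine F.el_inj _ (mul_mem (mul_mem hmk hmk) hmk) _ (one_mem _) ?_
    rw [F.el_mul _ (mul_mem hmk hmk) _ hmk, F.el_mul _ hmk _ hmk, ← pow_three', e, F.el_one, conj_pow, F.D.cube,
      mul_one, mul_inv_cancel]
  rcases inS3_facts.2.2.2.2 _ hm hcube with h | h
  · refine hJ g (e ▸ (F.mem_J _).2 ⟨m.v, congrArg F.el ?_⟩)
    obtain ⟨v, r⟩ := m
    simp only at h
    rw [h]
  · obtain ⟨c, hc, hcJ⟩ := F.conj_R_into_J (e ▸ F.el_mem_R h)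
    have := hJ (c * g) (by simpa [mul_assoc] using hcJ)
    have e2 : c * g * F.D.a * (c * g)⁻¹ = c * (g * F.D.a * g⁻¹) * c⁻¹ := by group
    rw [e2] at this
    have h3 := F.D.comm_C (inv_mem hc) this
    have e3 : g * F.D.a * g⁻¹ = c⁻¹ * (c * (g * F.D.a * g⁻¹) * c⁻¹) * c⁻¹⁻¹ := by group
    rw [e3, h3, mul_inv_cancel_right]
    exact this

end Frame

end CfsgPSp43Real
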