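import Cfsg.Agent.Lib.PSp43Real.Elem
import Cfsg.Agent.Lib.Sym9Three.Model
import Cfsg.Agent.Lib.ThreeCC.D3Hom

/-!
Monomial coordinates on the normaliser of the elementary subgroup inside the centraliser.
-/

set_option autoImplicit false
set_option linter.style.haveILetI false
set_option synthInstance.maxSize 4000

namespace CfsgPSp43Real

open CfsgLib.Sym9Three (V3 xv Mon Sub tr rot act toR rMul inR permV)

/-- The block permutations as elements of the dihedral group. -/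
def pD (g : Fin 48) : DihedralGroup 3 :=
  ([DihedralGroup.r 0, DihedralGroup.sr 2, DihedralGroup.sr 0, DihedralGroup.sr 1, DihedralGroup.r 1, DihedralGroup.r 2] :
    List (DihedralGroup 3)).getD g.val 1

theorem inR_zero_iff : ∀ g : Fin 48, inR 0 g = true ↔ g.val < 6 := by decide +kernel

theorem pD_mul : ∀ g h : Fin 48, g.val < 6 → h.val < 6 → pD (rMul g h) = pD g * pD h := by decide +kernel

theorem perm_word : ∀ g : Fin 48, g.val < 6 →
    g = 0 ∨ g = 4 ∨ g = rMul 4 4 ∨ g = 2 ∨ g = rMul 4 2 ∨ g = rMul (rMul 4 4) 2 := by decide +kernel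

theorem perm_vals : pD 0 = 1 ∧ pD 4 = DihedralGroup.r 1 ∧ pD 2 = DihedralGroup.sr 0 ∧ (rMul 4 4 : Fin 48).val < 6 := by
  decide +kernel

theorem kernel_step : ∀ v : V3, v + act 4 v + act (rMul 4 4) v = (v.1 + v.2.1 + v.2.2, v.1 + v.2.1 + v.2.2, v.1 + v.2.1 + v.2.2) ∧
    (v.1 + v.2.1 + v.2.2 = 0 → ∃ c : ZMod 3, act 4 v - v = (c, c, c) ∧ (c = 0 → ∃ d : ZMod 3, v = (d, d, d))) := by
  decide +kernel

namespace Setup

variable {G : Type*} [Group G] (D : Setup G) [Finite G]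

theorem norm_J {g : G} (hg : g ∈ D.S) {j : G} (hj : j ∈ D.J) : g * j * g⁻¹ ∈ D.J := by
  have e : D.J.map (MulAut.conj g).toMonoidHom = D.J := by
    refine D.eq_J ?_ ?_ ?_
    · rintro _ ⟨i, hi, rfl⟩
      exact mul_mem (mul_mem hg (D.J_le_S hi)) (inv_mem hg)
    · rintro _ ⟨u, hu, rfl⟩ _ ⟨v, hv, rfl⟩
      rw [← map_mul, ← map_mul, D.J_comm u hu v hv]
    · rw [Subgroup.card_map_of_injective (f := (MulAut.conj g).toMonoidHom) (MulAut.conj g).injective, D.J_card]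
  rw [← e]
  exact ⟨j, hj, rfl⟩

theorem card_inf : 9 ≤ Nat.card (D.J ⊓ D.R : Subgroup G) := by
  have h := card_mul_le D.J_le_S D.R_le_S
  rw [D.J_card, D.card_R] at h
  have := D.card_S_le
  nlinarith

theorem inf_sup_eq {r : G} (hr : r ∈ D.R) (hrJ : r ∉ D.J) {U : Subgroup G} (h1 : D.J ⊓ D.R ≤ U) (h2 : r ∈ U)
    (hU : U ≤ D.R) : U = D.R := by
  haveI : Fact (Nat.Prime 3) := ⟨Nat.prime_three⟩
  refine Subgroup.eq_of_le_of_card_ge hU ?_
  have hlt : 9 < Nat.card U := by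
    refine Nat.lt_of_le_of_ne (D.card_inf.trans (Subgroup.card_le_of_le h1)) fun e => hrJ ?_
    have hh : D.J ⊓ D.R = U := Subgroup.eq_of_le_of_card_ge h1 (e ▸ D.card_inf)
    exact (hh.symm ▸ h2 : r ∈ D.J ⊓ D.R).1
  have hd := Subgroup.card_dvd_of_le hU
  rw [D.card_R] at hd ⊢
  obtain ⟨i, hi, e⟩ := (Nat.dvd_prime_pow Nat.prime_three).1 (show Nat.card U ∣ 3 ^ 3 from hd)
  rw [e] at hlt ⊢
  interval_cases i <;> omega

/-- The basis and the two permutations. -/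
theorem exists_basis : ∃ (e r : G) (t : ↥D.C), e ∈ D.J ∧ r ∈ D.R ∧ r ∉ D.J ∧ D.π t = -1 ∧ (t : G) * t = 1 ∧
    (t : G) * e * t = e ∧ (t : G) * r * t = r⁻¹ ∧ (∀ j ∈ D.J, (t : G) * j * t ∈ D.J) ∧
    e * (r * e * r⁻¹) * (r * (r * e * r⁻¹) * r⁻¹) = D.a := by
  obtain ⟨t, hπ, htt, htJ⟩ := D.exists_invol
  have hti : (t : G)⁻¹ = t := inv_eq_of_mul_eq_one_right htt
  have ht2 : ∀ u : G, (t : G) * ((t : G) * u) = u := fun u => by rw [← mul_assoc, htt, one_mul]
  -- the element outside the kernel fixed by the involution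
  obtain ⟨c, hcdef⟩ : ∃ c, c = D.j0 * ((t : G) * D.j0 * t) := ⟨_, rfl⟩
  have hcJ : c ∈ D.J := hcdef ▸ mul_mem D.j0_mem (htJ _ D.j0_mem)
  have hct : (t : G) * c * t = c := by
    calc (t : G) * c * t = ((t : G) * D.j0 * t) * D.j0 := by
          rw [hcdef]; simp [mul_assoc, ht2, htt]
      _ = c := by rw [hcdef]; exact D.J_comm _ (htJ _ D.j0_mem) _ D.j0_mem
  have hcπ : D.π ⟨c, D.J_le hcJ⟩ = D.X * D.X := by
    rw [show (⟨c, D.J_le hcJ⟩ : ↥D.C) = ⟨D.j0, D.J_le D.j0_mem⟩ * (t * ⟨D.j0, D.J_le D.j0_mem⟩ * t) from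
      Subtype.ext hcdef, map_mul, map_mul, map_mul, hπ, ← X, sl_neg.2.2.1, mul_assoc D.X (-1), sl_neg.2.1, mul_one]
  have hcR : c ∉ D.R := fun h => (sl_three_sq _ D.X_cube D.X_ne).1 (hcπ ▸ (D.mem_R (x := ⟨c, D.J_le hcJ⟩)).1 h)
  -- the element of the kernel inverted by the involution
  obtain ⟨y, hy, hyJ⟩ := SetLike.not_le_iff_exists.1 (show ¬ D.R ≤ D.J from fun h => D.J_not_le
    (Subgroup.eq_of_le_of_card_ge h (by rw [D.J_card, D.card_R])).ge)
  obtain ⟨r, hrdef⟩ : ∃ r, r = y⁻¹ * ((t : G) * y * t) := ⟨_, rfl⟩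
  have hyR' : (t : G) * y * t ∈ D.R := by
    have := D.conj_R t.2 hy
    rwa [hti] at this
  have hrR : r ∈ D.R := hrdef ▸ mul_mem (inv_mem hy) hyR'
  have hrt : (t : G) * r * t = r⁻¹ := by
    rw [hrdef, mul_inv_rev, inv_inv]
    calc (t : G) * (y⁻¹ * ((t : G) * y * t)) * t = (t : G) * y⁻¹ * (t : G) * y * ((t : G) * t) := by group
      _ = ((t : G) * y * t)⁻¹ * y := by rw [htt, mul_one, mul_inv_rev, mul_inv_rev, hti]; group
  have hz : (t : G) * y * t * y ∈ D.Z := by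
    have := D.neg_inverts hπ hy
    rwa [hti] at this
  have hrJ : r ∉ D.J := by
    intro h
    obtain ⟨z, hzdef⟩ : ∃ z, z = (t : G) * y * t * y := ⟨_, rfl⟩
    rw [← hzdef] at hz
    have e1 : r = y⁻¹ * z * y⁻¹ := by rw [hrdef, hzdef]; group
    rw [← D.comm_C (D.R_le (inv_mem hy)) hz |>.symm, mul_assoc, ← mul_inv_rev, cube_sq (D.R_exp hy), inv_inv] at e1
    refine hyJ ?_
    have hzJ : z ∈ D.J := (Subgroup.zpowers_le.2 D.a_mem_J) hz
    rw [show y = z⁻¹ * r by rw [e1]; group]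
    exact mul_mem (inv_mem hzJ) h
  have hrS := D.R_le_S hrR
  have hS : D.J ⊔ Subgroup.zpowers r = D.S := D.closure_S le_sup_left
    (sup_le D.J_le_S (Subgroup.zpowers_le.2 hrS)) fun h => hrJ (h (Subgroup.mem_sup_right (Subgroup.mem_zpowers r)))
  have hr3 := D.R_exp hrR
  -- the norm of the fixed element
  obtain ⟨n, hn⟩ : ∃ n, n = c * (r * c * r⁻¹) * (r * (r * c * r⁻¹) * r⁻¹) := ⟨_, rfl⟩
  have h2 : r * c * r⁻¹ ∈ D.J := D.norm_J hrS hcJ
  have h3 : r * (r * c * r⁻¹) * r⁻¹ ∈ D.J := D.norm_J hrS h2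
  have hnJ : n ∈ D.J := hn ▸ mul_mem (mul_mem hcJ h2) h3
  have hcentral : ∀ u ∈ D.J, r * u * r⁻¹ = u → u ∈ D.Z := by
    intro u hu hur
    refine D.center_S (D.J_le_S hu) fun w hw => ?_
    have hle : D.J ⊔ Subgroup.zpowers r ≤ Subgroup.centralizer ({u} : Set G) := sup_le
      (fun p hp => Subgroup.mem_centralizer_singleton_iff.2 (D.J_comm p hp u hu))
      (Subgroup.zpowers_le.2 (Subgroup.mem_centralizer_singleton_iff.2 (mul_inv_eq_iff_eq_mul.1 hur)))
    exact (Subgroup.mem_centralizer_singleton_iff.1 (hle (hS.symm ▸ hw))).symm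
  have hnr : r * n * r⁻¹ = n := by
    have e4 : r * (r * (r * c * r⁻¹) * r⁻¹) * r⁻¹ = c := by
      calc _ = r ^ 3 * c * (r ^ 3)⁻¹ := by rw [pow_three]; group
        _ = c := by rw [hr3]; group
    calc r * n * r⁻¹ = (r * c * r⁻¹) * (r * (r * c * r⁻¹) * r⁻¹) * (r * (r * (r * c * r⁻¹) * r⁻¹) * r⁻¹) := by
          rw [hn]; group
      _ = (r * c * r⁻¹) * (r * (r * c * r⁻¹) * r⁻¹) * c := by rw [e4]
      _ = c * ((r * c * r⁻¹) * (r * (r * c * r⁻¹) * r⁻¹)) := D.J_comm _ (mul_mem h2 h3) _ hcJ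
      _ = n := by rw [hn]; group
  have hn1 : n ≠ 1 := by
    intro e
    obtain ⟨d, hd⟩ : ∃ d, d = r * c * r⁻¹ * c⁻¹ := ⟨_, rfl⟩
    have hdJ : d ∈ D.J := hd ▸ mul_mem h2 (inv_mem hcJ)
    have hdr : r * d * r⁻¹ = d := by
      have ec : r * d * r⁻¹ = (r * (r * c * r⁻¹) * r⁻¹) * (r * c * r⁻¹)⁻¹ := by rw [hd]; group
      rw [ec, mul_inv_eq_iff_eq_mul, hd]
      obtain ⟨p, hp⟩ : ∃ p, p = r * c * r⁻¹ := ⟨_, rfl⟩
      rw [← hp] at h2 h3 hn ⊢
      have e' : r * p * r⁻¹ = (c * p)⁻¹ := eq_inv_of_mul_eq_one_right (by rw [← hn, e])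
      have hp2 : p * p = p⁻¹ := cube_sq (D.J_exp _ h2)
      rw [e', mul_assoc, D.J_comm _ (inv_mem hcJ) _ h2, ← mul_assoc, hp2, mul_inv_rev]
    have hdZ := hcentral d hdJ hdr
    have hN : ∀ u ∈ D.R, c * u * c⁻¹ * u⁻¹ ∈ D.Z := by
      let U : Subgroup G :=
        { carrier := {u | u ∈ D.R ∧ c * u * c⁻¹ * u⁻¹ ∈ D.Z}
          mul_mem' := by
            rintro p q ⟨hp, hp'⟩ ⟨hq, hq'⟩
            refine ⟨mul_mem hp hq, ?_⟩
            rw [show c * (p * q) * c⁻¹ * (p * q)⁻¹ = (c * p * c⁻¹ * p⁻¹) * (p * (c * q * c⁻¹ * q⁻¹) * p⁻¹) by group,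
              D.comm_C (D.R_le hp) hq', mul_inv_cancel_right]
            exact mul_mem hp' hq'
          one_mem' := ⟨one_mem _, by simp⟩
          inv_mem' := by
            rintro p ⟨hp, hp'⟩
            refine ⟨inv_mem hp, ?_⟩
            rw [show c * p⁻¹ * c⁻¹ * p⁻¹⁻¹ = p⁻¹ * (c * p * c⁻¹ * p⁻¹)⁻¹ * p by group,
              D.comm_C (D.R_le (inv_mem hp)) (inv_mem hp'), inv_mul_cancel_right]
            exact inv_mem hp' }
      have hU : U = D.R := D.inf_sup_eq hrR hrJ (fun u hu => ⟨hu.2, by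
        rw [D.J_comm c hcJ u hu.1]; simp⟩) ⟨hrR, by
          rw [show c * r * c⁻¹ * r⁻¹ = d⁻¹ by rw [hd]; group]
          exact inv_mem hdZ⟩ fun u hu => hu.1
      exact fun u hu => (hU.symm ▸ hu : u ∈ U).2
    let N' : Subgroup ↥D.C :=
      { carrier := {z | ∀ u ∈ D.R, (z : G) * u * (z : G)⁻¹ * u⁻¹ ∈ D.Z}
        mul_mem' := by
          intro p q hp hq u hu
          have h1 := hq u hu
          have h2' := hp _ (D.conj_R q.2 hu)
          rw [Subgroup.coe_mul, show (p : G) * q * u * ((p : G) * q)⁻¹ * u⁻¹ =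
            ((p : G) * ((q : G) * u * (q : G)⁻¹) * (p : G)⁻¹ * ((q : G) * u * (q : G)⁻¹)⁻¹) *
              ((q : G) * u * (q : G)⁻¹ * u⁻¹) by group]
          exact mul_mem h2' h1
        one_mem' := fun u hu => by simp
        inv_mem' := by
          intro p hp u hu
          have hu' : (p : G)⁻¹ * u * p ∈ D.R := by
            have := D.conj_R (inv_mem p.2) hu
            rwa [inv_inv] at this
          have h1 := inv_mem (hp _ hu')
          rw [Subgroup.coe_inv]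
          simpa [mul_assoc] using h1 }
    obtain ⟨w, hw, hwπ⟩ := D.exists_neg N' ⟨fun z hz g u hu => by
      have hu' : (g : G)⁻¹ * u * g ∈ D.R := by
        have := D.conj_R (inv_mem g.2) hu
        rwa [inv_inv] at this
      have h1 := hz _ hu'
      rw [Subgroup.coe_mul, Subgroup.coe_mul, Subgroup.coe_inv,
        show (g : G) * z * (g : G)⁻¹ * u * ((g : G) * z * (g : G)⁻¹)⁻¹ * u⁻¹ =
          (g : G) * ((z : G) * ((g : G)⁻¹ * u * g) * (z : G)⁻¹ * ((g : G)⁻¹ * u * g)⁻¹) * (g : G)⁻¹ by group,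
        D.comm_C g.2 h1, mul_inv_cancel_right]
      exact h1⟩ (x := ⟨c, D.J_le hcJ⟩) hN fun h => hcR ((D.mem_R (x := ⟨c, D.J_le hcJ⟩)).2 h)
    have hle : D.R ≤ D.Z := fun u hu => D.Z_of_sq hu (by
      have h1 := D.neg_inverts hwπ hu
      have h2' := hw u hu
      have := mul_mem (inv_mem h2') h1
      simpa [mul_assoc] using this)
    have := Subgroup.card_le_of_le hle
    rw [D.card_R, D.card_Z] at this
    omega
  have hnZ := hcentral n hnJ hnr
  rcases D.Z_cases hnZ with h | h | h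
  · exact absurd h hn1
  · exact ⟨c, r, t, hcJ, hrR, hrJ, hπ, htt, hct, hrt, htJ, hn ▸ h⟩
  · refine ⟨c⁻¹, r, t, inv_mem hcJ, hrR, hrJ, hπ, htt, ?_, hrt, htJ, ?_⟩
    · have := congrArg (·⁻¹) hct
      simpa [mul_assoc, hti] using this
    · rw [← inv_inv D.a, ← h, hn]
      obtain ⟨p, hp⟩ : ∃ p, p = r * c * r⁻¹ := ⟨_, rfl⟩
      rw [show r * c⁻¹ * r⁻¹ = p⁻¹ by rw [hp]; group, show r * p⁻¹ * r⁻¹ = (r * p * r⁻¹)⁻¹ by group, ← hp,
        ← mul_inv_rev, ← mul_inv_rev]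
      congr 1
      rw [← hp] at h2 h3
      rw [D.J_comm p h2 c hcJ]
      exact D.J_comm _ h3 _ (mul_mem hcJ h2)

/-- The coordinates. -/
theorem exists_phi : ∃ φ : Sub 0 →* G, Function.Injective φ ∧ φ ⟨tr xv, CfsgLib.Sym9Three.tr_mem_Sub 0 xv⟩ = D.a ∧
    (∀ g, g ∈ D.J ↔ ∃ v, φ ⟨tr v, CfsgLib.Sym9Three.tr_mem_Sub 0 v⟩ = g) ∧
    (∀ m, φ m ∈ D.C) ∧ (∀ g ∈ D.C, g ∈ Subgroup.normalizer (D.J : Set G) → ∃ m, φ m = g) ∧
    φ ⟨rot 4, (inR_zero_iff 4).2 (by decide)⟩ ∈ D.R ∧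
    ∃ h : φ ⟨rot 2, (inR_zero_iff 2).2 (by decide)⟩ ∈ D.C, D.π ⟨_, h⟩ = -1 := by
  classical
  obtain ⟨e, r, t, heJ, hrR, hrJ, hπ, htt, het, hrt, htJ, hnorm⟩ := D.exists_basis
  have hti : (t : G)⁻¹ = t := inv_eq_of_mul_eq_one_right htt
  have hrS := D.R_le_S hrR
  have hr3 := D.R_exp hrR
  obtain ⟨e2, he2⟩ : ∃ x, x = r * e * r⁻¹ := ⟨_, rfl⟩
  obtain ⟨e3, he3⟩ : ∃ x, x = r * e2 * r⁻¹ := ⟨_, rfl⟩
  rw [← he2, ← he3] at hnorm
  have h2J : e2 ∈ D.J := he2 ▸ D.norm_J hrS heJ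
  have h3J : e3 ∈ D.J := he3 ▸ D.norm_J hrS h2J
  have hr4 : r * e3 * r⁻¹ = e := by
    calc r * e3 * r⁻¹ = r ^ 3 * e * (r ^ 3)⁻¹ := by rw [he3, he2, pow_three]; group
      _ = e := by rw [hr3]; group
  have ht23 : (t : G) * e2 * t = e3 := by
    have hrr : r⁻¹ = r * r := (cube_sq hr3).symm
    calc (t : G) * e2 * t = ((t : G) * r * t) * ((t : G) * e * t) * ((t : G) * r * t)⁻¹ := by
          rw [he2, mul_inv_rev, mul_inv_rev, hti]
          simp [mul_assoc, htt, ← mul_assoc (t : G) (t : G)]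
      _ = r⁻¹ * e * r⁻¹⁻¹ := by rw [het, hrt]
      _ = e3 := by rw [← hr4]; group
  let jv : V3 → G := fun v => e ^ v.1.val * e2 ^ v.2.1.val * e3 ^ v.2.2.val
  have hpow : ∀ u ∈ D.J, ∀ a b : ZMod 3, u ^ (a + b).val = u ^ a.val * u ^ b.val := fun u hu a b => by
    rw [ZMod.val_add, ← pow_eq_pow_mod _ (D.J_exp u hu), pow_add]
  have hjJ : ∀ v, jv v ∈ D.J := fun v => mul_mem (mul_mem (pow_mem heJ _) (pow_mem h2J _)) (pow_mem h3J _)
  have hadd : ∀ v w : V3, jv (v + w) = jv v * jv w := by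
    intro v w
    letI : CommGroup D.J := { (inferInstance : Group D.J) with mul_comm := fun p q => Subtype.ext (D.J_comm _ p.2 _ q.2) }
    have key : ∀ (p q s : D.J) (a b c a' b' c' : ℕ),
        p ^ a * p ^ a' * (q ^ b * q ^ b') * (s ^ c * s ^ c') = p ^ a * q ^ b * s ^ c * (p ^ a' * q ^ b' * s ^ c') :=
      fun p q s a b c a' b' c' => by simp only [mul_comm, mul_left_comm, mul_assoc]
    have := congrArg Subtype.val
      (key ⟨e, heJ⟩ ⟨e2, h2J⟩ ⟨e3, h3J⟩ v.1.val v.2.1.val v.2.2.val w.1.val w.2.1.val w.2.2.val)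
    simpa [jv, hpow e heJ, hpow e2 h2J, hpow e3 h3J] using this
  have hr' : ∀ v, r * jv v * r⁻¹ = jv (act 4 v) := fun v => by
    obtain ⟨a, b, c⟩ := v
    rw [show act 4 ((a, b, c) : V3) = (c, a, b) by revert a b c; decide +kernel]
    show r * (e ^ a.val * e2 ^ b.val * e3 ^ c.val) * r⁻¹ = e ^ c.val * e2 ^ a.val * e3 ^ b.val
    rw [← conj_mul, ← conj_mul, ← conj_pow, ← conj_pow, ← conj_pow, ← he2, ← he3, hr4,
      D.J_comm _ (mul_mem (pow_mem h2J _) (pow_mem h3J _)) _ (pow_mem heJ _), mul_assoc]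
  have ht' : ∀ v, (t : G) * jv v * (t : G)⁻¹ = jv (act 2 v) := fun v => by
    obtain ⟨a, b, c⟩ := v
    rw [show act 2 ((a, b, c) : V3) = (a, c, b) by revert a b c; decide +kernel]
    show (t : G) * (e ^ a.val * e2 ^ b.val * e3 ^ c.val) * (t : G)⁻¹ = e ^ a.val * e2 ^ c.val * e3 ^ b.val
    have h32 : (t : G) * e3 * t = e2 := by
      rw [← ht23]
      calc (t : G) * ((t : G) * e2 * t) * t = ((t : G) * t) * e2 * ((t : G) * t) := by group
        _ = e2 := by rw [htt]; group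
    rw [← conj_mul, ← conj_mul, ← conj_pow, ← conj_pow, ← conj_pow, hti, het, ht23, h32, mul_assoc, mul_assoc,
      D.J_comm _ (pow_mem h3J _) _ (pow_mem h2J _)]
  have hxv : jv xv = D.a := by
    show e ^ (1 : ZMod 3).val * e2 ^ (1 : ZMod 3).val * e3 ^ (1 : ZMod 3).val = D.a
    rw [ZMod.val_one, pow_one, pow_one, pow_one, hnorm]
  -- the two permutations
  let f := CfsgLib.ThreeCC.d3Hom r (t : G) hr3 htt (by rw [hti, hrt])
  have fr : f (DihedralGroup.r 1) = r := by show r ^ (1 : ZMod 3).val = r; rw [ZMod.val_one, pow_one]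
  have ft : f (DihedralGroup.sr 0) = t := by
    show (t : G) * r ^ (0 : ZMod 3).val = t
    rw [ZMod.val_zero, pow_zero, mul_one]
  have hf4 : ∀ v, f (pD 4) * jv v * (f (pD 4))⁻¹ = jv (act 4 v) := fun v => by rw [perm_vals.2.1, fr]; exact hr' v
  have hf2 : ∀ v, f (pD 2) * jv v * (f (pD 2))⁻¹ = jv (act 2 v) := fun v => by rw [perm_vals.2.2.1, ft]; exact ht' v
  have hcomp : ∀ g h : Fin 48, g.val < 6 → h.val < 6 → (∀ v, f (pD g) * jv v * (f (pD g))⁻¹ = jv (act g v)) →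
      (∀ v, f (pD h) * jv v * (f (pD h))⁻¹ = jv (act h v)) →
      ∀ v, f (pD (rMul g h)) * jv v * (f (pD (rMul g h)))⁻¹ = jv (act (rMul g h) v) := fun g h hg hh p q v => by
    rw [pD_mul g h hg hh, map_mul, CfsgLib.Sym9Three.act_mul, ← p, ← q]
    group
  have hconj : ∀ g : Fin 48, g.val < 6 → ∀ v, f (pD g) * jv v * (f (pD g))⁻¹ = jv (act g v) := by
    intro g hg
    have h4 : (4 : Fin 48).val < 6 := by decide
    have h2 : (2 : Fin 48).val < 6 := by decide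
    have h44 := hcomp 4 4 h4 h4 hf4 hf4
    rcases perm_word g hg with rfl | rfl | rfl | rfl | rfl | rfl
    · intro v
      rw [perm_vals.1, map_one, one_mul, inv_one, mul_one, CfsgLib.Sym9Three.act_one]
    · exact hf4
    · exact h44
    · exact hf2
    · exact hcomp 4 2 h4 h2 hf4 hf2
    · exact hcomp _ 2 perm_vals.2.2.2 h2 h44 hf2
  let φ : Sub 0 →* G := MonoidHom.mk' (fun m => jv m.1.v * f (pD m.1.g)) fun p q => by
    have hp := (inR_zero_iff _).1 p.2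
    have hq := (inR_zero_iff _).1 q.2
    show jv (p.1.v + act p.1.g q.1.v) * f (pD (rMul p.1.g q.1.g)) = _
    rw [hadd, pD_mul _ _ hp hq, map_mul, ← hconj _ hp]
    group
  have hφ : ∀ m, φ m = jv m.1.v * f (pD m.1.g) := fun m => rfl
  have hφtr : ∀ v, φ ⟨tr v, CfsgLib.Sym9Three.tr_mem_Sub 0 v⟩ = jv v := fun v => by
    rw [hφ]
    show jv v * f (pD 0) = jv v
    rw [perm_vals.1, map_one, mul_one]
  have hj0 : jv 0 = 1 := by simp [jv]
  -- injectivity
  have hline : ∀ d : ZMod 3, jv (d, d, d) = D.a ^ d.val := fun d => by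
    rw [← hxv]
    have hn : ∀ n : ℕ, jv (n • xv) = jv xv ^ n := fun n => by
      induction n with
      | zero => rw [zero_smul, hj0, pow_zero]
      | succ n ih => rw [succ_nsmul, hadd, ih, pow_succ]
    rw [← hn, show ((d, d, d) : V3) = d.val • xv by revert d; decide +kernel]
  have hline0 : ∀ d : ZMod 3, jv (d, d, d) = 1 → d = 0 := fun d h => by
    rw [hline] at h
    have h1 := orderOf_dvd_of_pow_eq_one h
    rw [D.ord] at h1
    exact (by decide : ∀ d : ZMod 3, 3 ∣ d.val → d = 0) d h1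
  have hjinj : ∀ v, jv v = 1 → v = 0 := by
    intro v hv
    obtain ⟨hs, hc⟩ := kernel_step v
    have h4 : jv (act 4 v) = 1 := by rw [← hr', hv]; simp
    have h5 : jv (act (rMul 4 4) v) = 1 := by rw [CfsgLib.Sym9Three.act_mul, ← hr', h4]; simp
    have h0 : v.1 + v.2.1 + v.2.2 = 0 := hline0 _ (by rw [← hs, hadd, hadd, hv, h4, h5]; simp)
    obtain ⟨c, hc1, hc2⟩ := hc h0
    have hc0 : c = 0 := hline0 _ (by
      rw [← hc1]
      have h := hadd (act 4 v - v) v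
      rw [sub_add_cancel, h4, hv, mul_one] at h
      exact h.symm)
    obtain ⟨d, rfl⟩ := hc2 hc0
    rw [hline0 d hv]
    rfl
  have hXC : ∀ g : ↥D.C, (g : G) ∈ D.J → D.π g ≠ -1 := fun g hg h => by
    have h3 : g ^ 3 = 1 := Subtype.ext (D.J_exp _ hg)
    have := congrArg D.π h3
    rw [map_pow, h, map_one, pow_succ, pow_two, sl_neg.2.1, one_mul] at this
    exact sl_neg.1 this
  have hrC : r ∈ D.C := D.R_le hrR
  have hπr : D.π ⟨r, hrC⟩ = 1 := (D.mem_R (x := ⟨r, hrC⟩)).1 hrR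
  have hfker : ∀ g : Fin 48, g.val < 6 → f (pD g) ∈ D.J → g = 0 := by
    intro g hg h
    have e44 : pD (rMul 4 4) = DihedralGroup.r 1 * DihedralGroup.r 1 := by decide +kernel
    rcases perm_word g hg with rfl | rfl | rfl | rfl | rfl | rfl
    · rfl
    · rw [perm_vals.2.1, fr] at h; exact absurd h hrJ
    · rw [e44, map_mul, fr, cube_sq hr3] at h; exact absurd (by simpa using inv_mem h) hrJ
    · rw [perm_vals.2.2.1, ft] at h; exact absurd hπ (hXC t h)
    · exfalso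
      rw [pD_mul _ _ (by decide) (by decide), map_mul, perm_vals.2.1, perm_vals.2.2.1, fr, ft] at h
      exact hXC (⟨r, hrC⟩ * t) h (by rw [map_mul, hπr, hπ, one_mul])
    · exfalso
      rw [pD_mul _ _ perm_vals.2.2.2 (by decide), map_mul, e44, map_mul, perm_vals.2.2.1, fr, ft] at h
      exact hXC (⟨r, hrC⟩ * ⟨r, hrC⟩ * t) h (by rw [map_mul, map_mul, hπr, hπ, one_mul, one_mul])
  have hinj : Function.Injective φ := by
    refine (injective_iff_map_eq_one φ).2 fun m hm => ?_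
    rw [hφ] at hm
    have hg := (inR_zero_iff _).1 m.2
    have h0 : m.1.g = 0 := hfker _ hg (by
      rw [eq_inv_of_mul_eq_one_right hm]; exact inv_mem (hjJ _))
    rw [h0, perm_vals.1, map_one, mul_one] at hm
    refine Subtype.ext ?_
    have hv := hjinj _ hm
    obtain ⟨⟨v, g⟩, hm'⟩ := m
    simp only at h0 hv
    subst h0 hv
    rfl
  have hJ : ∀ g, g ∈ D.J ↔ ∃ v, jv v = g := by
    have hj : Function.Bijective (fun v => (⟨jv v, hjJ v⟩ : D.J)) := by
      have hi : Function.Injective (fun v => (⟨jv v, hjJ v⟩ : D.J)) := fun u v huv => by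
        have h := congrArg Subtype.val huv
        change jv u = jv v at h
        refine sub_eq_zero.1 (hjinj _ ?_)
        have h' := hadd (u - v) v
        rw [sub_add_cancel, h] at h'
        exact (mul_eq_right (b := jv v)).1 h'.symm
      exact hi.bijective_of_nat_card_le (by rw [D.J_card, Nat.card_eq_fintype_card]; rfl)
    exact fun g => ⟨fun hg => (hj.2 ⟨g, hg⟩).imp fun v hv => congrArg Subtype.val hv, fun ⟨v, hv⟩ => hv ▸ hjJ v⟩
  have hφC : ∀ m, φ m ∈ D.C := by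
    intro m
    rw [hφ]
    refine mul_mem (D.J_le (hjJ _)) ?_
    rcases perm_word _ ((inR_zero_iff _).1 m.2) with e | e | e | e | e | e <;> rw [e] <;>
      simp only [perm_vals.1, perm_vals.2.1, perm_vals.2.2.1, pD_mul _ _ (show (4 : Fin 48).val < 6 by decide)
        (show (4 : Fin 48).val < 6 by decide), pD_mul _ _ (show (4 : Fin 48).val < 6 by decide)
        (show (2 : Fin 48).val < 6 by decide), pD_mul _ _ perm_vals.2.2.2 (show (2 : Fin 48).val < 6 by decide),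
        map_one, map_mul, fr, ft, one_mem, mul_mem, hrC, SetLike.coe_mem]
  have h4v : φ ⟨rot 4, (inR_zero_iff 4).2 (by decide)⟩ = r := by
    rw [hφ]; show jv 0 * f (pD 4) = r; rw [hj0, one_mul, perm_vals.2.1, fr]
  have h2v : φ ⟨rot 2, (inR_zero_iff 2).2 (by decide)⟩ = (t : G) := by
    rw [hφ]; show jv 0 * f (pD 2) = (t : G); rw [hj0, one_mul, perm_vals.2.2.1, ft]
  refine ⟨φ, hinj, by rw [hφtr, hxv], fun g => by simp only [hφtr]; exact hJ g, hφC, ?_, h4v ▸ hrR,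
    h2v ▸ t.2, ?_⟩
  · -- the range
    have hS : D.S ≤ φ.range := by
      have hle : D.J ⊔ Subgroup.zpowers r ≤ φ.range := sup_le
        (fun u hu => by obtain ⟨v, rfl⟩ := (hJ u).1 hu; exact ⟨_, hφtr v⟩)
        (Subgroup.zpowers_le.2 ⟨_, h4v⟩)
      refine (D.closure_S le_sup_left (sup_le D.J_le_S (Subgroup.zpowers_le.2 hrS)) fun h => ?_) ▸ hle
      exact hrJ (h (Subgroup.mem_sup_right (Subgroup.mem_zpowers r)))
    intro g hg hgN
    have hj := (Subgroup.mem_normalizer_iff.1 hgN _).1 D.j0_mem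
    have hjS : D.π (⟨g, hg⟩ * ⟨D.j0, D.J_le D.j0_mem⟩ * ⟨g, hg⟩⁻¹) = D.X ∨
        D.π (⟨g, hg⟩ * ⟨D.j0, D.J_le D.j0_mem⟩ * ⟨g, hg⟩⁻¹) = D.X * D.X := by
      rcases (D.mem_S (g := ⟨g, hg⟩ * ⟨D.j0, D.J_le D.j0_mem⟩ * ⟨g, hg⟩⁻¹)).1 (D.J_le_S hj) with h | h
      · rw [map_mul, map_mul, map_inv, conj_eq_one_iff] at h
        exact absurd h D.X_ne
      · exact h
    rw [map_mul, map_mul, map_inv, ← X] at hjS
    show g ∈ φ.range
    rcases sl_three_norm _ _ D.X_cube D.X_ne hjS with h | h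
    · exact hS ⟨hg, h⟩
    · have hgt : g * t ∈ D.S := by
        refine (D.mem_S (g := ⟨g, hg⟩ * t)).2 ?_
        rw [map_mul, hπ]
        rcases h with h | h | h <;> rw [h]
        · left; exact sl_neg.2.1
        · right; left; rw [neg_mul, ← sl_neg.2.2.1, neg_mul, one_mul, neg_neg]
        · right; right; rw [neg_mul, ← sl_neg.2.2.1, neg_mul, one_mul, neg_neg]
      have := φ.range.mul_mem (hS hgt) ⟨_, h2v⟩
      rwa [mul_assoc, htt, mul_one] at this
  · rw [← hπ]; exact congrArg D.π (Subtype.ext h2v)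

end Setup

end CfsgPSp43Real
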