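import Cfsg.Agent.Lib.Sym9Three.SixCoords
import Cfsg.Agent.Lib.SymThreeAltSix.Relabel

/-!
Normal forms in the symmetric group of degree six for the wreath product of two symmetric groups of degree three.
-/

set_option autoImplicit false
set_option maxRecDepth 8000
set_option synthInstance.maxSize 4000

namespace CfsgPSp43Real

open Equiv Equiv.Perm
open CfsgLib.Sym9Three (fixCount fixCount_conj six_three_classes)
open CfsgSTS (theta theta_apply theta_inj thetaFun thetaFun_spec thetaFun_eq total total_inj)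

/-- The cycle on the first three points. -/
def cA : Perm (Fin 6) := swap 0 1 * swap 1 2

/-- The cycle on the last three points. -/
def cB : Perm (Fin 6) := swap 3 4 * swap 4 5

/-- The exchange of the two triples. -/
def cW : Perm (Fin 6) := swap 0 3 * swap 1 4 * swap 2 5

theorem theta_double : fixCount (theta (cA * cB)) = 3 := by
  have h : ∀ i, theta (cA * cB) i = i ↔ (total i).image (fun s => cA * cB * s * (cA * cB)⁻¹) = total i := fun i => by
    rw [theta_apply]
    exact ⟨fun e => (thetaFun_spec _ i).trans (congrArg total e), thetaFun_eq⟩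
  rw [fixCount, Finset.filter_congr fun i _ => h i]
  decide +kernel

theorem frame_three : fixCount cA = 3 ∧
    (∀ b : Perm (Fin 6), b * b * b = 1 → b * cA = cA * b → fixCount b = 3 →
      b = cA ∨ b = cA * cA ∨ b = cB ∨ b = cB * cB) ∧
    swap 4 5 * cA = cA * swap 4 5 ∧ swap 4 5 * (cB * cB) * swap 4 5 = cB ∧ cA * cB = cB * cA ∧
    (∀ i : Fin 3, cA ^ i.val * cB = cB * cA ^ i.val ∧ cB ^ i.val * cA = cA * cB ^ i.val ∧
      cB ^ i.val * swap 0 1 = swap 0 1 * cB ^ i.val) := by decide +kernel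

theorem frame_invol : (∀ σ : Perm (Fin 6), σ * σ = 1 → σ * cA = cA * cA * σ → σ * cB = cB * σ →
      ∃ i : Fin 3, cA ^ i.val * σ = swap 0 1 * cA ^ i.val) ∧
    (∀ ω : Perm (Fin 6), ω * ω = 1 → ω * cA = cB * ω →
      (∃ j : Fin 3, cB ^ j.val * (ω * swap 0 1 * ω) = swap 3 4 * cB ^ j.val) ∧
        (ω * swap 0 1 * ω = swap 3 4 → ω = cW)) := by decide +kernel

/-- Generators of a wreath product of two symmetric groups of degree three. -/
structure Wr (a b σ τ ω : Perm (Fin 6)) : Prop where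
  cube : a * a * a = 1
  ne : a ≠ 1
  comm : b * a = a * b
  invert : σ * a = a * a * σ
  fix : σ * b = b * σ
  sq : σ * σ = 1
  sqw : ω * ω = 1
  move : ω * a = b * ω
  moves : ω * σ * ω = τ

theorem Wr.map {a b σ τ ω : Perm (Fin 6)} (h : Wr a b σ τ ω) (f : Perm (Fin 6) →* Perm (Fin 6))
    (hf : Function.Injective f) : Wr (f a) (f b) (f σ) (f τ) (f ω) where
  cube := by rw [← map_mul, ← map_mul, h.cube, map_one]
  ne := fun e => h.ne (hf (e.trans (map_one f).symm))
  comm := by rw [← map_mul, h.comm, map_mul]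
  invert := by rw [← map_mul, h.invert, map_mul, map_mul]
  fix := by rw [← map_mul, h.fix, map_mul]
  sq := by rw [← map_mul, h.sq, map_one]
  sqw := by rw [← map_mul, h.sqw, map_one]
  move := by rw [← map_mul, h.move, map_mul]
  moves := by rw [← map_mul, ← map_mul, h.moves]

/-- An injective endomorphism puts the generators in normal form. -/
theorem Wr.normalise {a b σ τ ω : Perm (Fin 6)} (h : Wr a b σ τ ω) :
    ∃ α : Perm (Fin 6) →* Perm (Fin 6), Function.Injective α ∧ α a = cA ∧ α b = cB ∧ α σ = swap 0 1 ∧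
      α τ = swap 3 4 ∧ α ω = cW := by
  obtain ⟨hA, hcomm3, h45, h45', hAB, hpow⟩ := frame_three
  obtain ⟨hσ', hω'⟩ := frame_invol
  -- a three-cycle
  obtain ⟨α1, hi1, ha1⟩ : ∃ α : Perm (Fin 6) →* Perm (Fin 6), Function.Injective α ∧ α a = cA := by
    have fin1 : ∀ f : Perm (Fin 6) →* Perm (Fin 6), Function.Injective f → fixCount (f a) = 3 →
        ∃ α : Perm (Fin 6) →* Perm (Fin 6), Function.Injective α ∧ α a = cA := fun f hf h3 => by
      obtain ⟨k, hk | ⟨-, e⟩⟩ := six_three_classes (f a) (h.map f hf).cube (h.map f hf).ne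
      · exact ⟨(MulAut.conj k).toMonoidHom.comp f, (MulAut.conj k).injective.comp hf, mul_inv_eq_iff_eq_mul.2 hk.1⟩
      · omega
    obtain ⟨k, ⟨-, e⟩ | ⟨e, -⟩⟩ := six_three_classes a h.cube h.ne
    · exact fin1 (MonoidHom.id _) Function.injective_id e
    · refine fin1 theta theta_inj ?_
      rw [← theta_double]
      refine fixCount_conj (k := theta k) ?_
      rw [← map_mul, ← map_mul]
      exact congrArg theta e
  have h1 := h.map α1 hi1
  rw [ha1] at h1
  -- the second cycle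
  obtain ⟨α2, hi2, ha2, hb2⟩ : ∃ α : Perm (Fin 6) →* Perm (Fin 6), Function.Injective α ∧ α a = cA ∧ α b = cB := by
    have hfc : fixCount (α1 b) = 3 := by rw [← fixCount_conj (k := α1 ω) h1.move, hA]
    have hb3 : α1 b * α1 b * α1 b = 1 := by
      rw [eq_mul_inv_of_mul_eq h1.move.symm, conj_mul, conj_mul, h1.cube, mul_one, mul_inv_cancel]
    have hnA : cA * cA ≠ cA := fun e => h1.ne (mul_eq_left.1 e)
    rcases hcomm3 (α1 b) hb3 h1.comm hfc with e | e | e | e
    · exact absurd (mul_right_cancel (h1.invert.symm.trans (e ▸ h1.fix))) hnA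
    · refine absurd ?_ hnA
      have h2 : α1 σ * (cA * cA) = cA * α1 σ := by
        rw [← mul_assoc, h1.invert, mul_assoc, h1.invert, ← mul_assoc,
          show cA * cA * (cA * cA) = cA * cA * cA * cA by simp only [mul_assoc], h1.cube, one_mul]
      rw [← e] at h2
      rw [h1.fix, e] at h2
      exact mul_right_cancel h2
    · exact ⟨α1, hi1, ha1, e⟩
    · refine ⟨(MulAut.conj (swap 4 5)).toMonoidHom.comp α1, (MulAut.conj _).injective.comp hi1, ?_, ?_⟩
      · show swap 4 5 * α1 a * (swap 4 5)⁻¹ = cA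
        rw [ha1, h45, mul_inv_cancel_right]
      · show swap 4 5 * α1 b * (swap 4 5)⁻¹ = cB
        rw [e, swap_inv, h45']
  -- the two transpositions
  have h2 := h.map α2 hi2
  rw [ha2, hb2] at h2
  obtain ⟨i, hi⟩ := hσ' _ h2.sq h2.invert h2.fix
  obtain ⟨α3, hi3, ha3, hb3, hs3⟩ : ∃ α : Perm (Fin 6) →* Perm (Fin 6), Function.Injective α ∧ α a = cA ∧
      α b = cB ∧ α σ = swap 0 1 := by
    refine ⟨(MulAut.conj (cA ^ i.val)).toMonoidHom.comp α2, (MulAut.conj _).injective.comp hi2, ?_, ?_, ?_⟩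
    · show cA ^ i.val * α2 a * (cA ^ i.val)⁻¹ = cA
      rw [ha2, (Commute.pow_self cA i.val).eq, mul_inv_cancel_right]
    · show cA ^ i.val * α2 b * (cA ^ i.val)⁻¹ = cB
      rw [hb2, (hpow i).1, mul_inv_cancel_right]
    · exact mul_inv_eq_iff_eq_mul.2 hi
  have h3 := h.map α3 hi3
  rw [ha3, hb3, hs3] at h3
  obtain ⟨j, hj⟩ := (hω' _ h3.sqw h3.move).1
  let α4 := (MulAut.conj (cB ^ j.val)).toMonoidHom.comp α3
  have hi4 : Function.Injective α4 := (MulAut.conj _).injective.comp hi3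
  have ha4 : α4 a = cA := by
    show cB ^ j.val * α3 a * (cB ^ j.val)⁻¹ = cA
    rw [ha3, (hpow j).2.1, mul_inv_cancel_right]
  have hb4 : α4 b = cB := by
    show cB ^ j.val * α3 b * (cB ^ j.val)⁻¹ = cB
    rw [hb3, (Commute.pow_self cB j.val).eq, mul_inv_cancel_right]
  have hs4 : α4 σ = swap 0 1 := by
    show cB ^ j.val * α3 σ * (cB ^ j.val)⁻¹ = swap 0 1
    rw [hs3, (hpow j).2.2, mul_inv_cancel_right]
  have ht4 : α4 τ = swap 3 4 := by
    show cB ^ j.val * α3 τ * (cB ^ j.val)⁻¹ = swap 3 4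
    rw [← h3.moves]
    exact mul_inv_eq_iff_eq_mul.2 hj
  have h4 := h.map α4 hi4
  rw [ha4, hb4, hs4, ht4] at h4
  exact ⟨α4, hi4, ha4, hb4, hs4, ht4, (hω' _ h4.sqw h4.move).2 h4.moves⟩

/-- An endomorphism fixing five adjacent exchanges is the identity. -/
theorem six_hom_ext {M : Type*} [Group M] {f g : Perm (Fin 6) →* M} (h0 : f (swap 0 1) = g (swap 0 1))
    (h1 : f (swap 1 2) = g (swap 1 2)) (h2 : f (swap 2 3) = g (swap 2 3)) (h3 : f (swap 3 4) = g (swap 3 4))
    (h4 : f (swap 4 5) = g (swap 4 5)) : f = g :=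
  MonoidHom.ext fun y => by
    have hS := CfsgLib.Sym9Three.six_closure (MonoidHom.eqLocus f g) h0 h1 h2 h3 h4
    exact (hS ▸ Subgroup.mem_top y : y ∈ MonoidHom.eqLocus f g)

end CfsgPSp43Real
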