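import Cfsg.Agent.Lib.PSp43Real.Fusion3
import Cfsg.Agent.Lib.PSp43Real.Six

/-!
The centraliser of the translation of one block: it is small or it is a product with the symmetric group of degree six.
-/

set_option autoImplicit false
set_option linter.style.haveILetI false
set_option synthInstance.maxSize 4000

namespace CfsgPSp43Real

open Subgroup Equiv Equiv.Perm
open CfsgLib.Sym9Three (V3 xv Mon Sub tr rot act rMul inR eType ev rt3 dihRot dihRot_facts dihRot_fix mod_line_stab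
  le_normalizer_or_six six_middle six_closure tr_mem_Sub tr_mul rot_mul mon_split ev_sign ev_commutator line_facts)

/-- The translation of the first block. -/
abbrev u0 : V3 := (1, 0, 0)

/-- The translation of the second block. -/
abbrev u1 : V3 := (0, 1, 0)

theorem dich_shift : (∀ v : V3, v ∉ ([0, ev, -ev] : List V3) → ∃ n : Fin 3, two (v + n.val • ev)) ∧
    (Finset.univ.filter fun m : Mon => m * tr ev = tr ev * m).card = 216 := by decide +kernel

theorem dich_gens : (∀ m ∈ ([rot 6, rot 6 * tr u0, rot 12, rot 12 * tr u1, rot 1, tr u0, tr u1] : List Mon),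
      m * tr ev = tr ev * m ∧ m * rt3 = rt3 * m) ∧
    (tr u0 * tr u0 * tr u0 = 1 ∧ tr u1 * tr u0 = tr u0 * tr u1 ∧ rot 6 * tr u0 = tr u0 * tr u0 * rot 6 ∧
      rot 6 * tr u1 = tr u1 * rot 6 ∧ rot 6 * rot 6 = 1 ∧ rot 1 * rot 1 = 1 ∧ rot 1 * tr u0 = tr u1 * rot 1 ∧
      rot 1 * rot 6 * rot 1 = rot 12) ∧
    u0 ≠ (0 : V3) ∧ (u0 ∉ ([0, ev, -ev] : List V3)) := by decide +kernel

theorem six_middle_conj : swap (0 : Fin 6) 1 * cA = swap 1 2 ∧ swap (3 : Fin 6) 4 * cB = swap 4 5 := by decide +kernel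

universe u

variable {G : Type u} [Group G] [Finite G]

namespace Frame3

variable (F : Frame3 G)

omit [Finite G] in
theorem card_inf_N (p : Mon → Prop) [DecidablePred p] (H : Subgroup G) (h : ∀ m, F.φ m ∈ H ↔ p m) :
    Nat.card ↥(H ⊓ F.N) = (Finset.univ.filter p).card := by
  classical
  rw [← Fintype.card_subtype, ← Nat.card_eq_fintype_card]
  refine (Nat.card_congr (Equiv.ofBijective
    (fun m : {m : Mon // p m} => (⟨F.φ m.1, (h _).2 m.2, F.φ_mem _⟩ : ↥(H ⊓ F.N)))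
    ⟨fun a b e => Subtype.ext (F.φ_inj (congrArg Subtype.val e)), fun z => ?_⟩)).symm
  obtain ⟨m, hm⟩ := F.mem_N3.1 z.2.2
  exact ⟨⟨m, (h m).1 (hm.symm ▸ z.2.1)⟩, Subtype.ext hm⟩

/-- The centraliser of the translation of one block. -/
theorem good_or_six : F.Good ev ∨
    ∃ ψ : Subgroup.centralizer ({F.j ev} : Set G) →* Perm (Fin 6), Function.Surjective ψ ∧
      ∀ h, ψ h = 1 ↔ (h : G) ∈ Subgroup.zpowers (F.j ev) := by
  classical
  haveI : Fact (Nat.Prime 3) := ⟨Nat.prime_three⟩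
  set H := Subgroup.centralizer ({F.j ev} : Set G) with hH
  have hmemH : ∀ z, z ∈ H ↔ z * F.j ev = F.j ev * z := fun z => Subgroup.mem_centralizer_singleton_iff
  set Z := Subgroup.zpowers (F.j ev) with hZdef
  have hev : ev ≠ (0 : V3) := line_facts.1
  have hZcard : Nat.card Z = 3 := by rw [Nat.card_zpowers, orderOf_eq_prime (F.j_cube _) (F.j_ne_one hev)]
  have hZmem : ∀ z ∈ Z, ∃ n : Fin 3, z = F.j (n.val • ev) := by
    intro z hz
    obtain ⟨i, hi⟩ := mem_powers_iff_mem_zpowers.mpr hz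
    refine ⟨⟨i % 3, Nat.mod_lt _ (by norm_num)⟩, ?_⟩
    rw [F.j_smul]
    show z = F.j ev ^ (i % 3)
    rw [← pow_eq_pow_mod _ (F.j_cube ev)]
    exact hi.symm
  have hcentN : ∀ h ∈ H, ∀ v : V3, v ∉ ([0, ev, -ev] : List V3) → h * F.j v * h⁻¹ * (F.j v)⁻¹ ∈ Z → h ∈ F.N := by
    intro h hh v hv hz
    obtain ⟨i, hi⟩ := hZmem _ hz
    rw [mul_inv_eq_iff_eq_mul] at hi
    obtain ⟨n, hn⟩ := dich_shift.1 v hv
    refine F.ctrl_source (v := v + n.val • ev) (v' := i.val • ev + v + n.val • ev) (F.good_two hn) ?_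
    rw [F.j_add, F.j_add, F.j_add, ← hi, conj_mul.symm]
    congr 1
    rw [F.j_smul, (Commute.pow_right (show Commute h (F.j ev) from (hmemH h).mp hh) _).eq, mul_inv_cancel_right]
  have hcount : Nat.card ↥(H ⊓ F.N) = 216 := by
    rw [← dich_shift.2]
    exact F.card_inf_N _ H fun m => by
      rw [hmemH, ← F.φ_tr]
      exact F.φ_comm
  let f : DihedralGroup 4 →* H := MonoidHom.mk' (fun x => ⟨F.φ (rot (dihRot 7 1 x)), by
      have h := F.φ_conj_j (rot (dihRot 7 1 x)) ev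
      rw [(dihRot_fix x).1] at h
      exact (hmemH _).mpr (mul_inv_eq_iff_eq_mul.mp h)⟩) fun x y => Subtype.ext (by
    show F.φ (rot (dihRot 7 1 (x * y))) = F.φ (rot (dihRot 7 1 x)) * F.φ (rot (dihRot 7 1 y))
    rw [((dihRot_facts (7, 1) (by simp)) x y).1, ← rot_mul, map_mul])
  rcases le_normalizer_or_six H Z F.D.J (Subgroup.zpowers_le.mpr (F.j_mem ev))
      (fun z hz => (hmemH z).mpr (F.J_comm hz (F.j_mem ev)))
      (fun z hz h hh => by
        obtain ⟨n, rfl⟩ := hZmem z hz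
        rw [F.j_smul]
        exact (Commute.pow_right (show Commute h (F.j ev) from (hmemH h).mp hh) _).eq)
      (by rw [F.card_J, hZcard])
      (fun a ha => by
        obtain ⟨v, rfl⟩ := (F.mem_J a).mp ha
        rw [F.j_cube]; exact one_mem Z)
      (fun a ha b hb => by rw [F.J_comm ha hb, mul_inv_cancel_right, mul_inv_cancel]; exact one_mem Z)
      (fun h hh hall => by
        have hN := hcentN h hh u0 dich_gens.2.2.2 (hall _ (F.j_mem _))
        obtain ⟨m, hm, rfl, hr⟩ := F.exists_of_comm hN ((hmemH h).mp hh)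
        have h0 : m.g = 0 := mod_line_stab _ ev hr hev fun u => by
          obtain ⟨n, hn⟩ := hZmem _ (hall _ (F.j_mem u))
          rw [F.el_conj hm, ← F.j_neg, ← F.j_add, ← sub_eq_add_neg] at hn
          rw [F.j_inj hn]
          fin_cases n
          · exact Or.inl (zero_smul _ _)
          · exact Or.inr (Or.inl (one_smul _ _))
          · exact Or.inr (Or.inr line_facts.2.2.1)
        exact (F.mem_J _).2 ⟨m.v, by rw [CfsgLib.Sym9Three.Frame.eq_tr_of_g h0]⟩)
      (fun h hh a ha haZ hz => by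
        obtain ⟨v, rfl⟩ := (F.mem_J a).mp ha
        refine hcentN h hh v (fun hv => haZ ?_) hz
        simp only [List.mem_cons, List.not_mem_nil, or_false] at hv
        show F.j v ∈ Z
        rcases hv with rfl | rfl | rfl
        · rw [F.j_zero]; exact one_mem Z
        · exact Subgroup.mem_zpowers _
        · rw [F.j_neg]; exact inv_mem (Subgroup.mem_zpowers _))
      (by rw [hZcard]; exact hcount)
      f (fun x => F.φ_mem _)
      (fun x hx => by
        obtain ⟨v, hv⟩ := (F.mem_J _).mp hx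
        have := congrArg Mon.g (F.φ_inj (show F.φ (tr v) = F.φ (rot (dihRot 7 1 x)) from hv))
        exact ((dihRot_facts (7, 1) (by simp)) x x).2 this.symm) with h | h
  · exact Or.inl fun g hg => h ((hmemH g).mpr hg)
  · exact Or.inr h

/-- The symmetric group of degree six centralising the translation and the sign change of one block. -/
structure SixE where
  /-- the embedding -/
  Φ : Perm (Fin 6) →* G
  inj : Function.Injective Φ
  comm_ev : ∀ y, Commute (Φ y) (F.j ev)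
  comm_d : ∀ y, Commute (Φ y) (F.φ rt3)
  mem : ∀ g, Commute g (F.j ev) → Commute g (F.φ rt3) → ∃ y, Φ y = g
  split : ∀ g, Commute g (F.j ev) → ∃ y, ∃ i : Fin 3, g = Φ y * F.j (i.val • ev)
  p0 : Φ (swap 0 1) = F.φ (rot 6)
  p1 : Φ (swap 3 4) = F.φ (rot 12)
  a0 : Φ cA = F.j u0
  a1 : Φ cB = F.j u1
  w : Φ cW = F.φ (rot 1)

theorem exists_sixE : ∀ ψ : Subgroup.centralizer ({F.j ev} : Set G) →* Perm (Fin 6), Function.Surjective ψ →
    (∀ h, ψ h = 1 ↔ (h : G) ∈ Subgroup.zpowers (F.j ev)) → Nonempty F.SixE := by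
  classical
  set C := Subgroup.centralizer ({F.j ev} : Set G) with hC
  have hmemC : ∀ z, z ∈ C ↔ z * F.j ev = F.j ev * z := fun z => Subgroup.mem_centralizer_singleton_iff
  set Z := Subgroup.zpowers (F.j ev) with hZ
  intro ψ hsurj hker
  obtain ⟨hgens, ⟨g1, g2, g3, g4, g5, g6, g7, g8⟩, hu0, hu0'⟩ := dich_gens
  have hev : ev ≠ (0 : V3) := line_facts.1
  have hφC : ∀ {m : Mon}, m * tr ev = tr ev * m → F.φ m ∈ C := fun {m} hm => (hmemC _).2 (by
    rw [← F.φ_tr]; exact (F.φ_comm.2 hm).eq)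
  let S : Subgroup Mon :=
    { carrier := {m | m * tr ev = tr ev * m}
      mul_mem' := fun {a b} (ha : _ = _) (hb : _ = _) => (Commute.mul_left ha hb : Commute (a * b) (tr ev))
      one_mem' := (Commute.one_left _ : Commute 1 (tr ev))
      inv_mem' := fun {a} (ha : _ = _) => (Commute.inv_left ha : Commute a⁻¹ (tr ev)) }
  let φC : S →* C := (F.φ.comp S.subtype).codRestrict C fun m => hφC m.2
  let χ : S →* Perm (Fin 6) := ψ.comp φC
  have hS : ∀ m ∈ ([rot 6, rot 6 * tr u0, rot 12, rot 12 * tr u1, rot 1, tr u0, tr u1] : List Mon), m ∈ S :=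
    fun m hm => (hgens m hm).1
  obtain ⟨A, hAv⟩ : ∃ x : S, (x : Mon) = tr u0 := ⟨⟨tr u0, hS (tr u0) (by simp)⟩, rfl⟩
  obtain ⟨B, hBv⟩ : ∃ x : S, (x : Mon) = tr u1 := ⟨⟨tr u1, hS (tr u1) (by simp)⟩, rfl⟩
  obtain ⟨D0, hD0v⟩ : ∃ x : S, (x : Mon) = rot 6 := ⟨⟨rot 6, hS (rot 6) (by simp)⟩, rfl⟩
  obtain ⟨D1, hD1v⟩ : ∃ x : S, (x : Mon) = rot 12 := ⟨⟨rot 12, hS (rot 12) (by simp)⟩, rfl⟩
  obtain ⟨T, hTv⟩ : ∃ x : S, (x : Mon) = rot 1 := ⟨⟨rot 1, hS (rot 1) (by simp)⟩, rfl⟩
  have hne : χ A ≠ 1 := fun e => by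
    obtain ⟨i, hi⟩ := mem_powers_iff_mem_zpowers.mpr ((hker _).1 e)
    have hi' : F.j (i • ev) = F.j u0 := by
      rw [F.j_smul]
      exact hi.trans (by show F.φ (A : Mon) = _; rw [hAv]; rfl)
    have hl : ∀ n : ℕ, n • ev ∈ ([0, ev, -ev] : List V3) := fun n => by
      induction n with
      | zero => rw [zero_smul]; simp
      | succ n ih =>
        rw [succ_nsmul]
        exact (by decide +kernel : ∀ v ∈ ([0, ev, -ev] : List V3), v + ev ∈ ([0, ev, -ev] : List V3)) _ ih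
    exact hu0' (F.j_inj hi' ▸ hl i)
  have hwr : Wr (χ A) (χ B) (χ D0) (χ D1) (χ T) :=
    { cube := by rw [← map_mul, ← map_mul, show A * A * A = 1 from Subtype.ext (by simp only [Subgroup.coe_mul, Subgroup.coe_one, hAv]; exact g1), map_one]
      ne := hne
      comm := by rw [← map_mul, ← map_mul]; exact congrArg χ (Subtype.ext (by simp only [Subgroup.coe_mul, hAv, hBv]; exact g2))
      invert := by rw [← map_mul, ← map_mul, ← map_mul]; exact congrArg χ (Subtype.ext (by simp only [Subgroup.coe_mul, hAv, hD0v]; exact g3))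
      fix := by rw [← map_mul, ← map_mul]; exact congrArg χ (Subtype.ext (by simp only [Subgroup.coe_mul, hBv, hD0v]; exact g4))
      sq := by rw [← map_mul, show D0 * D0 = 1 from Subtype.ext (by simp only [Subgroup.coe_mul, Subgroup.coe_one, hD0v]; exact g5), map_one]
      sqw := by rw [← map_mul, show T * T = 1 from Subtype.ext (by simp only [Subgroup.coe_mul, Subgroup.coe_one, hTv]; exact g6), map_one]
      move := by rw [← map_mul, ← map_mul]; exact congrArg χ (Subtype.ext (by simp only [Subgroup.coe_mul, hTv, hAv, hBv]; exact g7))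
      moves := by rw [← map_mul, ← map_mul]; exact congrArg χ (Subtype.ext (by simp only [Subgroup.coe_mul, hTv, hD0v, hD1v]; exact g8)) }
  obtain ⟨α, hα, ha, hb, hd0, hd1, hw⟩ := hwr.normalise
  let ψ1 : C →* Perm (Fin 6) := α.comp ψ
  have hs1 : Function.Surjective ψ1 := (Finite.injective_iff_surjective.1 hα).comp hsurj
  have hk1 : ∀ h, ψ1 h = 1 ↔ (h : G) ∈ Z := fun h => by
    show α (ψ h) = 1 ↔ _
    rw [← hker h]
    exact ⟨fun e => hα (e.trans (map_one α).symm), fun e => by rw [e, map_one]⟩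
  -- the sign change of the last block acts trivially
  set t3 := F.φ rt3 with ht3
  have ht3sq : t3 * t3 = 1 := F.φ_sq (by decide +kernel)
  have ht3inv : t3⁻¹ = t3 := inv_eq_of_mul_eq_one_right ht3sq
  have ht3ev : t3 * F.j ev * t3 = (F.j ev)⁻¹ := by
    have h := F.φ_conj_j rt3 ev
    rw [show (rt3).g = 24 from rfl, ev_sign.1, F.j_neg, ← ht3, ht3inv] at h
    exact h
  have hβmem : ∀ h ∈ C, t3 * h * t3 ∈ C := by
    intro h hh
    rw [hmemC]
    have he : F.j ev = t3 * (F.j ev)⁻¹ * t3 := by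
      rw [← ht3ev]
      calc F.j ev = (t3 * t3) * F.j ev * (t3 * t3) := by rw [ht3sq, one_mul, mul_one]
        _ = t3 * (t3 * F.j ev * t3) * t3 := by group
    have hc : h * (F.j ev)⁻¹ = (F.j ev)⁻¹ * h := (Commute.inv_right ((hmemC h).mp hh)).eq
    calc t3 * h * t3 * F.j ev = t3 * h * t3 * (t3 * (F.j ev)⁻¹ * t3) := by rw [← he]
      _ = t3 * (h * (t3 * t3) * (F.j ev)⁻¹) * t3 := by group
      _ = t3 * ((F.j ev)⁻¹ * (t3 * t3) * h) * t3 := by rw [ht3sq, mul_one, hc, mul_one]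
      _ = t3 * (F.j ev)⁻¹ * t3 * (t3 * h * t3) := by group
      _ = F.j ev * (t3 * h * t3) := by rw [← he]
  let β : C →* C := MonoidHom.mk' (fun h => ⟨t3 * (h : G) * t3, hβmem h h.2⟩) fun a b => Subtype.ext (by
    show t3 * ((a : G) * b) * t3 = t3 * a * t3 * (t3 * b * t3)
    rw [show t3 * (a : G) * t3 * (t3 * b * t3) = t3 * a * (t3 * t3) * b * t3 by group, ht3sq]
    group)
  have hββ : ∀ h, β (β h) = h := fun h => Subtype.ext (by
    show t3 * (t3 * (h : G) * t3) * t3 = h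
    rw [show t3 * (t3 * (h : G) * t3) * t3 = (t3 * t3) * h * (t3 * t3) by group, ht3sq, one_mul, mul_one])
  have hβker : ∀ h, ψ1 h = 1 → ψ1 (β h) = 1 := fun h hh => by
    rw [hk1] at hh ⊢
    obtain ⟨i, hi⟩ := Subgroup.mem_zpowers_iff.1 hh
    show t3 * (h : G) * t3 ∈ Z
    rw [← show F.j ev ^ i = (h : G) from hi]
    have : t3 * F.j ev ^ i * t3 = ((F.j ev)⁻¹) ^ i := by
      rw [← ht3ev]
      conv_rhs => rw [show t3 * F.j ev * t3 = t3 * F.j ev * t3⁻¹ by rw [ht3inv]]
      rw [conj_zpow, ht3inv]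
    rw [this]
    exact Subgroup.zpow_mem _ (inv_mem (Subgroup.mem_zpowers _)) _
  let βb : Perm (Fin 6) →* Perm (Fin 6) :=
    MonoidHom.mk' (fun y => ψ1 (β (Function.surjInv hs1 y))) fun a b => by
      rw [← map_mul, ← map_mul]
      refine mul_inv_eq_one.mp ?_
      rw [← map_inv, ← map_mul, ← map_inv, ← map_mul]
      exact hβker _ (by rw [map_mul, map_inv, map_mul, Function.surjInv_eq hs1, Function.surjInv_eq hs1, Function.surjInv_eq hs1, mul_inv_cancel])
  have hβb : ∀ h, βb (ψ1 h) = ψ1 (β h) := fun h => by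
    show ψ1 (β _) = _
    refine mul_inv_eq_one.mp ?_
    rw [← map_inv, ← map_mul, ← map_inv, ← map_mul]
    exact hβker _ (by rw [map_mul, map_inv, Function.surjInv_eq hs1, mul_inv_cancel])
  have hinvol : ∀ y, βb (βb y) = y := fun y => by
    obtain ⟨h, rfl⟩ := hs1 y
    rw [hβb, hβb, hββ]
  have hfix : ∀ x : S, (x : Mon) ∈ ([rot 6, rot 6 * tr u0, rot 12, rot 12 * tr u1, rot 1, tr u0, tr u1] : List Mon) →
      βb (α (χ x)) = α (χ x) := by
    intro x hx
    show βb (ψ1 (φC x)) = ψ1 (φC x)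
    rw [hβb]
    refine congrArg ψ1 (Subtype.ext ?_)
    show t3 * F.φ (x : Mon) * t3 = F.φ (x : Mon)
    rw [ht3, ← (F.φ_comm.2 (hgens _ hx).2).eq, mul_assoc, ← ht3, ht3sq, mul_one]
  have f01 : βb (swap 0 1) = swap 0 1 := by rw [← hd0]; exact hfix _ (by simp [hD0v])
  have f34 : βb (swap 3 4) = swap 3 4 := by rw [← hd1]; exact hfix _ (by simp [hD1v])
  have f12 : βb (swap 1 2) = swap 1 2 := by
    rw [← six_middle_conj.1, ← hd0, ← ha, ← map_mul α, ← map_mul χ]; exact hfix _ (by simp [hD0v, hAv])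
  have f45 : βb (swap 4 5) = swap 4 5 := by
    rw [← six_middle_conj.2, ← hd1, ← hb, ← map_mul α, ← map_mul χ]; exact hfix _ (by simp [hD1v, hBv])
  have hmid : βb (swap 2 3) = swap 2 3 := by
    obtain ⟨k, hk⟩ : ∃ k : Perm (Fin 6), swap 2 3 = k * swap 0 1 * k⁻¹ :=
      ⟨swap 0 2 * swap 1 3, by decide +kernel⟩
    have hb' : βb (swap 2 3) = swap (βb k 0) (βb k 1) := by
      rw [Equiv.swap_apply_apply, hk, map_mul, map_mul, map_inv, f01]
    have c1 := congrArg βb (show swap (2 : Fin 6) 3 * swap 0 1 = swap 0 1 * swap 2 3 by decide +kernel)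
    have c2 := congrArg βb (show swap (2 : Fin 6) 3 * swap 4 5 = swap 4 5 * swap 2 3 by decide +kernel)
    rw [map_mul, map_mul, f01] at c1
    rw [map_mul, map_mul, f45] at c2
    have n1 : βb (swap 2 3) ≠ swap 0 1 := fun e => by
      have := congrArg βb e
      rw [hinvol, f01] at this
      exact absurd this (by decide)
    have n2 : βb (swap 2 3) ≠ swap 4 5 := fun e => by
      have := congrArg βb e
      rw [hinvol, f45] at this
      exact absurd this (by decide)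
    rw [hb'] at c1 c2 n1 n2 ⊢
    exact six_middle _ _ ((βb k).injective.ne (by decide)) c1 c2 n1 n2
  have hβtriv : ∀ h, ψ1 (β h) = ψ1 h := by
    have hid : βb = MonoidHom.id _ := six_hom_ext f01 f12 hmid f34 f45
    intro h
    rw [← hβb, hid]
    rfl
  -- the fixed points
  have hZJ : Z ≤ F.D.J := Subgroup.zpowers_le.mpr (F.j_mem ev)
  have hz3 : ∀ z ∈ Z, z ^ 3 = 1 := fun z hz => F.D.J_exp z (hZJ hz)
  have hlift : ∀ y, ∃ g, ∃ hg : g ∈ C, g * t3 = t3 * g ∧ ψ1 ⟨g, hg⟩ = y := by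
    intro y
    obtain ⟨h, rfl⟩ := hs1 y
    set z : C := h⁻¹ * β h with hz
    have hzZ : (z : G) ∈ Z := (hk1 z).mp (by rw [hz, map_mul, map_inv, hβtriv, inv_mul_cancel])
    have hbz : β z = z⁻¹ := by rw [hz, map_mul, map_inv, hββ, mul_inv_rev, inv_inv]
    have hzz : z * z * z = 1 := Subtype.ext (by
      show (z : G) * z * z = 1
      rw [← pow_three', hz3 _ hzZ])
    have hbh : β h = h * z := by rw [hz, mul_inv_cancel_left]
    refine ⟨(h * z * z : C), (h * z * z).2, ?_, ?_⟩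
    · have e : β (h * z * z) = h * z * z := by
        rw [map_mul, map_mul, hbz, hbh]
        have : z⁻¹ = z * z := inv_eq_of_mul_eq_one_right (by rw [← mul_assoc]; exact hzz)
        rw [mul_inv_cancel_right, this]
        exact (mul_assoc h z z).symm
      have e' : t3 * ((h * z * z : C) : G) * t3 = ((h * z * z : C) : G) := congrArg Subtype.val e
      calc ((h * z * z : C) : G) * t3 = t3 * ((h * z * z : C) : G) * t3 * t3 := by rw [e']
        _ = t3 * ((h * z * z : C) : G) := by rw [mul_assoc, ht3sq, mul_one]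
    · show ψ1 (h * z * z) = ψ1 h
      rw [map_mul, map_mul, (hk1 z).mpr hzZ, mul_one, mul_one]
  have hfixZ : ∀ z ∈ Z, z * t3 = t3 * z → z = 1 := by
    intro z hz hc
    have h3 := hz3 z hz
    obtain ⟨i, rfl⟩ := Subgroup.mem_zpowers_iff.1 hz
    have h1 : t3 * F.j ev ^ i * t3 = (F.j ev ^ i)⁻¹ := by
      rw [← inv_zpow, ← ht3ev]
      conv_rhs => rw [show t3 * F.j ev * t3 = t3 * F.j ev * t3⁻¹ by rw [ht3inv]]
      rw [conj_zpow, ht3inv]
    rw [← hc, mul_assoc, ht3sq, mul_one, eq_inv_iff_mul_eq_one] at h1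
    rwa [pow_three', h1, one_mul] at h3
  let M : Subgroup G := C ⊓ Subgroup.centralizer ({t3} : Set G)
  let ρ : M →* Perm (Fin 6) := ψ1.comp (Subgroup.inclusion inf_le_left)
  have hρ : Function.Bijective ρ := by
    refine ⟨(injective_iff_map_eq_one ρ).mpr fun g hg => Subtype.ext (hfixZ _ ((hk1 _).mp hg)
      (Subgroup.mem_centralizer_singleton_iff.1 g.2.2)), fun y => ?_⟩
    obtain ⟨g, hgC, hg3, e⟩ := hlift y
    exact ⟨⟨g, hgC, Subgroup.mem_centralizer_singleton_iff.mpr hg3⟩, e⟩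
  let ρe := MulEquiv.ofBijective ρ hρ
  let Φ : Perm (Fin 6) →* G := M.subtype.comp ρe.symm.toMonoidHom
  have hΦρ : ∀ g (hg : g ∈ M), Φ (ρ ⟨g, hg⟩) = g := fun g hg => by
    show ((ρe.symm (ρe ⟨g, hg⟩) : M) : G) = g
    rw [MulEquiv.symm_apply_apply]
  have hval : ∀ x : S, (x : Mon) ∈ ([rot 6, rot 6 * tr u0, rot 12, rot 12 * tr u1, rot 1, tr u0, tr u1] : List Mon) →
      Φ (α (χ x)) = F.φ (x : Mon) := fun x hx =>
    hΦρ (F.φ (x : Mon)) ⟨hφC x.2, Subgroup.mem_centralizer_singleton_iff.2 (F.φ_comm.2 (hgens _ hx).2).eq⟩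
  exact ⟨{
    Φ := Φ
    inj := M.subtype_injective.comp ρe.symm.injective
    comm_ev := fun y => Subgroup.mem_centralizer_singleton_iff.1 (ρe.symm y).2.1
    comm_d := fun y => Subgroup.mem_centralizer_singleton_iff.1 (ρe.symm y).2.2
    mem := fun g h1 h2 => ⟨_, hΦρ g ⟨(hmemC g).2 h1.eq, Subgroup.mem_centralizer_singleton_iff.2 h2.eq⟩⟩
    split := fun g hg => by
      obtain ⟨g', hg'C, hg'3, e⟩ := hlift (ψ1 ⟨g, (hmemC g).2 hg.eq⟩)
      have hz : ψ1 ((⟨g', hg'C⟩ : C)⁻¹ * ⟨g, (hmemC g).2 hg.eq⟩) = 1 := by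
        rw [map_mul, map_inv, e, inv_mul_cancel]
      obtain ⟨i, hi⟩ := mem_powers_iff_mem_zpowers.mpr ((hk1 _).mp hz)
      refine ⟨ρ ⟨g', hg'C, Subgroup.mem_centralizer_singleton_iff.2 hg'3⟩, ⟨i % 3, Nat.mod_lt _ (by norm_num)⟩, ?_⟩
      rw [show Φ (ρ ⟨g', hg'C, Subgroup.mem_centralizer_singleton_iff.2 hg'3⟩) = g' from hΦρ g' _, F.j_smul]
      show g = g' * F.j ev ^ (i % 3)
      rw [← pow_eq_pow_mod _ (F.j_cube ev), show F.j ev ^ i = _ from hi]
      show g = g' * (g'⁻¹ * g)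
      rw [mul_inv_cancel_left]
    p0 := by rw [← hd0, hval _ (by simp [hD0v]), hD0v]
    p1 := by rw [← hd1, hval _ (by simp [hD1v]), hD1v]
    a0 := by rw [← ha, hval _ (by simp [hAv]), hAv]; all_goals rfl
    a1 := by rw [← hb, hval _ (by simp [hBv]), hBv]; all_goals rfl
    w := by rw [← hw, hval _ (by simp [hTv]), hTv] }⟩

/-- The two cases. -/
theorem dichotomy : F.Good ev ∨ Nonempty F.SixE := by
  rcases F.good_or_six with h | ⟨ψ, h1, h2⟩
  · exact Or.inl h
  · exact Or.inr (F.exists_sixE ψ h1 h2)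

end Frame3

end CfsgPSp43Real
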