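import Cfsg.Agent.Lib.PSp43Real.Setup

/-!
The elementary subgroup inside the centraliser: uniqueness, self-centralisation and an inverting involution.
-/

set_option autoImplicit false
set_option linter.style.haveILetI false

namespace CfsgPSp43Real

theorem sl_cyc : ∀ A : SL23, A * A * A = 1 → A ≠ 1 → ∀ X Y : SL23, (X = 1 ∨ X = A ∨ X = A * A) →
    (Y = 1 ∨ Y = A ∨ Y = A * A) → (X * Y = 1 ∨ X * Y = A ∨ X * Y = A * A) ∧
      (X⁻¹ = 1 ∨ X⁻¹ = A ∨ X⁻¹ = A * A) := by decide +kernel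

namespace Setup

variable {G : Type*} [Group G] (D : Setup G) [Finite G]

theorem R_not_comm : ¬ ∀ p ∈ D.R, ∀ q ∈ D.R, p * q = q * p := fun h => by
  have hle : D.R ≤ D.Z := fun p hp => D.R_center hp (h p hp)
  have := Subgroup.card_le_of_le hle
  rw [D.card_R, D.card_Z] at this
  omega

theorem J_not_le : ¬ D.J ≤ D.R := fun h => D.R_not_comm (by
  have e : D.J = D.R := Subgroup.eq_of_le_of_card_ge h (by rw [D.card_R, D.J_card])
  rw [← e]; exact D.J_comm)

theorem exists_j : ∃ j ∈ D.J, j ∉ D.R := SetLike.not_le_iff_exists.1 D.J_not_le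

/-- An element of the elementary subgroup outside the kernel. -/
noncomputable def j0 : G := D.exists_j.choose

theorem j0_mem : D.j0 ∈ D.J := D.exists_j.choose_spec.1

theorem j0_not : D.j0 ∉ D.R := D.exists_j.choose_spec.2

/-- Its image. -/
noncomputable def X : SL23 := D.π ⟨D.j0, D.J_le D.j0_mem⟩

theorem X_cube : D.X * D.X * D.X = 1 := by
  have h : (⟨D.j0, D.J_le D.j0_mem⟩ : ↥D.C) ^ 3 = 1 := Subtype.ext (D.J_exp _ D.j0_mem)
  have := congrArg D.π h
  rwa [map_pow, map_one, pow_succ, pow_two] at this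

theorem X_ne : D.X ≠ 1 := fun h => D.j0_not (D.mem_R (x := ⟨D.j0, D.J_le D.j0_mem⟩) |>.2 h)

/-- The preimage of the subgroup of order three. -/
noncomputable def S : Subgroup G where
  carrier := {g | ∃ h : g ∈ D.C, D.π ⟨g, h⟩ = 1 ∨ D.π ⟨g, h⟩ = D.X ∨ D.π ⟨g, h⟩ = D.X * D.X}
  mul_mem' := by
    rintro p q ⟨hp, h1⟩ ⟨hq, h2⟩
    refine ⟨mul_mem hp hq, ?_⟩
    rw [show (⟨p * q, mul_mem hp hq⟩ : ↥D.C) = ⟨p, hp⟩ * ⟨q, hq⟩ from rfl, map_mul]
    exact (sl_cyc _ D.X_cube D.X_ne _ _ h1 h2).1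
  one_mem' := ⟨one_mem _, Or.inl (map_one D.π)⟩
  inv_mem' := by
    rintro p ⟨hp, h1⟩
    refine ⟨inv_mem hp, ?_⟩
    rw [show (⟨p⁻¹, inv_mem hp⟩ : ↥D.C) = (⟨p, hp⟩ : ↥D.C)⁻¹ from rfl, map_inv]
    exact (sl_cyc _ D.X_cube D.X_ne _ _ h1 h1).2

theorem mem_S {g : ↥D.C} : (g : G) ∈ D.S ↔ D.π g = 1 ∨ D.π g = D.X ∨ D.π g = D.X * D.X :=
  ⟨fun ⟨_, h⟩ => h, fun h => ⟨g.2, h⟩⟩

theorem S_le : D.S ≤ D.C := fun _ hg => hg.1

theorem R_le_S : D.R ≤ D.S := fun g hg => ⟨D.R_le hg, Or.inl (D.mem_R (x := ⟨g, D.R_le hg⟩) |>.1 hg)⟩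

theorem J_le_S : D.J ≤ D.S := fun j hj => by
  refine ⟨D.J_le hj, sl_three_comm D.X _ D.X_cube ?_ D.X_ne ?_⟩
  · have h : (⟨j, D.J_le hj⟩ : ↥D.C) ^ 3 = 1 := Subtype.ext (D.J_exp _ hj)
    have := congrArg D.π h
    rwa [map_pow, map_one, pow_succ, pow_two] at this
  · have h : (⟨D.j0, D.J_le D.j0_mem⟩ : ↥D.C) * ⟨j, D.J_le hj⟩ = ⟨j, D.J_le hj⟩ * ⟨D.j0, D.J_le D.j0_mem⟩ :=
      Subtype.ext (D.J_comm _ D.j0_mem _ hj)
    have := congrArg D.π h
    rwa [map_mul, map_mul] at this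

theorem mem_S_cases {g : G} (hg : g ∈ D.S) : g ∈ D.R ∨ g * D.j0⁻¹ ∈ D.R ∨ g * D.j0 ∈ D.R := by
  obtain ⟨hgC, h⟩ := hg
  have hj := D.J_le D.j0_mem
  rcases h with h | h | h
  · exact Or.inl (D.mem_R (x := ⟨g, hgC⟩) |>.2 h)
  · refine Or.inr (Or.inl (D.mem_R (x := ⟨g, hgC⟩ * (⟨D.j0, hj⟩ : ↥D.C)⁻¹) |>.2 ?_))
    rw [map_mul, map_inv, h]
    exact mul_inv_cancel _
  · refine Or.inr (Or.inr (D.mem_R (x := ⟨g, hgC⟩ * (⟨D.j0, hj⟩ : ↥D.C)) |>.2 ?_))
    rw [map_mul, h]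
    exact D.X_cube

theorem card_S_le : Nat.card D.S ≤ 81 := by
  classical
  let f : ↥D.R × Fin 3 → ↥D.S := fun p => ⟨(p.1 : G) * D.j0 ^ p.2.val,
    mul_mem (D.R_le_S p.1.2) (pow_mem (D.J_le_S D.j0_mem) _)⟩
  have hf : Function.Surjective f := by
    rintro ⟨g, hg⟩
    rcases D.mem_S_cases hg with h | h | h
    · exact ⟨(⟨g, h⟩, 0), Subtype.ext (by simp [f])⟩
    · exact ⟨(⟨_, h⟩, 1), Subtype.ext (by simp [f])⟩
    · refine ⟨(⟨_, h⟩, 2), Subtype.ext ?_⟩
      show g * D.j0 * D.j0 ^ 2 = g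
      rw [mul_assoc, ← pow_succ', D.J_exp _ D.j0_mem, mul_one]
  have := Nat.card_le_card_of_surjective f hf
  rwa [Nat.card_prod, D.card_R, Nat.card_fin] at this

theorem card_mul_le {A B T : Subgroup G} (hA : A ≤ T) (hB : B ≤ T) :
    Nat.card A * Nat.card B ≤ Nat.card (A ⊓ B : Subgroup G) * Nat.card T := by
  classical
  let f : ↥A × ↥B → ↥T := fun p => ⟨(p.1 : G) * p.2, mul_mem (hA p.1.2) (hB p.2.2)⟩
  haveI := Fintype.ofFinite G
  have key : ∀ t : ↥T, (Finset.univ.filter fun p => f p = t).card ≤ Nat.card (A ⊓ B : Subgroup G) := by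
    intro t
    by_cases ht : ∃ p, f p = t
    · obtain ⟨p, hp⟩ := ht
      rw [Nat.card_eq_fintype_card]
      refine (Finset.card_le_card_of_injOn (fun q : ↥A × ↥B => (q.1 : G)⁻¹ * p.1)
        (t := (Finset.univ : Finset G).filter fun g => g ∈ A ⊓ B) (fun q hq => ?_) ?_).trans
        (le_of_eq (Fintype.card_subtype _).symm)
      · have e : (q.1 : G) * q.2 = (p.1 : G) * p.2 :=
          congrArg Subtype.val ((Finset.mem_filter.1 hq).2.trans hp.symm)
        refine Finset.mem_filter.2 ⟨Finset.mem_univ _, Subgroup.mem_inf.2 ⟨mul_mem (inv_mem q.1.2) p.1.2, ?_⟩⟩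
        show (q.1 : G)⁻¹ * p.1 ∈ B
        rw [show (q.1 : G)⁻¹ * p.1 = q.2 * (p.2 : G)⁻¹ by
          calc (q.1 : G)⁻¹ * p.1 = (q.1 : G)⁻¹ * ((p.1 : G) * p.2) * (p.2 : G)⁻¹ := by group
            _ = _ := by rw [← e]; group]
        exact mul_mem q.2.2 (inv_mem p.2.2)
      · intro q hq q' hq' h
        have e1 : (q.1 : G) = q'.1 := inv_injective (mul_right_cancel h)
        have e2 : (q.1 : G) * q.2 = (q'.1 : G) * q'.2 :=
          congrArg Subtype.val ((Finset.mem_filter.1 hq).2.trans (Finset.mem_filter.1 hq').2.symm)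
        rw [e1] at e2
        exact Prod.ext (Subtype.ext e1) (Subtype.ext (mul_left_cancel e2))
    · rw [Finset.card_eq_zero.2 (Finset.eq_empty_of_forall_notMem fun p hp => ht ⟨p, (Finset.mem_filter.1 hp).2⟩)]
      exact Nat.zero_le _
  rw [← Nat.card_prod, Nat.card_eq_fintype_card, ← Finset.card_univ, Nat.card_eq_fintype_card (α := ↥T),
    ← Finset.card_univ, mul_comm]
  rw [mul_comm]
  calc (Finset.univ : Finset (↥A × ↥B)).card
      = ∑ t : ↥T, (Finset.univ.filter fun p => f p = t).card :=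
        Finset.card_eq_sum_card_fiberwise fun p _ => Finset.mem_coe.2 (Finset.mem_univ _)
    _ ≤ ∑ _t : ↥T, Nat.card (A ⊓ B : Subgroup G) := Finset.sum_le_sum fun t _ => key t
    _ = _ := by rw [Finset.sum_const, smul_eq_mul, mul_comm]

/-- An element centralising the kernel lies above the identity. -/
theorem cent_R {z : ↥D.C} (h : ∀ y ∈ D.R, (z : G) * y = y * z) : D.π z = 1 := by
  by_contra h1
  obtain ⟨y, hy, hy1⟩ := D.exists_neg ((Subgroup.centralizer (D.π.ker : Set ↥D.C))) inferInstance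
    (x := z) (Subgroup.mem_centralizer_iff.2 fun y hy => Subtype.ext (h _ ⟨y, hy, rfl⟩).symm) h1
  refine D.no_central hy1 fun u hu => ?_
  obtain ⟨w, hw, rfl⟩ := hu
  exact congrArg Subtype.val (Subgroup.mem_centralizer_iff.1 hy w hw).symm

theorem isPGroup_S : IsPGroup 3 D.S := by
  rintro ⟨g, hgC, h⟩
  refine ⟨2, Subtype.ext ?_⟩
  have h3 : D.π (⟨g, hgC⟩ ^ 3) = 1 := by
    rw [map_pow, pow_succ, pow_two]
    rcases h with h | h | h <;> rw [h]
    · simp
    · exact D.X_cube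
    · rw [show D.X * D.X * (D.X * D.X) * (D.X * D.X) = D.X * D.X * D.X * (D.X * D.X * D.X) by group,
        D.X_cube, one_mul]
  have := congrArg Subtype.val (D.kerExp _ h3)
  rw [← pow_mul] at this
  exact this

theorem closure_S {T : Subgroup G} (hJ : D.J ≤ T) (hT : T ≤ D.S) (hne : ¬ T ≤ D.J) : T = D.S := by
  refine Subgroup.eq_of_le_of_card_ge hT (D.card_S_le.trans ?_)
  have hlt : 27 < Nat.card T := by
    rcases Nat.lt_or_ge 27 (Nat.card T) with h | h
    · exact h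
    · exact absurd (Subgroup.eq_of_le_of_card_ge hJ (by rw [D.J_card]; exact h)).ge hne
  obtain ⟨i, hi⟩ := (D.isPGroup_S.to_le hT).exists_card_eq
  rw [hi] at hlt ⊢
  have : 4 ≤ i := by
    by_contra h
    interval_cases i <;> norm_num at hlt
  calc 81 = 3 ^ 4 := by norm_num
    _ ≤ 3 ^ i := Nat.pow_le_pow_right (by norm_num) this

/-- An element of the preimage centralising the kernel is central. -/
theorem center_S {z : G} (hz : z ∈ D.S) (h : ∀ y ∈ D.S, z * y = y * z) : z ∈ D.Z :=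
  D.R_center ((D.mem_R (x := ⟨z, hz.1⟩)).2 (D.cent_R fun y hy => h y (D.R_le_S hy))) fun y hy => h y (D.R_le_S hy)

/-- The elementary subgroup is the only abelian subgroup of order 27 of the preimage. -/
theorem eq_J {A : Subgroup G} (hA : A ≤ D.S) (hc : ∀ p ∈ A, ∀ q ∈ A, p * q = q * p) (h27 : Nat.card A = 27) :
    A = D.J := by
  by_contra hne
  have hnle : ¬ A ≤ D.J := fun h => hne (Subgroup.eq_of_le_of_card_ge h (by rw [D.J_card, h27]))
  have hT : A ⊔ D.J = D.S := D.closure_S le_sup_right (sup_le hA D.J_le_S) fun h => hnle (le_sup_left.trans h)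
  have hcen : ∀ z ∈ A ⊓ D.J, z ∈ D.Z := fun z hz => by
    refine D.center_S (hA hz.1) fun y hy => ?_
    have hcl : A ⊔ D.J ≤ Subgroup.centralizer ({z} : Set G) := sup_le
      (fun p hp => Subgroup.mem_centralizer_singleton_iff.2 (hc p hp z hz.1))
      (fun p hp => Subgroup.mem_centralizer_singleton_iff.2 (D.J_comm p hp z hz.2))
    exact (Subgroup.mem_centralizer_singleton_iff.1 (hcl (hT.symm ▸ hy))).symm
  have h1 := Subgroup.card_le_of_le (show A ⊓ D.J ≤ D.Z from hcen)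
  have h2 := card_mul_le hA D.J_le_S
  rw [h27, D.J_card] at h2
  rw [D.card_Z] at h1
  have := D.card_S_le
  nlinarith

theorem a_mem_J : D.a ∈ D.J := by
  have hT : D.J ⊔ D.Z ≤ D.S := sup_le D.J_le_S (D.Z_le.trans D.R_le_S)
  by_contra h
  have e := D.closure_S le_sup_left hT fun hle => h (hle (Subgroup.mem_sup_right (Subgroup.mem_zpowers _)))
  have hc : ∀ p ∈ D.S, ∀ q ∈ D.S, p * q = q * p := by
    intro p hp q hq
    have hcl : D.J ⊔ D.Z ≤ Subgroup.centralizer ((D.J ⊔ D.Z : Subgroup G) : Set G) := by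
      refine sup_le (fun u hu => ?_) (fun u hu => ?_) <;>
      · rw [Subgroup.mem_centralizer_iff]
        intro w hw
        have hw' : w ∈ Subgroup.centralizer ({u} : Set G) := (sup_le (fun v hv => ?_) (fun v hv => ?_) :
          D.J ⊔ D.Z ≤ Subgroup.centralizer ({u} : Set G)) hw
        · exact Subgroup.mem_centralizer_singleton_iff.1 hw'
        all_goals rw [Subgroup.mem_centralizer_singleton_iff]
        all_goals first
          | exact D.J_comm v hv u hu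
          | exact D.comm_C (D.J_le hv) hu
          | exact (D.comm_C (D.J_le hu) hv).symm
          | exact D.comm_C (D.Z_le.trans D.R_le hv) hu
    rw [e] at hcl
    exact Subgroup.mem_centralizer_iff.1 (hcl hq) p hp
  exact D.R_not_comm fun p hp q hq => hc p (D.R_le_S hp) q (D.R_le_S hq)

/-- An abelian subgroup of order 27 of the centraliser is conjugate to the elementary subgroup. -/
theorem conj_to_J {A : Subgroup G} (hA : A ≤ D.C) (hc : ∀ p ∈ A, ∀ q ∈ A, p * q = q * p)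
    (hexp : ∀ p ∈ A, p ^ 3 = 1) (h27 : Nat.card A = 27) :
    ∃ g ∈ D.C, A.map (MulAut.conj g).toMonoidHom = D.J := by
  obtain ⟨p, hpA, hpR⟩ : ∃ p ∈ A, p ∉ D.R := SetLike.not_le_iff_exists.1 fun h =>
    D.R_not_comm (by rw [← Subgroup.eq_of_le_of_card_ge h (by rw [D.card_R, h27])]; exact hc)
  have hB : ∀ (q : G) (hq : q ∈ A), D.π ⟨q, hA hq⟩ * D.π ⟨q, hA hq⟩ * D.π ⟨q, hA hq⟩ = 1 := fun q hq => by
    have h : (⟨q, hA hq⟩ : ↥D.C) ^ 3 = 1 := Subtype.ext (hexp _ hq)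
    have := congrArg D.π h
    rwa [map_pow, map_one, pow_succ, pow_two] at this
  have hBne : D.π ⟨p, hA hpA⟩ ≠ 1 := fun e => hpR ((D.mem_R (x := ⟨p, hA hpA⟩)).2 e)
  obtain ⟨c, hc'⟩ := sl_three_conj D.X _ D.X_cube D.X_ne (hB p hpA) hBne
  obtain ⟨g, rfl⟩ := D.surj c
  refine ⟨g, g.2, D.eq_J ?_ ?_ ?_⟩
  · rintro _ ⟨q, hq, rfl⟩
    have e := sl_three_comm (D.π ⟨p, hA hpA⟩) (D.π ⟨q, hA hq⟩) (hB p hpA) (hB q hq) hBne (by
      rw [← map_mul, ← map_mul]
      exact congrArg D.π (Subtype.ext (hc p hpA q hq)))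
    refine (D.mem_S (g := g * ⟨q, hA hq⟩ * g⁻¹)).2 ?_
    rw [map_mul, map_mul, map_inv]
    rcases e with e | e | e <;> rw [e]
    · left; group
    · exact hc'.elim (fun h => Or.inr (Or.inl h)) (fun h => Or.inr (Or.inr h))
    · rw [← conj_mul]
      rcases hc' with h | h <;> rw [h]
      · exact Or.inr (Or.inr rfl)
      · right; left
        rw [← mul_assoc, D.X_cube, one_mul]
  · rintro _ ⟨u, hu, rfl⟩ _ ⟨v, hv, rfl⟩
    rw [← map_mul, ← map_mul, hc u hu v hv]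
  · rw [Subgroup.card_map_of_injective (f := (MulAut.conj (g : G)).toMonoidHom) (MulAut.conj (g : G)).injective, h27]

/-- The elementary subgroup is self-centralising. -/
theorem cent_J {g : G} (hg : ∀ j ∈ D.J, g * j = j * g) : g ∈ D.J := by
  by_contra hgJ
  have hgC : g ∈ D.C := D.mem_C.2 (hg _ D.a_mem_J)
  have hjc := D.J_le D.j0_mem
  have hgS : g ∈ D.S := by
    rcases sl_three_cent D.X (D.π ⟨g, hgC⟩) D.X_cube D.X_ne (by
      rw [X, ← map_mul, ← map_mul]
      exact congrArg D.π (Subtype.ext (hg _ D.j0_mem).symm)) with h | h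
    · exact ⟨hgC, h⟩
    · exfalso
      have h' : D.π (⟨g, hgC⟩ ^ 3) = -1 := by rw [map_pow, pow_succ, pow_two]; exact h
      -- the kernel meets the elementary subgroup outside the centre
      have hcard := card_mul_le D.J_le_S D.R_le_S
      rw [D.J_card, D.card_R] at hcard
      have h9 : ¬ D.J ⊓ D.R ≤ D.Z := fun h => by
        have h1 := Subgroup.card_le_of_le h
        rw [D.card_Z] at h1
        have := D.card_S_le
        nlinarith
      obtain ⟨y, hy, hyZ⟩ := SetLike.not_le_iff_exists.1 h9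
      refine hyZ (D.Z_of_sq hy.2 ?_)
      have hinv := D.neg_inverts h' hy.2
      rw [Subgroup.coe_pow, show (g : G) ^ 3 * y = y * g ^ 3 from
        (Commute.pow_left (show Commute g y from hg y hy.1) 3).eq, mul_inv_cancel_right] at hinv
      exact hinv
  let T : Subgroup G := D.J ⊔ Subgroup.zpowers g
  have hTS : T = D.S := D.closure_S le_sup_left (sup_le D.J_le_S (Subgroup.zpowers_le.2 hgS)) fun h =>
    hgJ (h (Subgroup.mem_sup_right (Subgroup.mem_zpowers g)))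
  have hle : T ≤ Subgroup.centralizer (D.J : Set G) := sup_le
    (fun u hu => Subgroup.mem_centralizer_iff.2 fun v hv => D.J_comm v hv u hu)
    (Subgroup.zpowers_le.2 (Subgroup.mem_centralizer_iff.2 fun v hv => (hg v hv).symm))
  rw [hTS] at hle
  refine D.j0_not ?_
  exact (D.mem_R (x := ⟨D.j0, hjc⟩)).2 (D.cent_R fun y hy =>
    Subgroup.mem_centralizer_iff.1 (hle (D.R_le_S hy)) _ D.j0_mem)

/-- An involution above the central involution normalising the elementary subgroup. -/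
theorem exists_invol : ∃ t : ↥D.C, D.π t = -1 ∧ (t : G) * t = 1 ∧ ∀ j ∈ D.J, (t : G) * j * t ∈ D.J := by
  obtain ⟨x, hx⟩ := D.surj (-1)
  have hx6 : x ^ 6 = 1 := by
    rw [show (6 : ℕ) = 2 * 3 from rfl, pow_mul]
    exact D.kerExp _ (by rw [map_pow, hx, pow_two, sl_neg.2.1])
  obtain ⟨t, ht⟩ : ∃ t, t = x ^ 3 := ⟨_, rfl⟩
  have htt : (t : G) * t = 1 := by
    have := congrArg Subtype.val hx6
    rw [show (6 : ℕ) = 3 + 3 from rfl, pow_add, ← ht] at this
    exact this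
  have hπ : D.π t = -1 := by rw [ht, map_pow, hx, pow_succ, pow_two, sl_neg.2.1, one_mul]
  refine ⟨t, hπ, htt, fun j hj => ?_⟩
  have hti : (t : G)⁻¹ = t := inv_eq_of_mul_eq_one_right htt
  have e : D.J.map (MulAut.conj (t : G)).toMonoidHom = D.J := by
    refine D.eq_J ?_ ?_ ?_
    · rintro _ ⟨i, hi, rfl⟩
      obtain ⟨hiC, hi'⟩ := D.J_le_S hi
      refine (D.mem_S (g := t * ⟨i, hiC⟩ * t⁻¹)).2 ?_
      rw [map_mul, map_mul, map_inv, hπ, sl_neg.2.2.1, mul_inv_cancel_right]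
      exact hi'
    · rintro _ ⟨u, hu, rfl⟩ _ ⟨v, hv, rfl⟩
      rw [← map_mul, ← map_mul, D.J_comm u hu v hv]
    · rw [Subgroup.card_map_of_injective (f := (MulAut.conj (t : G)).toMonoidHom) (MulAut.conj (t : G)).injective,
        D.J_card]
  rw [← e]
  exact ⟨j, hj, by show (t : G) * j * (t : G)⁻¹ = t * j * t; rw [hti]⟩

end Setup

end CfsgPSp43Real
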