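import Cfsg.Agent.Lib.PSp43Real.Sylow
import Cfsg.Agent.Lib.Sym9Three.Frame

/-!
The normalizer of the elementary subgroup as a monomial group. The construction follows
`Cfsg.Agent.Lib.Sym9Three.Frame`, with the centraliser of the element intersected with that normalizer.
-/

set_option autoImplicit false
set_option linter.style.haveILetI false
set_option synthInstance.maxSize 4000

namespace CfsgPSp43Real

open Equiv Subgroup
open CfsgLib.Sym9Three (V3 xv Mon Sub tr rot act toR rMul rInv inR inS permV inR_group tr_mem_Sub tr_mul tr_zero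
  rot_conj_tr sub0_repr pt_facts perm_kernel card_Sub act_one act_mul rMul_one rMul_assoc mem_Sub rot_facts sign_sets
  sign_fixed rot_mul Lb Lb_facts Lb_add act_add LinData pSignN)

universe u

/-- The monomial normalizer of the elementary subgroup. -/
structure Frame (G : Type u) [Group G] where
  /-- the underlying data -/
  D : Setup G
  /-- the set of signs -/
  k : Fin 4
  /-- the elements -/
  el : Mon → G
  el_mul : ∀ a ∈ Sub k, ∀ b ∈ Sub k, el (a * b) = el a * el b
  el_inj : ∀ a ∈ Sub k, ∀ b ∈ Sub k, el a = el b → a = b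
  mem_J : ∀ g, g ∈ D.J ↔ ∃ v, el (tr v) = g
  mem_N : ∀ g, g ∈ Subgroup.normalizer (D.J : Set G) ↔ ∃ m ∈ Sub k, el m = g
  el_x : el (tr xv) = D.a

variable {G : Type u} [Group G]

/-- The action on the translations determines a monomial rotation. -/
structure Pre (G : Type u) [Group G] where
  /-- the underlying data -/
  D : Setup G
  /-- the centralizer inside the normalizer -/
  φ : Sub 0 →* G
  inj : Function.Injective φ
  cent : ∀ g, g ∈ Subgroup.normalizer (D.J : Set G) →
    g * φ ⟨tr xv, tr_mem_Sub 0 xv⟩ = φ ⟨tr xv, tr_mem_Sub 0 xv⟩ * g → ∃ m, φ m = g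
  mem_J : ∀ g, g ∈ D.J ↔ ∃ v, φ ⟨tr v, tr_mem_Sub 0 v⟩ = g
  φ_x : φ ⟨tr xv, tr_mem_Sub 0 xv⟩ = D.a

namespace Pre

variable (D : Pre G)

/-- A translation in the group. -/
def jv (v : V3) : G := D.φ ⟨tr v, tr_mem_Sub 0 v⟩

theorem jv_add (v w : V3) : D.jv (v + w) = D.jv v * D.jv w := by
  rw [jv, jv, jv, ← map_mul]
  exact congrArg D.φ (Subtype.ext (tr_mul v w).symm)

theorem jv_inj {v w : V3} (h : D.jv v = D.jv w) : v = w := congrArg (fun m : Sub 0 => m.1.v) (D.inj h)

theorem jv_mem (v : V3) : D.jv v ∈ D.D.J := (D.mem_J _).mpr ⟨v, rfl⟩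

theorem phi_conj (m : Sub 0) (v : V3) : D.φ m * D.jv v * (D.φ m)⁻¹ = D.jv (act m.1.g v) := by
  rw [jv, jv, ← map_inv, ← map_mul, ← map_mul]
  exact congrArg D.φ (Subtype.ext (rot_conj_tr m.1 v))

theorem phi_mem_N (m : Sub 0) : D.φ m ∈ Subgroup.normalizer (D.D.J : Set G) := by
  have key : ∀ (m : Sub 0), ∀ z ∈ D.D.J, D.φ m * z * (D.φ m)⁻¹ ∈ D.D.J := fun m z hz => by
    obtain ⟨v, rfl⟩ := (D.mem_J z).mp hz
    exact (D.mem_J _).mpr ⟨act m.1.g v, (D.phi_conj m v).symm⟩
  rw [Subgroup.mem_normalizer_iff]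
  refine fun z => ⟨key m z, fun hz => ?_⟩
  have := key m⁻¹ _ hz
  rwa [map_inv, inv_inv, mul_assoc, mul_assoc, inv_mul_cancel, mul_one, ← mul_assoc, inv_mul_cancel, one_mul] at this

theorem act_exists {g : G} (hg : g ∈ Subgroup.normalizer (D.D.J : Set G)) (v : V3) :
    ∃ w, g * D.jv v * g⁻¹ = D.jv w := by
  obtain ⟨w, hw⟩ := (D.mem_J _).mp ((Subgroup.mem_normalizer_iff.mp hg _).mp (D.jv_mem v))
  exact ⟨w, hw.symm⟩

/-- The image of a translation. -/
noncomputable def move (g : Subgroup.normalizer (D.D.J : Set G)) (v : V3) : V3 := (D.act_exists g.2 v).choose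

theorem move_spec (g : Subgroup.normalizer (D.D.J : Set G)) (v : V3) :
    (g : G) * D.jv v * (g : G)⁻¹ = D.jv (D.move g v) := (D.act_exists g.2 v).choose_spec

theorem move_eq {g : Subgroup.normalizer (D.D.J : Set G)} {v w : V3}
    (h : (g : G) * D.jv v * (g : G)⁻¹ = D.jv w) : D.move g v = w := D.jv_inj ((D.move_spec g v).symm.trans h)

theorem move_mul (g h : Subgroup.normalizer (D.D.J : Set G)) (v : V3) : D.move (g * h) v = D.move g (D.move h v) := by
  apply D.move_eq
  rw [Subgroup.coe_mul, ← D.move_spec, ← D.move_spec]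
  group

theorem move_one (v : V3) : D.move 1 v = v := D.move_eq (by simp)

theorem move_add (g : Subgroup.normalizer (D.D.J : Set G)) (v w : V3) :
    D.move g (v + w) = D.move g v + D.move g w := by
  apply D.move_eq
  rw [D.jv_add, D.jv_add, ← D.move_spec, ← D.move_spec]
  group

theorem move_phi (m : Sub 0) (v : V3) : D.move ⟨D.φ m, D.phi_mem_N m⟩ v = act m.1.g v := D.move_eq (D.phi_conj m v)

/-- The action on the translations. -/
noncomputable def moveHom : Subgroup.normalizer (D.D.J : Set G) →* Perm V3 where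
  toFun g :=
    { toFun := D.move g
      invFun := D.move g⁻¹
      left_inv := fun v => by rw [← D.move_mul, inv_mul_cancel, D.move_one]
      right_inv := fun v => by rw [← D.move_mul, mul_inv_cancel, D.move_one] }
  map_one' := Equiv.ext D.move_one
  map_mul' g h := Equiv.ext (D.move_mul g h)

theorem moveHom_apply (g : Subgroup.normalizer (D.D.J : Set G)) (v : V3) : D.moveHom g v = D.move g v := rfl

theorem of_fix {g : Subgroup.normalizer (D.D.J : Set G)} (h : D.move g xv = xv) : ∃ m, D.φ m = (g : G) :=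
  D.cent g g.2 (mul_inv_eq_iff_eq_mul.mp (by
    have := D.move_spec g xv
    rwa [h] at this))

theorem sub0_small (m : Sub 0) : m.1.g.val < 6 := (pt_facts.2.2.2.2 _).mp m.2

theorem trivial_move {g : Subgroup.normalizer (D.D.J : Set G)} (h : ∀ v, D.move g v = v) : (g : G) ∈ D.D.J := by
  obtain ⟨m, hm⟩ := D.of_fix (h xv)
  obtain ⟨p, hp⟩ := sub0_repr m.2
  have hg : g = ⟨D.φ m, D.phi_mem_N m⟩ := Subtype.ext hm.symm
  have hp0 := perm_kernel p fun v => by
    have := h v
    rw [hg, D.move_phi, hp] at this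
    exact this
  rw [← hm]
  refine (D.mem_J _).mpr ⟨m.1.v, congrArg D.φ (Subtype.ext ?_)⟩
  rw [hp, hp0]
  rfl

theorem card_J : Nat.card D.D.J = 27 := by
  let e : V3 ≃ D.D.J := Equiv.ofBijective (fun v => ⟨D.jv v, D.jv_mem v⟩)
    ⟨fun v w h => D.jv_inj (congrArg Subtype.val h), fun z => by
      obtain ⟨v, hv⟩ := (D.mem_J _).mp z.2
      exact ⟨v, Subtype.ext hv⟩⟩
  rw [← Nat.card_congr e, Nat.card_eq_fintype_card]
  rfl

theorem ker_moveHom : D.moveHom.ker = D.D.J.subgroupOf (Subgroup.normalizer (D.D.J : Set G)) := by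
  ext g
  rw [MonoidHom.mem_ker, Subgroup.mem_subgroupOf]
  constructor
  · intro h
    refine D.trivial_move fun v => ?_
    rw [← D.moveHom_apply, h]
    rfl
  · intro h
    obtain ⟨w, hw⟩ := (D.mem_J _).mp h
    refine Equiv.ext fun v => D.move_eq ?_
    show (g : G) * D.jv v * (g : G)⁻¹ = D.jv v
    rw [← hw]
    show D.jv w * D.jv v * (D.jv w)⁻¹ = D.jv v
    rw [← D.jv_add, add_comm, D.jv_add, mul_inv_cancel_right]

variable [Finite G]

theorem card_normalizer : Nat.card (Subgroup.normalizer (D.D.J : Set G)) = 27 * Nat.card D.moveHom.range := by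
  rw [← D.moveHom.ker.card_mul_index, D.ker_moveHom,
    Nat.card_congr (Subgroup.subgroupOfEquivOfLe Subgroup.le_normalizer).toEquiv, D.card_J, ← D.ker_moveHom,
    Subgroup.index_ker]

/-- The image of the action satisfies the linear hypotheses. -/
theorem linData : LinData D.moveHom.range where
  add := by rintro _ ⟨g, rfl⟩ v w; exact D.move_add g v w
  perms r hr := ⟨_, ⟨⟨D.φ ⟨rot r, (pt_facts.2.2.2.2 r).mpr hr⟩, D.phi_mem_N _⟩, rfl⟩, fun v => D.move_phi _ v⟩
  stab := by
    rintro _ ⟨g, rfl⟩ h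
    obtain ⟨m, hm⟩ := D.of_fix h
    refine ⟨m.1.g, sub0_small m, fun v => ?_⟩
    rw [D.moveHom_apply, show g = ⟨D.φ m, D.phi_mem_N m⟩ from Subtype.ext hm.symm, D.move_phi]
  nine := by
    intro h9
    haveI : Fact (Nat.Prime 3) := ⟨Nat.prime_three⟩
    obtain ⟨Q⟩ := (inferInstance : Nonempty (Sylow 3 (Subgroup.normalizer (D.D.J : Set G))))
    have h := D.D.card_three_le ((Q : Subgroup _).map (Subgroup.normalizer (D.D.J : Set G)).subtype) (Q.2.map _)
    rw [Subgroup.card_map_of_injective (Subgroup.normalizer (D.D.J : Set G)).subtype_injective] at h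
    have h243 : 3 ^ 5 ∣ Nat.card (Subgroup.normalizer (D.D.J : Set G)) := by
      rw [D.card_normalizer, show (3 : ℕ) ^ 5 = 27 * 9 by norm_num]
      exact mul_dvd_mul_left 27 h9
    have := Nat.le_of_dvd Nat.card_pos (Q.pow_dvd_card_of_pow_dvd_card h243)
    omega

/-- The frame when the rotations are monomial. -/
theorem exists_frame (hmon : ∀ g : Subgroup.normalizer (D.D.J : Set G), ∃ r, ∀ v, D.move g v = act r v) :
    ∃ F : Frame G, F.D = D.D := by
  classical
  set N := Subgroup.normalizer (D.D.J : Set G) with hNdef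
  choose rr hrr using hmon
  have hruniq : ∀ g r, (∀ v, D.move g v = act r v) → rr g = r := fun g r h => rot_facts.2.2.2.1 _ _ (by
    rw [show act (rr g) = act r from funext fun v => (hrr g v).symm.trans (h v)])
  have hrmul : ∀ g h, rr (g * h) = rMul (rr g) (rr h) := fun g h => hruniq _ _ fun v => by
    rw [D.move_mul, hrr, hrr, act_mul]
  have hrphi : ∀ m : Sub 0, rr ⟨D.φ m, D.phi_mem_N m⟩ = m.1.g := fun m => hruniq _ _ (D.move_phi m)
  have hr1 : rr 1 = 0 := hruniq _ _ fun v => by rw [D.move_one, act_one]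
  have hrinv : ∀ g, rr g⁻¹ = rInv (rr g) := fun g => by
    have h := hrmul g g⁻¹
    rw [mul_inv_cancel, hr1] at h
    calc rr g⁻¹ = rMul (rMul (rInv (rr g)) (rr g)) (rr g⁻¹) := by rw [(rMul_one _).2.2.1, (rMul_one _).1]
      _ = rMul (rInv (rr g)) (rMul (rr g) (rr g⁻¹)) := rMul_assoc _ _ _
      _ = rInv (rr g) := by rw [← h, (rMul_one _).2.1]
  let pm : Fin 6 → N := fun p => ⟨D.φ ⟨rot (toR p.val), (by decide +kernel : ∀ p : Fin 6, rot (toR p.val) ∈ Sub 0) p⟩,
    D.phi_mem_N _⟩
  have hpm : ∀ p : Fin 6, rr (pm p) = toR p.val := fun p => hrphi _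
  let S : Fin 8 → Bool := fun s => decide (∃ g, rr g = toR (6 * s.val))
  have hsplit : ∀ r : Fin 48, (∃ g, rr g = r) ↔ ∃ g, rr g = toR (6 * (r.val / 6)) := fun r => by
    have hp : r.val % 6 < 6 := Nat.mod_lt _ (by norm_num)
    constructor
    · rintro ⟨g, hg⟩
      refine ⟨g * (pm ⟨_, hp⟩)⁻¹, ?_⟩
      rw [hrmul, hrinv, hpm, hg]
      exact (by decide +kernel : ∀ r : Fin 48, rMul r (rInv (toR (r.val % 6))) = toR (6 * (r.val / 6))) r
    · rintro ⟨g, hg⟩
      exact ⟨g * pm ⟨_, hp⟩, by rw [hrmul, hg, hpm]; exact (rot_facts.1 r).symm⟩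
  obtain ⟨k, hk⟩ := sign_sets S (decide_eq_true ⟨1, hr1⟩)
    (fun s t hs ht => by
      obtain ⟨g, hg⟩ := of_decide_eq_true hs
      obtain ⟨h, hh⟩ := of_decide_eq_true ht
      exact decide_eq_true ⟨g * h, by rw [hrmul, hg, hh]; exact rot_facts.2.1 s t⟩)
    (fun p s hs => by
      obtain ⟨g, hg⟩ := of_decide_eq_true hs
      exact decide_eq_true ⟨pm p * g * (pm p)⁻¹, by rw [hrmul, hrmul, hrinv, hg, hpm]; exact rot_facts.2.2.1 p s⟩)
  have hmem : ∀ r : Fin 48, (∃ g, rr g = r) ↔ inR k r = true := fun r => by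
    rw [hsplit r, inR, ← hk ⟨r.val / 6, by omega⟩]
    exact (decide_eq_true_iff).symm
  have hsec : ∃ w : Fin 48 → N, (∀ r, inR k r = true → rr (w r) = r) ∧
      ∀ r s, inR k r = true → inR k s = true → w (rMul r s) = w r * w s := by
    by_cases hk0 : k = 0
    · let wd : Fin 48 → N := fun r => if h : r.val < 6 then pm ⟨r.val, h⟩ else 1
      have hval : ∀ r (h : r.val < 6), (wd r : G) = D.φ ⟨rot r, (pt_facts.2.2.2.2 r).mpr h⟩ := fun r h => by
        simp only [wd, dif_pos h]
        exact congrArg D.φ (Subtype.ext (congrArg rot (Fin.ext (Nat.mod_eq_of_lt r.isLt))))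
      refine ⟨wd, fun r hr => ?_, fun r s hr hs => ?_⟩
      · rw [hk0] at hr
        have h := (pt_facts.2.2.2.2 r).mp hr
        rw [show wd r = ⟨D.φ ⟨rot r, hr⟩, D.phi_mem_N _⟩ from Subtype.ext (hval r h), hrphi]
      · rw [hk0] at hr hs
        have hrs := ((inR_group 0).2 r hr).2 s hs
        refine Subtype.ext ?_
        rw [Subgroup.coe_mul, hval _ ((pt_facts.2.2.2.2 _).mp hrs), hval _ ((pt_facts.2.2.2.2 _).mp hr),
          hval _ ((pt_facts.2.2.2.2 _).mp hs), ← map_mul]
        exact congrArg D.φ (Subtype.ext (rot_mul r s).symm)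
    · -- the normalizer of a Sylow 2-subgroup of the inverse image of the signs is a complement
      let M : Subgroup N :=
        { carrier := {g | (rr g).val % 6 = 0}
          mul_mem' := fun {a b} ha hb => by
            show (rr (a * b)).val % 6 = 0
            rw [hrmul]
            exact (by decide +kernel : ∀ r s : Fin 48, r.val % 6 = 0 → s.val % 6 = 0 → (rMul r s).val % 6 = 0) _ _ ha hb
          one_mem' := by show (rr 1).val % 6 = 0; rw [hr1]; rfl
          inv_mem' := fun {a} ha => by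
            show (rr a⁻¹).val % 6 = 0
            rw [hrinv]
            exact (by decide +kernel : ∀ r : Fin 48, r.val % 6 = 0 → (rInv r).val % 6 = 0) _ ha }
      have hMn : M.Normal := ⟨fun a ha g => by
        show (rr (g * a * g⁻¹)).val % 6 = 0
        rw [hrmul, hrmul, hrinv]
        exact (by decide +kernel : ∀ r s : Fin 48, s.val % 6 = 0 → (rMul (rMul r s) (rInv r)).val % 6 = 0) _ _ ha⟩
      haveI : Fact (Nat.Prime 2) := ⟨Nat.prime_two⟩
      obtain ⟨V⟩ := (inferInstance : Nonempty (Sylow 2 M))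
      haveI := hMn
      set V' := (V : Subgroup M).map M.subtype with hV'
      set W := Subgroup.normalizer (V' : Set N) with hW
      have hsup : W ⊔ M = ⊤ := Sylow.normalizer_sup_eq_top V
      have hV2 : IsPGroup 2 V' := V.2.map _
      have h8 : ∀ r : Fin 48, r.val % 6 = 0 → rMul r r = 0 := by decide +kernel
      have hsurjV : ∀ m ∈ M, ∃ v ∈ V', rr v = rr m := by
        intro m hm
        let f : M →* Perm V3 := D.moveHom.comp M.subtype
        have hf3 : IsPGroup 2 (f.range) := by
          rintro ⟨_, z, rfl⟩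
          refine ⟨1, Subtype.ext ?_⟩
          show (f z) ^ 2 ^ 1 = 1
          rw [pow_one, pow_two, ← map_mul]
          refine Equiv.ext fun v => ?_
          show D.move ((z : N) * z) v = v
          rw [hrr, hrmul, h8 _ z.2, act_one]
        let Vs := (V : Subgroup M).map f.rangeRestrict
        have hidx : Vs.index ∣ (V : Subgroup M).index :=
          Subgroup.index_map_dvd _ f.rangeRestrict_surjective
        obtain ⟨i, hi⟩ := hf3.index Vs
        have hi0 : i = 0 := by
          by_contra h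
          exact V.not_dvd_index ((dvd_pow_self 2 h).trans (hi ▸ hidx))
        have htop : Vs = ⊤ := Subgroup.index_eq_one.mp (by rw [hi, hi0, pow_zero])
        obtain ⟨z, hz, e⟩ : (⟨f ⟨m, hm⟩, ⟨_, rfl⟩⟩ : f.range) ∈ Vs := htop ▸ Subgroup.mem_top _
        refine ⟨z, ⟨z, hz, rfl⟩, hruniq _ _ fun v => ?_⟩
        rw [← hrr]
        exact Equiv.congr_fun (congrArg Subtype.val e) v
      have hWJ : ∀ w ∈ W, rr w = 0 → w = 1 := by
        intro w hw hw0
        have hwJ : (w : G) ∈ D.D.J := D.trivial_move fun v => by rw [hrr, hw0, act_one]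
        obtain ⟨v, hv⟩ := (D.mem_J _).mp hwJ
        have hwv : (w : G) = D.jv v := hv.symm
        have hfix : ∀ z ∈ V', act (rr z) v = v := by
          intro z hz
          have h1 : z * w * z⁻¹ * w⁻¹ ∈ V' := by
            rw [show z * w * z⁻¹ * w⁻¹ = z * (w * z⁻¹ * w⁻¹) by group]
            exact mul_mem hz ((Subgroup.mem_normalizer_iff.mp hw _).mp (inv_mem hz))
          have h2 : ((z * w * z⁻¹ * w⁻¹ : N) : G) ∈ D.D.J := by
            rw [Subgroup.coe_mul, Subgroup.coe_mul, Subgroup.coe_mul, Subgroup.coe_inv, Subgroup.coe_inv, hwv]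
            rw [D.move_spec z v]
            exact mul_mem (D.jv_mem _) (inv_mem (D.jv_mem v))
          set c := z * w * z⁻¹ * w⁻¹ with hcdef
          have h3 : orderOf c ∣ 27 := by
            rw [← D.card_J, ← orderOf_injective N.subtype N.subtype_injective]
            exact Subgroup.orderOf_dvd_natCard _ h2
          obtain ⟨i, hi⟩ := hV2 ⟨c, h1⟩
          have h4 : orderOf c ∣ 2 ^ i := orderOf_dvd_of_pow_eq_one (congrArg Subtype.val hi)
          have h5 : c = 1 := orderOf_eq_one_iff.mp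
            (Nat.eq_one_of_dvd_coprimes (Nat.Coprime.pow_left i (by norm_num)) h4 h3)
          rw [hcdef, mul_inv_eq_one] at h5
          rw [← hrr]
          refine D.move_eq ?_
          rw [← hwv]
          exact congrArg Subtype.val h5
        have hv0 : v = 0 := sign_fixed k hk0 v fun s hs => by
          obtain ⟨g, hg⟩ := (hmem (toR (6 * s.val))).mpr (by
            have e : (toR (6 * s.val)).val / 6 = s.val := by
              show 6 * s.val % 48 / 6 = s.val
              omega
            rw [inR, e]; exact hs)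
          have hgM : g ∈ M := by show (rr g).val % 6 = 0; rw [hg]; show 6 * s.val % 48 % 6 = 0; omega
          obtain ⟨z, hz, ez⟩ := hsurjV g hgM
          rw [← hg, ← ez]
          exact hfix z hz
        refine Subtype.ext ?_
        rw [hwv, hv0]
        show D.φ _ = 1
        rw [show (⟨tr 0, tr_mem_Sub 0 0⟩ : Sub 0) = 1 from Subtype.ext tr_zero, map_one]
      have hex : ∀ r, inR k r = true → ∃ w ∈ W, rr w = r := by
        intro r hr
        obtain ⟨g, hg⟩ := (hmem r).mpr hr
        obtain ⟨w, hw, m, hm, e⟩ := Subgroup.mem_sup_of_normal_right.mp (hsup ▸ Subgroup.mem_top g)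
        obtain ⟨z, hz, ez⟩ := hsurjV m hm
        exact ⟨w * z, mul_mem hw (Subgroup.le_normalizer hz), by rw [hrmul, ez, ← hrmul, e, hg]⟩
      choose w hwW hwr using hex
      let wd : Fin 48 → N := fun r => if h : inR k r = true then w r h else 1
      have hwd : ∀ r, inR k r = true → wd r ∈ W ∧ rr (wd r) = r := fun r h => by
        simp only [wd, dif_pos h]; exact ⟨hwW r h, hwr r h⟩
      refine ⟨wd, fun r hr => (hwd r hr).2, fun r s hr hs => ?_⟩
      have hrs := ((inR_group k).2 r hr).2 s hs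
      refine inv_mul_eq_one.mp (hWJ _ (mul_mem (inv_mem (hwd _ hrs).1) (mul_mem (hwd r hr).1 (hwd s hs).1)) ?_)
      rw [hrmul, hrinv, hrmul, (hwd r hr).2, (hwd s hs).2, (hwd _ hrs).2, (rMul_one _).2.2.1]
  obtain ⟨w, hwr, hwmul⟩ := hsec
  let el : Mon → G := fun m => D.jv m.v * (w m.g : G)
  have hw0 : w 0 = 1 := by
    have := hwmul 0 0 (inR_group k).1 (inR_group k).1
    rw [(rMul_one 0).1] at this
    exact left_eq_mul.mp this
  have heltr : ∀ v, el (tr v) = D.jv v := fun v => by
    show D.jv v * (w 0 : G) = _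
    rw [hw0, Subgroup.coe_one, mul_one]
  have hwconj : ∀ r, inR k r = true → ∀ v, (w r : G) * D.jv v * (w r : G)⁻¹ = D.jv (act r v) := fun r hr v => by
    rw [D.move_spec, hrr, hwr r hr]
  have hN : ∀ g : N, ∃ m ∈ Sub k, el m = (g : G) := by
    intro g
    have hr := (hmem (rr g)).mp ⟨g, rfl⟩
    have hJ : ((g * (w (rr g))⁻¹ : N) : G) ∈ D.D.J := D.trivial_move fun v => by
      rw [hrr, hrmul, hrinv, hwr _ hr, (rMul_one _).2.2.2, act_one]
    obtain ⟨v, hv⟩ := (D.mem_J _).mp hJ
    refine ⟨⟨v, rr g⟩, hr, ?_⟩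
    show D.jv v * (w (rr g) : G) = g
    rw [jv, hv, Subgroup.coe_mul, Subgroup.coe_inv, inv_mul_cancel_right]
  refine ⟨{ D := D.D
            k := k
            el := el
            el_mul := fun a ha b hb => ?_
            el_inj := fun a ha b hb e => ?_
            mem_J := fun g => by
              rw [D.mem_J]
              exact exists_congr fun v => by rw [heltr]; rfl
            mem_N := fun g => ⟨fun hg => hN ⟨g, hg⟩, ?_⟩
            el_x := (heltr xv).trans D.φ_x }, rfl⟩
  · show D.jv (a.v + act a.g b.v) * (w (rMul a.g b.g) : G) = D.jv a.v * (w a.g : G) * (D.jv b.v * (w b.g : G))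
    rw [hwmul _ _ ha hb, Subgroup.coe_mul, D.jv_add, ← hwconj _ ha]
    group
  · obtain ⟨v, r⟩ := a
    obtain ⟨v', r'⟩ := b
    change D.jv v * (w r : G) = D.jv v' * (w r' : G) at e
    have hj : D.jv (-v' + v) = (w r' : G) * (w r : G)⁻¹ := by
      rw [D.jv_add, eq_mul_inv_iff_mul_eq, mul_assoc, e, ← mul_assoc, ← D.jv_add, neg_add_cancel]
      show D.φ _ * _ = _
      rw [show (⟨tr 0, tr_mem_Sub 0 0⟩ : Sub 0) = 1 from Subtype.ext tr_zero, map_one, one_mul]
    have h0 : rr (w r' * (w r)⁻¹) = 0 := by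
      refine hruniq _ _ fun u => D.move_eq ?_
      rw [Subgroup.coe_mul, Subgroup.coe_inv, ← hj, act_one, ← D.jv_add, add_comm, D.jv_add, mul_inv_cancel_right]
    rw [hrmul, hrinv, hwr _ ha, hwr _ hb] at h0
    have : r' = r := by
      calc r' = rMul (rMul r' (rInv r)) r := by rw [rMul_assoc, (rMul_one _).2.2.1, (rMul_one _).2.1]
        _ = r := by rw [h0, (rMul_one _).1]
    subst this
    rw [D.jv_inj (mul_right_cancel e)]
  · rintro ⟨m, -, rfl⟩
    exact mul_mem (Subgroup.le_normalizer (D.jv_mem _)) (w m.g).2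

end Pre

namespace Setup

variable (D : Setup G) [Finite G]

/-- The data have a monomial frame. -/
theorem exists_frame : ∃ F : Frame G, F.D = D := by
  obtain ⟨φ, hinj, hx, hJ, hC, hrange, -⟩ := D.exists_phi
  let P : Pre G :=
    { D := D
      φ := φ
      inj := hinj
      cent := fun g hg hc => hrange g (D.mem_C.2 (by rwa [hx] at hc)) hg
      mem_J := hJ
      φ_x := hx }
  obtain ⟨b, hb⟩ := P.linData.monomial
  have hLa : ∀ v, Lb b (Lb (-b) v) = v := fun v => by
    have := (Lb_facts (-b)).1 v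
    rwa [neg_neg] at this
  let tw : Sub 0 →* Sub 0 :=
    { toFun := fun a => ⟨⟨Lb b a.1.v, a.1.g⟩, a.2⟩
      map_one' := Subtype.ext (by
        show (⟨Lb b 0, 0⟩ : Mon) = ⟨0, 0⟩
        rw [show Lb b 0 = 0 from (by decide +kernel : ∀ b : ZMod 3, Lb b 0 = 0) b])
      map_mul' := fun a c => Subtype.ext (by
        show (⟨Lb b (a.1.v + act a.1.g c.1.v), rMul a.1.g c.1.g⟩ : Mon) =
          ⟨Lb b a.1.v + act a.1.g (Lb b c.1.v), rMul a.1.g c.1.g⟩
        rw [Lb_add, (Lb_facts b).2.2 _ ((pt_facts.2.2.2.2 _).mp a.2)]) }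
  have hx' : (φ.comp tw) ⟨tr xv, tr_mem_Sub 0 xv⟩ = D.a := by
    rw [← hx]
    exact congrArg φ (Subtype.ext (by show (⟨Lb b xv, 0⟩ : Mon) = tr xv; rw [(Lb_facts b).2.1]))
  let P' : Pre G :=
    { D := D
      φ := φ.comp tw
      inj := hinj.comp fun a c h => by
        have h' := congrArg Subtype.val h
        refine Subtype.ext ?_
        rw [← CfsgLib.Sym9Three.Mon.equivProd.injective.eq_iff]
        have hg' := congrArg (fun m : Mon => m.g) h'
        refine Prod.ext ?_ (show a.1.g = c.1.g from hg')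
        have hv' : Lb b a.1.v = Lb b c.1.v := congrArg (fun m : Mon => m.v) h'
        have := congrArg (Lb (-b)) hv'
        rwa [(Lb_facts b).1, (Lb_facts b).1] at this
      cent := fun g hg hc => by
        obtain ⟨a, ha⟩ := P.cent g hg (by
          show g * φ _ = φ _ * g
          rw [hx]; rwa [hx'] at hc)
        refine ⟨⟨⟨Lb (-b) a.1.v, a.1.g⟩, a.2⟩, ?_⟩
        rw [← ha]
        refine congrArg φ (Subtype.ext ?_)
        show (⟨Lb b (Lb (-b) a.1.v), a.1.g⟩ : Mon) = a.1
        rw [hLa]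
      mem_J := fun g => by
        rw [hJ]
        constructor
        · rintro ⟨v, hv⟩
          refine ⟨Lb (-b) v, ?_⟩
          rw [← hv]
          refine congrArg φ (Subtype.ext ?_)
          show (⟨Lb b (Lb (-b) v), 0⟩ : Mon) = tr v
          rw [hLa]
        · rintro ⟨v, hv⟩
          exact ⟨Lb b v, hv⟩
      φ_x := hx' }
  have hmon : ∀ g : Subgroup.normalizer (P'.D.J : Set G), ∃ r, ∀ v, P'.move g v = act r v := by
    intro g
    obtain ⟨r, hr⟩ := hb (P.moveHom g) ⟨g, rfl⟩
    refine ⟨r, fun v => P'.move_eq ?_⟩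
    show (g : G) * P.jv (Lb b v) * (g : G)⁻¹ = P.jv (Lb b (act r v))
    rw [← hr v, P.moveHom_apply]
    exact P.move_spec g (Lb b v)
  exact P'.exists_frame hmon

end Setup

end CfsgPSp43Real
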