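import Cfsg.Agent.Lib.PSp43Real.Three

/-!
An element of order eight and fusion of elements of order three into the normalizer.
-/

set_option autoImplicit false
set_option linter.style.haveILetI false
set_option synthInstance.maxSize 4000

namespace CfsgPSp43Real

open CfsgLib.Sym9Three (V3 xv Mon Sub tr rot act inR eType exists_conj_mem tr_mem_Sub ev)

theorem sl_moves : ∀ A : SL23, A * A * A = 1 → A ≠ 1 →
    ∃ B : SL23, B * B * (B * B) = 1 ∧ A * B * A⁻¹ ≠ B ∧ A * B * A⁻¹ ≠ B * -1 := by decide +kernel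

theorem eight_mon : rot 42 * rot 42 = 1 ∧ rot 42 * rot 1 = rot 1 * rot 42 ∧ act 42 xv = -xv ∧
    act 42 ev = -ev ∧ act 1 ev = ev ∧ vsum ev ≠ 0 ∧
    (∀ m : Mon, act m.g ev = ev → m * rot 18 ≠ rot 6 * m ∧ m * rot 18 ≠ rot 1 * m) := by decide +kernel

/-- A 2-subgroup containing the 2-elements normalising it contains a conjugate of every 2-element. -/
theorem conj_mem_of_two_max {G : Type*} [Group G] [Finite G] {P : Subgroup G} (hP : IsPGroup 2 P)
    (hmax : ∀ g ∈ Subgroup.normalizer (P : Set G), (∃ n : ℕ, g ^ 2 ^ n = 1) → g ∈ P) {r : G}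
    (hr : ∃ n : ℕ, r ^ 2 ^ n = 1) : ∃ c, c * r * c⁻¹ ∈ P := by
  haveI : Fact (Nat.Prime 2) := ⟨Nat.prime_two⟩
  obtain ⟨S, hS⟩ := hP.exists_le_sylow
  have hSP : (S : Subgroup G) ≤ P := by
    by_contra hne
    have hlt : P.subgroupOf (S : Subgroup G) < ⊤ :=
      lt_top_iff_ne_top.mpr fun e => hne (Subgroup.subgroupOf_eq_top.mp e)
    haveI : Group.IsNilpotent (S : Subgroup G) := S.2.isNilpotent
    obtain ⟨⟨g, hgS⟩, hgn, hgP⟩ := SetLike.exists_of_lt (Group.normalizerCondition_of_isNilpotent _ hlt)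
    obtain ⟨n, hn⟩ := S.2 ⟨g, hgS⟩
    refine hgP (hmax g (Subgroup.mem_normalizer_iff.2 fun b => ⟨fun hb => ?_, fun hb => ?_⟩)
      ⟨n, congrArg Subtype.val hn⟩)
    · exact (Subgroup.mem_normalizer_iff.1 hgn ⟨b, hS hb⟩).1 hb
    · have hbS : b ∈ (S : Subgroup G) := by
        have := mul_mem (mul_mem (inv_mem hgS) (hS hb)) hgS
        simpa [mul_assoc] using this
      exact (Subgroup.mem_normalizer_iff.1 hgn ⟨b, hbS⟩).2 hb
  obtain ⟨n, hn⟩ := hr
  have hZ : IsPGroup 2 (Subgroup.zpowers r) := fun w => ⟨n, by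
    obtain ⟨_, i, rfl⟩ := w
    refine Subtype.ext ?_
    show (r ^ i) ^ 2 ^ n = 1
    rw [← zpow_natCast, ← zpow_mul, mul_comm, zpow_mul, zpow_natCast, hn, one_zpow]⟩
  obtain ⟨S', hS'⟩ := hZ.exists_le_sylow
  obtain ⟨c, hc⟩ := MulAction.exists_smul_eq G S' S
  refine ⟨c, hSP ?_⟩
  rw [← hc, Sylow.coe_subgroup_smul]
  exact Subgroup.smul_mem_pointwise_smul _ (MulAut.conj c) (S' : Subgroup G) (hS' (Subgroup.mem_zpowers _))

universe u

namespace Frame3

variable {G : Type u} [Group G] [Finite G] (F : Frame3 G)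

omit [Finite G] in
theorem φ_one_tI : F.φ (rot 1) = F.tI := rfl

omit [Finite G] in
theorem φ_xv : F.j xv = F.D.a := F.el_x

include F in
theorem exists_eight : ∃ r : G, r ^ 8 = 1 ∧ r ^ 4 ≠ 1 := by
  obtain ⟨h42, h421, h42x, h42e, h1e, hse, -⟩ := eight_mon
  obtain ⟨jj, hjj⟩ : ∃ jj, jj = F.φ (rot 42) := ⟨_, rfl⟩
  obtain ⟨e, he⟩ : ∃ e, e = F.j ev := ⟨_, rfl⟩
  have hj2 : jj * jj = 1 := hjj ▸ F.φ_sq h42
  have hji : jj⁻¹ = jj := inv_eq_of_mul_eq_one_right hj2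
  have hjt : Commute jj F.tI := hjj ▸ F.φ_comm.2 h421
  have hja : jj * F.D.a * jj⁻¹ = F.D.a⁻¹ := by rw [hjj, ← F.φ_xv, F.φ_conj_j, ← F.j_neg]; exact congrArg F.j h42x
  have het : Commute e F.tI := he ▸ (F.φ_comm_j.2 h1e).symm
  have hea : Commute e F.D.a := by rw [he, ← F.φ_xv]; exact F.J_comm (F.j_mem _) (F.j_mem _)
  have hje : jj * e * jj = e⁻¹ := by
    have := F.φ_conj_j (rot 42) ev
    rw [show act (rot 42).g ev = -ev from h42e, F.j_neg, ← hjj, ← he, hji] at this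
    exact this
  have hnorm : ∀ {g : G}, Commute g F.tI → (g * F.D.a * g⁻¹ = F.D.a ∨ g * F.D.a * g⁻¹ = F.D.a⁻¹) →
      ∀ {q : G}, q ∈ F.Qt → g * q * g⁻¹ ∈ F.Qt := fun {g} hg ha {q} hq =>
    (Subgroup.mem_normalizer_iff.1 (F.norm_Qt hg ha) q).1 hq
  by_cases hex : ∃ q ∈ F.Qt, jj * q * jj ≠ q ∧ jj * q * jj ≠ q * F.tI
  · obtain ⟨q, hq, hq1, hq2⟩ := hex
    have hq' : jj * q * jj ∈ F.Qt := by
      have := hnorm hjt (Or.inr hja) hq
      rwa [hji] at this
    have hqne : q ≠ 1 ∧ q ≠ F.tI := by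
      refine ⟨fun h => hq1 ?_, fun h => hq1 ?_⟩
      · rw [h, mul_one, hj2]
      · rw [h, hjt.eq, mul_assoc, hj2, mul_one]
    have hqq : q * q = F.tI := (((F.Qt_sq hq).resolve_left hqne.1).resolve_left hqne.2)
    have hqi : q⁻¹ = q * F.tI := inv_eq_of_mul_eq_one_right (by rw [← mul_assoc, hqq, F.tI_sq])
    have hqt : Commute q F.tI := hq.2.1
    obtain ⟨w, hw⟩ : ∃ w, w = jj * q * jj * q := ⟨_, rfl⟩
    have hw1 : w ≠ 1 := fun h => hq2 (by
      rw [← hqi]; exact eq_inv_of_mul_eq_one_left (hw.symm.trans h))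
    have hw2 : w ≠ F.tI := fun h => hq1 (by
      rw [eq_mul_inv_of_mul_eq (hw.symm.trans h), hqi, hqt.eq, ← mul_assoc, F.tI_sq, one_mul])
    have hww : w * w = F.tI :=
      (((F.Qt_sq (hw ▸ mul_mem hq' hq)).resolve_left hw1).resolve_left hw2)
    have h4 : (jj * q) ^ 4 = F.tI := by
      rw [← hww, hw, show (4 : ℕ) = 2 + 2 from rfl, pow_add, pow_two]
      group
    refine ⟨jj * q, ?_, by rw [h4]; exact F.tI_ne⟩
    rw [show (8 : ℕ) = 4 * 2 from rfl, pow_mul, h4, pow_two, F.tI_sq]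
  · exfalso
    push Not at hex
    have hfix : ∀ q ∈ F.Qt, ∃ z, (z = 1 ∨ z = F.tI) ∧ jj * q * jj = q * z := fun q hq => by
      by_cases h : jj * q * jj = q
      · exact ⟨1, Or.inl rfl, by rw [h, mul_one]⟩
      · exact ⟨F.tI, Or.inr rfl, hex q hq h⟩
    have hz : ∀ {z g : G}, (z = 1 ∨ z = F.tI) → Commute g F.tI → Commute g z := fun hz hg => by
      rcases hz with rfl | rfl
      · exact Commute.one_right _
      · exact hg
    have he3 : e * e = e⁻¹ := by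
      rw [he]
      exact eq_inv_of_mul_eq_one_left (by rw [← pow_three']; exact F.j_cube _)
    have key : ∀ q ∈ F.Qt, e * q * e⁻¹ = q ∨ e * q * e⁻¹ = q * F.tI := by
      intro q hq
      obtain ⟨z, hz1, h1⟩ := hfix q hq
      obtain ⟨p, hpdef⟩ : ∃ p, p = e⁻¹ * q * e := ⟨_, rfl⟩
      have hp : p ∈ F.Qt := by
        have := hnorm het.inv_left (Or.inl (mul_inv_eq_iff_eq_mul.2 hea.inv_left.eq)) hq
        rwa [inv_inv, ← hpdef] at this
      obtain ⟨z', hz2, h2⟩ := hfix p hp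
      have e1 : e * q * e⁻¹ = p * (z' * z) := by
        have hje' : e = jj * e⁻¹ * jj := by
          rw [← hje, show jj * (jj * e * jj) * jj = (jj * jj) * e * (jj * jj) by group, hj2, one_mul, mul_one]
        calc e * q * e⁻¹ = (jj * e⁻¹ * jj) * q * (jj * e⁻¹ * jj)⁻¹ := by rw [← hje']
          _ = jj * e⁻¹ * (jj * q * jj) * e * jj := by
              rw [mul_inv_rev, mul_inv_rev, inv_inv, hji]; group
          _ = jj * e⁻¹ * q * (z * e) * jj := by rw [h1]; group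
          _ = jj * (e⁻¹ * q * e) * (z * jj) := by rw [← (hz hz1 het).eq]; group
          _ = p * (z' * z) := by rw [← hpdef, ← (hz hz1 hjt).eq, ← mul_assoc (jj * p) jj z, h2, mul_assoc]
      have e2 : p = e * e * q * (e * e)⁻¹ := by rw [he3, hpdef, inv_inv]
      have hzz : z' * z = 1 ∨ z' * z = F.tI := by
        rcases hz1 with rfl | rfl <;> rcases hz2 with rfl | rfl <;> simp [F.tI_sq]
      -- conjugate once more
      have e3 : q = e * q * e⁻¹ * (z' * z) := by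
        have e3a : e⁻¹ * (e * q * e⁻¹) * e = e⁻¹ * (p * (z' * z)) * e := by rw [e1]
        rw [show e⁻¹ * (e * q * e⁻¹) * e = q by group, mul_assoc, mul_assoc, ← (hz hzz het).eq,
          ← mul_assoc, ← mul_assoc] at e3a
        rw [show e⁻¹ * p * e = e * q * e⁻¹ by rw [e2]; group] at e3a
        exact e3a
      rcases hzz with h | h <;> rw [h] at e3
      · rw [mul_one] at e3; exact Or.inl e3.symm
      · right
        conv_rhs => rw [e3, mul_assoc, F.tI_sq, mul_one]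
    have heC : e ∈ F.D.C := F.D.mem_C.2 hea.eq
    have hA1 : F.D.π ⟨e, heC⟩ ≠ 1 := fun h => hse ((F.j_mem_R_iff ev).1 (by
      have := (F.D.mem_R (x := ⟨e, heC⟩)).2 h
      change e ∈ F.D.R at this
      rw [he] at this; exact this))
    have hA3 : F.D.π ⟨e, heC⟩ * F.D.π ⟨e, heC⟩ * F.D.π ⟨e, heC⟩ = 1 := by
      rw [← map_mul, ← map_mul, show (⟨e, heC⟩ : ↥F.D.C) * ⟨e, heC⟩ * ⟨e, heC⟩ = 1 from Subtype.ext (by
        show e * e * e = 1
        rw [he3, inv_mul_cancel]), map_one]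
    obtain ⟨B, hB, hne1, hne2⟩ := sl_moves _ hA3 hA1
    obtain ⟨q, hq, rfl⟩ := F.Qt_surj hB
    rcases key q hq with h | h
    · refine hne1 ?_
      rw [← map_inv, ← map_mul, ← map_mul]
      exact congrArg F.D.π (Subtype.ext h)
    · refine hne2 ?_
      rw [← F.pi_tI (z := ⟨F.tI, F.tI_C⟩) rfl, ← map_inv, ← map_mul, ← map_mul, ← map_mul]
      exact congrArg F.D.π (Subtype.ext h)

include F in
/-- A Sylow 2-subgroup has an element of order eight. -/
theorem not_exp_four {P : Subgroup G} (hP : IsPGroup 2 P)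
    (hmax : ∀ g ∈ Subgroup.normalizer (P : Set G), (∃ n : ℕ, g ^ 2 ^ n = 1) → g ∈ P)
    (hexp : ∀ x ∈ P, x ^ 4 = 1) : False := by
  obtain ⟨r, h8, h4⟩ := F.exists_eight
  obtain ⟨c, hc⟩ := conj_mem_of_two_max hP hmax ⟨3, h8⟩
  refine h4 ?_
  have := hexp _ hc
  rwa [conj_pow, conj_eq_one_iff] at this

/-- An element of order three of a subgroup containing the normalizer moves into one of two subgroups. -/
theorem to_J_or_R {M : Subgroup G} (hN : F.N ≤ M) {y : G} (hy : y ∈ M) (h3 : y ^ 3 = 1) :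
    ∃ m ∈ M, (∃ v, m * y * m⁻¹ = F.j v) ∨ m * y * m⁻¹ ∈ F.D.R := by
  have hSN : F.D.S ≤ F.N := fun g hg => by
    obtain ⟨m, -, rfl⟩ := F.mem_S_iff.1 hg
    exact F.φ_mem m
  obtain ⟨m, hm, hmy⟩ := exists_conj_mem M F.D.S (hSN.trans hN) F.D.isPGroup_S
    (fun z _ hzN ⟨n, hn⟩ => F.D.mem_S_of_norm hn fun w hw => (Subgroup.mem_normalizer_iff.1 hzN w).1 hw) hy
    ⟨1, by rw [pow_one]; exact h3⟩
  obtain ⟨p, hp, e⟩ := F.mem_S_iff.1 hmy
  have hcube : p * p * p = 1 := F.φ_inj (by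
    rw [map_mul, map_mul, F.φ_el, e, conj_mul, conj_mul, ← pow_three', h3, mul_one, mul_inv_cancel, map_one])
  refine ⟨m, hm, ?_⟩
  rcases inS3_facts.2.2.2.2 p hp hcube with h | h
  · left
    obtain ⟨v, g⟩ := p
    obtain rfl : g = 0 := h
    exact ⟨v, e.symm⟩
  · right
    rw [← e]
    exact F.el_mem_R h

/-- Conjugates of the translation of one block. -/
theorem strong_e {M : Subgroup G} (hN : F.N ≤ M) (hE : ∀ g : G, Commute g (F.j ev) → g ∈ M) {g : G}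
    (h : g * F.j ev * g⁻¹ ∈ M) : g ∈ M := by
  obtain ⟨m, hm, hmy⟩ := F.to_J_or_R hN h (by rw [conj_pow, F.j_cube, mul_one, mul_inv_cancel])
  have main : ∀ {h : G} {v : V3}, h * F.j ev * h⁻¹ = F.j v → eType v ∧ h ∈ M := by
    intro h v e
    have hv0 : v ≠ 0 := fun e0 => by
      rw [e0, F.j_zero, conj_eq_one_iff] at e
      exact F.j_ne_one three_syl.2.2.1 e
    rcases three_types.1 v hv0 with h2 | h2 | ⟨q, rfl⟩
    · obtain ⟨n, rfl⟩ := F.mem_N3.1 (F.ctrl_target (F.good_two h2) e)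
      rw [F.φ_conj_j] at e
      exact absurd (F.j_inj e ▸ h2) ((three_types.2.2.1 ev three_syl.2.2.2.1).2 n.g)
    · obtain ⟨q, hq⟩ := (three_types.2.2.1 v h2).1
      refine ⟨h2, ?_⟩
      have hc : Commute ((F.φ (rot q))⁻¹ * h) (F.j ev) := mul_inv_eq_iff_eq_mul.1 (by
        calc (F.φ (rot q))⁻¹ * h * F.j ev * ((F.φ (rot q))⁻¹ * h)⁻¹
            = (F.φ (rot q))⁻¹ * (h * F.j ev * h⁻¹) * F.φ (rot q) := by group
          _ = F.j ev := by rw [e, ← hq, ← F.φ_conj_j (rot q)]; group)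
      have := mul_mem (hN (F.φ_mem (rot q))) (hE _ hc)
      rwa [← mul_assoc, mul_inv_cancel, one_mul] at this
    · exact absurd e F.ev_to_a
  rcases hmy with ⟨v, hv⟩ | hR
  · have := mul_mem (inv_mem hm) (main (h := m * g) (v := v) (by rw [← hv]; group)).2
    rwa [← mul_assoc, inv_mul_cancel, one_mul] at this
  · obtain ⟨c, hc, hcJ⟩ := F.conj_R_into_J hR
    obtain ⟨v, hv⟩ := (F.mem_J _).1 hcJ
    have hs : vsum v = 0 := (F.j_mem_R_iff v).1 (by rw [hv]; exact F.D.conj_R hc hR)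
    exact absurd (main (h := c * (m * g)) (v := v) (by rw [show F.j v = _ from hv]; group)).1
      (three_types.2.2.2.2 v hs)

/-- Conjugates of a translation of two blocks. -/
theorem strong_two {M : Subgroup G} (hN : F.N ≤ M) (hC : F.D.C ≤ M) {v : V3} (hv : two v) {g : G}
    (h : g * F.j v * g⁻¹ ∈ M) : g ∈ M := by
  obtain ⟨m, hm, hmy⟩ := F.to_J_or_R hN h (by rw [conj_pow, F.j_cube, mul_one, mul_inv_cancel])
  obtain ⟨c, hc, hcJ⟩ : ∃ c ∈ M, c * (m * (g * F.j v * g⁻¹) * m⁻¹) * c⁻¹ ∈ F.D.J := by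
    rcases hmy with ⟨w, hw⟩ | hR
    · exact ⟨1, one_mem _, by rw [one_mul, inv_one, mul_one, hw]; exact F.j_mem w⟩
    · obtain ⟨c, hc, hcJ⟩ := F.conj_R_into_J hR
      exact ⟨c, hC hc, hcJ⟩
  obtain ⟨w, hw⟩ := (F.mem_J _).1 hcJ
  have hmem : c * m * g ∈ M := hN (F.ctrl_source (F.good_two hv) (v' := w) (by
    rw [show F.j w = _ from hw]; group))
  have := mul_mem (inv_mem (mul_mem hc hm)) hmem
  rwa [← mul_assoc, inv_mul_cancel, one_mul] at this

omit [Finite G] in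
theorem sep_of_good (hg : F.Good ev) (g : G) (h : Commute g (F.j ev)) :
    g * F.φ (rot 18) * g⁻¹ ≠ F.φ (rot 6) ∧ g * F.φ (rot 18) * g⁻¹ ≠ F.φ (rot 1) := by
  obtain ⟨m, rfl⟩ := F.mem_N3.1 (hg g h.eq)
  have h' := eight_mon.2.2.2.2.2.2 m (F.φ_comm_j.1 h)
  constructor <;> intro e <;> rw [← map_inv, ← map_mul, ← map_mul] at e
  · exact h'.1 (mul_inv_eq_iff_eq_mul.1 (F.φ_inj e))
  · exact h'.2 (mul_inv_eq_iff_eq_mul.1 (F.φ_inj e))

end Frame3

end CfsgPSp43Real
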