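import Cfsg.Agent.Lib.PSp43Real.CaseTwo

/-!
The involution of the centraliser of the element, its quaternion group, and the elements inverting the element.
-/

set_option autoImplicit false
set_option linter.style.haveILetI false
set_option synthInstance.maxSize 4000

namespace CfsgPSp43Real

open CfsgLib.Sym9Three (V3 xv Mon Sub tr rot act rMul inR tr_mem_Sub mem_Sub rot_mul Sub_zero_le)

theorem sl_invol : (∀ A : SL23, A * A = 1 → A = 1 ∨ A = -1) ∧
    (∀ A : SL23, (∀ B : SL23, B * B * (B * B) = 1 → A * B = B * A) → A = 1 ∨ A = -1) ∧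
    (∀ A : SL23, A ^ 8 = 1 → A * A * (A * A) = 1) ∧ (∀ A : SL23, A * A * (A * A) = 1 → A * A ≠ 1 → A * A = -1) := by
  decide +kernel

theorem rot_one : inR 0 1 = true ∧ act 1 xv = xv ∧ rMul 1 1 = 0 ∧
    (∀ v : V3, act 1 v = v → vsum v = 0 → v ≠ 0 → v ≠ xv → v ≠ -xv → False) := by decide +kernel

namespace Setup

universe u

variable {G : Type u} [Group G] [Finite G] (D : Setup G)

/-- An element centralising or inverting the element normalises the kernel. -/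
theorem norm_R {y : G} (hy : y * D.a * y⁻¹ = D.a ∨ y * D.a * y⁻¹ = D.a⁻¹) {u : G} (hu : u ∈ D.R) :
    y * u * y⁻¹ ∈ D.R := by
  have hyC : ∀ g ∈ D.C, y * g * y⁻¹ ∈ D.C := fun g hg => by
    rw [D.mem_C]
    have h := (show Commute g D.a from D.mem_C.1 hg).conj y
    rcases hy with e | e <;> rw [e] at h
    · exact h.eq
    · exact (by simpa using h.inv_right : Commute (y * g * y⁻¹) D.a).eq
  have hyC' : ∀ g ∈ D.C, y⁻¹ * g * y ∈ D.C := fun g hg => by
    rw [D.mem_C]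
    have h := (show Commute g D.a from D.mem_C.1 hg).conj y⁻¹
    rw [inv_inv] at h
    rcases hy with e | e
    · have e' : y⁻¹ * D.a * y = D.a := by
        conv_lhs => rw [← e]
        group
      rw [e'] at h; exact h.eq
    · rw [show y⁻¹ * D.a * y = D.a⁻¹ by
        have e' := congrArg (fun z => y⁻¹ * z⁻¹ * y) e
        simp only [inv_inv] at e'
        rw [← e']; group] at h
      exact (by simpa using h.inv_right : Commute (y⁻¹ * g * y) D.a).eq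
  let N : Subgroup ↥D.C :=
    { carrier := {z | y⁻¹ * (z : G) * y ∈ D.R}
      mul_mem' := by
        intro p q hp hq
        show y⁻¹ * ((p : G) * q) * y ∈ D.R
        rw [show y⁻¹ * ((p : G) * q) * y = y⁻¹ * p * y * (y⁻¹ * q * y) by group]
        exact mul_mem hp hq
      one_mem' := by simp
      inv_mem' := by
        intro p hp
        show y⁻¹ * ((p : G))⁻¹ * y ∈ D.R
        rw [show y⁻¹ * ((p : G))⁻¹ * y = (y⁻¹ * p * y)⁻¹ by group]
        exact inv_mem hp }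
  have hN : N.Normal := ⟨fun z hz g => by
    show y⁻¹ * ((g : G) * z * (g : G)⁻¹) * y ∈ D.R
    rw [show y⁻¹ * ((g : G) * z * (g : G)⁻¹) * y = y⁻¹ * g * y * (y⁻¹ * z * y) * (y⁻¹ * g * y)⁻¹ by group]
    exact D.conj_R (hyC' g g.2) hz⟩
  by_contra hbad
  obtain ⟨w, hw, hwπ⟩ := D.exists_neg N hN (x := ⟨_, hyC u (D.R_le hu)⟩)
    (show y⁻¹ * (y * u * y⁻¹) * y ∈ D.R by simpa [mul_assoc] using hu)
    (fun h => hbad ((D.mem_R (x := ⟨_, hyC u (D.R_le hu)⟩)).2 h))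
  have h3 : w ^ 3 = 1 := Subtype.ext (by
    have h := D.R_exp (show y⁻¹ * (w : G) * y ∈ D.R from hw)
    have e : (y⁻¹ * (w : G) * y) ^ 3 = y⁻¹ * (w : G) ^ 3 * y := by
      simp [pow_succ, mul_assoc]
    rw [e] at h
    calc (w : G) ^ 3 = y * (y⁻¹ * (w : G) ^ 3 * y) * y⁻¹ := by group
      _ = 1 := by rw [h, mul_one, mul_inv_cancel])
  have := congrArg D.π h3
  rw [map_pow, hwπ, map_one, pow_succ, pow_two, sl_neg.2.1, one_mul] at this
  exact sl_neg.1 this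

/-- Two elements of the kernel commute only if one is a power of the other modulo the centre. -/
theorem R_commute_cases {u v : G} (hu : u ∈ D.R) (hv : v ∈ D.R) (huZ : u ∉ D.Z) (h : u * v = v * u) :
    v ∈ D.Z ⊔ Subgroup.zpowers u := by
  by_contra hvA
  obtain ⟨A, hA⟩ : ∃ A, A = D.Z ⊔ Subgroup.zpowers u := ⟨_, rfl⟩
  rw [← hA] at hvA
  obtain ⟨B, hB⟩ : ∃ B, B = A ⊔ Subgroup.zpowers v := ⟨_, rfl⟩
  have hBR : B ≤ D.R := hB ▸ sup_le (hA ▸ sup_le D.Z_le (Subgroup.zpowers_le.2 hu)) (Subgroup.zpowers_le.2 hv)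
  have hlt1 : Nat.card D.Z < Nat.card A := by
    refine lt_of_le_of_ne (Subgroup.card_le_of_le (hA ▸ le_sup_left)) fun e => huZ ?_
    rw [Subgroup.eq_of_le_of_card_ge (hA ▸ le_sup_left : D.Z ≤ A) e.ge, hA]
    exact Subgroup.mem_sup_right (Subgroup.mem_zpowers _)
  have hlt2 : Nat.card A < Nat.card B := by
    refine lt_of_le_of_ne (Subgroup.card_le_of_le (hB ▸ le_sup_left)) fun e => hvA ?_
    rw [Subgroup.eq_of_le_of_card_ge (hB ▸ le_sup_left : A ≤ B) e.ge, hB]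
    exact Subgroup.mem_sup_right (Subgroup.mem_zpowers _)
  have hdA := D.card_R ▸ Subgroup.card_dvd_of_le ((hB ▸ le_sup_left : A ≤ B).trans hBR)
  have hdB := D.card_R ▸ Subgroup.card_dvd_of_le hBR
  obtain ⟨i, hi, ei⟩ := (Nat.dvd_prime_pow Nat.prime_three).1 (show _ ∣ 3 ^ 3 from hdA)
  obtain ⟨j, hj, ej⟩ := (Nat.dvd_prime_pow Nat.prime_three).1 (show _ ∣ 3 ^ 3 from hdB)
  rw [ei, ej] at hlt2
  rw [ei, D.card_Z] at hlt1
  have hi2 : 1 < i := (Nat.pow_lt_pow_iff_right (by norm_num)).1 (show 3 ^ 1 < 3 ^ i by rwa [pow_one])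
  have hj3 : i < j := (Nat.pow_lt_pow_iff_right (by norm_num)).1 hlt2
  have hBeq : B = D.R := Subgroup.eq_of_le_of_card_ge hBR (by rw [ej, D.card_R, show j = 3 by omega]; norm_num)
  have hcomm : IsMulCommutative B := by
    have e : B = Subgroup.closure ({D.a, u, v} : Set G) := by
      rw [hB, hA, Setup.Z, Subgroup.zpowers_eq_closure, Subgroup.zpowers_eq_closure, Subgroup.zpowers_eq_closure,
        ← Subgroup.closure_union, ← Subgroup.closure_union]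
      congr 1
      ext x; simp only [Set.mem_union, Set.mem_singleton_iff, Set.mem_insert_iff]; tauto
    rw [e]
    have ha : ∀ {g : G}, g ∈ D.R → g * D.a = D.a * g := fun {g} hg => D.mem_C.1 (D.R_le hg)
    refine Subgroup.isMulCommutative_closure ?_
    rintro p (rfl | rfl | rfl) q (rfl | rfl | rfl)
    all_goals first | rfl | exact ha hu | exact (ha hu).symm | exact ha hv | exact (ha hv).symm | exact h | exact h.symm
  exact D.R_not_comm fun p hp q hq =>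
    congrArg Subtype.val (hcomm.is_comm.comm (⟨p, hBeq.symm ▸ hp⟩ : B) ⟨q, hBeq.symm ▸ hq⟩)

theorem exists_noncomm : ∃ e ∈ D.R, ∃ r ∈ D.R, e * r ≠ r * e := by
  have := D.R_not_comm
  push Not at this
  exact this

/-- The commutator on the kernel is multiplicative in the second argument. -/
theorem comm_mul_right {x w w' : G} (hx : x ∈ D.R) (hw : w ∈ D.R) (hw' : w' ∈ D.R) :
    x * (w * w') * x⁻¹ * (w * w')⁻¹ = (x * w * x⁻¹ * w⁻¹) * (x * w' * x⁻¹ * w'⁻¹) := by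
  have h := D.comm_C (D.R_le hw) (D.comm_R hx hw')
  calc x * (w * w') * x⁻¹ * (w * w')⁻¹ = (x * w * x⁻¹ * w⁻¹) * (w * (x * w' * x⁻¹ * w'⁻¹)) * w⁻¹ := by group
    _ = _ := by rw [h]; group

/-- The commutator with a fixed element of the kernel. -/
def brHom {x : G} (hx : x ∈ D.R) : ↥D.R →* G where
  toFun w := x * w * x⁻¹ * (w : G)⁻¹
  map_one' := by simp
  map_mul' w w' := D.comm_mul_right hx w.2 w'.2

theorem comm_zpow_right {x w : G} (hx : x ∈ D.R) (hw : w ∈ D.R) (i : ℤ) :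
    x * w ^ i * x⁻¹ * (w ^ i)⁻¹ = (x * w * x⁻¹ * w⁻¹) ^ i :=
  map_zpow (D.brHom hx) ⟨w, hw⟩ i

theorem comm_center_right {x z : G} (hx : x ∈ D.R) (hz : z ∈ D.Z) : x * z * x⁻¹ * z⁻¹ = 1 := by
  rw [D.comm_C (D.R_le hx) hz]; group

theorem comm_swap {x w : G} : x * w * x⁻¹ * w⁻¹ = (w * x * w⁻¹ * x⁻¹)⁻¹ := by group

theorem comm_mul_left {x x' w : G} (hx : x ∈ D.R) (hx' : x' ∈ D.R) (hw : w ∈ D.R) :
    (x * x') * w * (x * x')⁻¹ * w⁻¹ = (x * w * x⁻¹ * w⁻¹) * (x' * w * x'⁻¹ * w⁻¹) := by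
  calc (x * x') * w * (x * x')⁻¹ * w⁻¹ = x * (x' * w * x'⁻¹ * w⁻¹) * (w * x⁻¹ * w⁻¹) := by group
    _ = (x' * w * x'⁻¹ * w⁻¹) * (x * w * x⁻¹ * w⁻¹) := by rw [D.comm_C (D.R_le hx) (D.comm_R hx' hw)]; group
    _ = _ := (D.comm_C (D.R_le (D.Z_le (D.comm_R hx hw))) (D.comm_R hx' hw)).symm

/-- No element inverting the element commutes with all of its images on the kernel. -/
theorem not_scalar {y : G} (hy : y * D.a * y⁻¹ = D.a⁻¹) :
    ¬ ∀ u ∈ D.R, u * (y * u * y⁻¹) = y * u * y⁻¹ * u := by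
  intro h
  obtain ⟨e, he, r, hr, her⟩ := D.exists_noncomm
  have hnZ : ∀ {p q : G}, q ∈ D.R → p * q ≠ q * p → p ∉ D.Z := fun {p q} hq hne hp =>
    hne (D.comm_C (D.R_le hq) hp).symm
  have hnorm : ∀ {u : G}, u ∈ D.R → y * u * y⁻¹ ∈ D.R := fun hu => D.norm_R (Or.inr hy) hu
  have hpow : ∀ {u : G}, u ∈ D.R → u ∉ D.Z → ∃ z ∈ D.Z, ∃ n : ℤ, y * u * y⁻¹ = z * u ^ n := by
    intro u hu huZ
    let A : Subgroup G :=
      { carrier := {g | ∃ z ∈ D.Z, ∃ n : ℤ, g = z * u ^ n}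
        mul_mem' := by
          rintro p q ⟨z, hz, n, rfl⟩ ⟨z', hz', n', rfl⟩
          refine ⟨z * z', mul_mem hz hz', n + n', ?_⟩
          have hc := D.comm_C (zpow_mem (D.R_le hu) n) hz'
          rw [zpow_add, show z * u ^ n * (z' * u ^ n') = z * (u ^ n * z') * u ^ n' by group, hc]
          group
        one_mem' := ⟨1, one_mem _, 0, by simp⟩
        inv_mem' := by
          rintro p ⟨z, hz, n, rfl⟩
          refine ⟨z⁻¹, inv_mem hz, -n, ?_⟩
          rw [mul_inv_rev, zpow_neg, D.comm_C (inv_mem (zpow_mem (D.R_le hu) n)) (inv_mem hz)] }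
    exact (sup_le (fun z hz => ⟨z, hz, 0, by simp⟩) (Subgroup.zpowers_le.2 ⟨1, one_mem _, 1, by simp⟩) :
      D.Z ⊔ Subgroup.zpowers u ≤ A) (D.R_commute_cases hu (hnorm hu) huZ (h u hu))
  obtain ⟨z1, hz1, n, hn⟩ := hpow he (hnZ hr her)
  obtain ⟨z2, hz2, m, hm⟩ := hpow hr (hnZ he her.symm)
  obtain ⟨c, hc⟩ : ∃ c, c = e * r * e⁻¹ * r⁻¹ := ⟨_, rfl⟩
  have hcZ : c ∈ D.Z := hc ▸ D.comm_R he hr
  have hc1 : c ≠ 1 := fun e1 => her (by
    rw [hc, mul_inv_eq_one, mul_inv_eq_iff_eq_mul] at e1; exact e1)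
  have hz1R := D.Z_le hz1
  have hz2R := D.Z_le hz2
  have hen := zpow_mem he n
  have hrm := zpow_mem hr m
  -- the commutator of the images
  have hyc : y * c * y⁻¹ = c ^ (n * m) := by
    have e0 : y * c * y⁻¹ = (y * e * y⁻¹) * (y * r * y⁻¹) * (y * e * y⁻¹)⁻¹ * (y * r * y⁻¹)⁻¹ := by rw [hc]; group
    rw [e0, hn, hm, D.comm_mul_left hz1R hen (mul_mem hz2R hrm), D.comm_mul_right hen hz2R hrm,
      D.comm_center_right hen hz2, D.comm_zpow_right hen hr,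
      comm_swap (x := z1), D.comm_center_right (mul_mem hz2R hrm) hz1, inv_one, one_mul, one_mul,
      comm_swap (x := e ^ n) (w := r), D.comm_zpow_right hr he, ← inv_zpow, ← comm_swap, ← hc, zpow_mul]
  -- the element and its image commute
  have hnm : c ^ (m - n) = 1 := by
    have h3 := h (e * r) (mul_mem he hr)
    have h4 : (e * r) * ((y * e * y⁻¹) * (y * r * y⁻¹)) * (e * r)⁻¹ * ((y * e * y⁻¹) * (y * r * y⁻¹))⁻¹ = 1 := by
      rw [conj_mul, h3]; group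
    rw [ hn, hm, D.comm_mul_left he hr (mul_mem (mul_mem hz1R hen) (mul_mem hz2R hrm)),
      D.comm_mul_right he (mul_mem hz1R hen) (mul_mem hz2R hrm), D.comm_mul_right he hz1R hen,
      D.comm_mul_right he hz2R hrm, D.comm_mul_right hr (mul_mem hz1R hen) (mul_mem hz2R hrm),
      D.comm_mul_right hr hz1R hen, D.comm_mul_right hr hz2R hrm, D.comm_center_right he hz1,
      D.comm_center_right he hz2, D.comm_center_right hr hz1, D.comm_center_right hr hz2,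
      D.comm_zpow_right he he, D.comm_zpow_right he hr, D.comm_zpow_right hr he, D.comm_zpow_right hr hr,
      comm_swap (x := r) (w := e), ← hc, show e * e * e⁻¹ * e⁻¹ = 1 by group, show r * r * r⁻¹ * r⁻¹ = 1 by group] at h4
    simp only [one_zpow, one_mul, mul_one, inv_zpow'] at h4
    rw [sub_eq_add_neg, zpow_add]
    exact h4
  -- arithmetic
  have hc3 : c ^ (3 : ℤ) = 1 := by
    rw [show (3 : ℤ) = ((3 : ℕ) : ℤ) from rfl, zpow_natCast, D.R_exp (D.Z_le hcZ)]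
  have hpow3 : ∀ i : ℤ, c ^ i = c ^ (i % 3) := fun i => by
    conv_lhs => rw [← Int.emod_add_mul_ediv i 3, zpow_add, zpow_mul, hc3, one_zpow, mul_one]
  have hc2 : c ^ (2 : ℤ) ≠ 1 := fun e1 => hc1 (by
    have : c ^ (3 : ℤ) = c ^ (2 : ℤ) * c := by group
    rw [e1, one_mul, hc3] at this
    exact this.symm)
  have hmn : (m - n) % 3 = 0 := by
    rw [hpow3] at hnm
    rcases (show (m - n) % 3 = 0 ∨ (m - n) % 3 = 1 ∨ (m - n) % 3 = 2 by omega) with h | h | h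
    · exact h
    · rw [h, zpow_one] at hnm; exact absurd hnm hc1
    · rw [h] at hnm; exact absurd hnm hc2
  have hy' : y * c * y⁻¹ = c⁻¹ := by
    obtain ⟨k, hk⟩ := Subgroup.mem_zpowers_iff.1 hcZ
    rw [← hk, ← conj_zpow, hy, inv_zpow]
  rw [hy', hpow3 (n * m), Int.mul_emod, show m % 3 = n % 3 by omega] at hyc
  have hinv : c⁻¹ ≠ c := fun e1 => hc2 (by
    rw [zpow_two]; nth_rewrite 1 [← e1]; exact inv_mul_cancel c)
  rcases (show n % 3 = 0 ∨ n % 3 = 1 ∨ n % 3 = 2 by omega) with h | h | h <;>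
    rw [h] at hyc <;> norm_num at hyc
  · exact hc1 hyc
  all_goals exact hinv hyc

end Setup

namespace Frame

universe u

variable {G : Type u} [Group G] [Finite G] (F : Frame G)

/-- The involution. -/
def tI : G := F.el (rot 1)

theorem rot_one_mem : rot 1 ∈ Sub F.k := Sub_zero_le _ (show rot 1 ∈ Sub 0 from rot_one.1)

theorem tI_C : F.tI ∈ F.D.C := (F.mem_C_iff F.rot_one_mem).2 rot_one.2.1

theorem tI_sq : F.tI * F.tI = 1 := by
  rw [tI, ← F.el_mul _ F.rot_one_mem _ F.rot_one_mem, rot_mul, rot_one.2.2.1]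
  exact F.el_one

theorem tI_ne : F.tI ≠ 1 := fun h => by
  have := congrArg Mon.g (F.el_inj _ F.rot_one_mem _ (one_mem _) (h.trans F.el_one.symm))
  exact absurd this (by decide)

theorem tI_inv : F.tI⁻¹ = F.tI := inv_eq_of_mul_eq_one_right F.tI_sq

theorem tI_j (v : V3) : F.tI * F.j v * F.tI = F.j (act 1 v) := by
  have := F.el_conj F.rot_one_mem v
  rwa [show (F.el (rot 1))⁻¹ = F.tI from F.tI_inv] at this

theorem pi_tI {z : ↥F.D.C} (hz : (z : G) = F.tI) : F.D.π z = -1 := by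
  refine (sl_invol.1 _ ?_).resolve_left fun h => ?_
  · rw [← map_mul, show z * z = 1 from Subtype.ext (by rw [Subgroup.coe_mul, hz]; exact F.tI_sq), map_one]
  · have h3 : F.tI ^ 3 = 1 := F.D.R_exp (hz ▸ F.D.mem_R.2 h)
    rw [pow_succ, pow_two, F.tI_sq, one_mul] at h3
    exact F.tI_ne h3

theorem R_tI {u : G} (hu : u ∈ F.D.R) (h : Commute u F.tI) : u ∈ F.D.Z := by
  have := F.D.neg_inverts (F.pi_tI (z := ⟨F.tI, F.tI_C⟩) rfl) hu
  refine F.D.Z_of_sq hu ?_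
  change F.tI * u * F.tI⁻¹ * u ∈ F.D.Z at this
  rwa [h.symm.eq, mul_inv_cancel_right] at this

theorem R_inverted {u : G} (hu : u ∈ F.D.R) : ∃ z ∈ F.D.Z, F.tI * u * F.tI = z * u⁻¹ := by
  have := F.D.neg_inverts (F.pi_tI (z := ⟨F.tI, F.tI_C⟩) rfl) hu
  change F.tI * u * F.tI⁻¹ * u ∈ F.D.Z at this
  rw [F.tI_inv] at this
  exact ⟨_, this, by group⟩

/-- Every element over the quotient has a representative commuting with the involution. -/
theorem lift_tI (A : SL23) : ∃ z : ↥F.D.C, Commute (z : G) F.tI ∧ F.D.π z = A := by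
  obtain ⟨y, hy⟩ := F.D.surj A
  obtain ⟨t, ht⟩ : ∃ t : ↥F.D.C, (t : G) = F.tI := ⟨⟨_, F.tI_C⟩, rfl⟩
  obtain ⟨u, hu⟩ : ∃ u : ↥F.D.C, u = t * y * t * y⁻¹ := ⟨_, rfl⟩
  have hπu : F.D.π u = 1 := by
    rw [hu, map_mul, map_mul, map_mul, map_inv, F.pi_tI ht, mul_assoc (-1) (F.D.π y), ← sl_neg.2.2.1, ← mul_assoc,
      sl_neg.2.1, one_mul, mul_inv_cancel]
  have htt : t * t = 1 := Subtype.ext (by rw [Subgroup.coe_mul, ht]; exact F.tI_sq)
  have htu : t * u * t = u⁻¹ := by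
    refine eq_inv_of_mul_eq_one_left ?_
    calc t * u * t * u = (t * t) * y * t * y⁻¹ * (t * t) * y * t * y⁻¹ := by rw [hu]; group
      _ = y * (t * t) * y⁻¹ := by rw [htt]; group; rw [mul_assoc y t t, htt]; group
      _ = 1 := by rw [htt]; group
  have hu3 : u ^ 3 = 1 := F.D.kerExp u hπu
  refine ⟨u * u * y, ?_, by rw [map_mul, map_mul, hπu, one_mul, one_mul, hy]⟩
  have key : t * (u * u * y) * t = u * u * y := by
    calc t * (u * u * y) * t = (t * u * t) * (t * u * t) * (t * y * t * y⁻¹) * y := by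
          rw [show t * u * t * (t * u * t) = t * u * (t * t) * u * t by group, htt,
            show t * (u * u * y) * t = t * u * (u * (t * t) * y) * t by rw [htt]; group]
          group
      _ = u⁻¹ * u⁻¹ * u * y := by rw [htu, ← hu]
      _ = u * u * y := by
          rw [show u⁻¹ * u⁻¹ * u = u⁻¹ by group, eq_inv_of_mul_eq_one_left (a := u * u) (b := u) (by
            rw [← pow_two, ← pow_succ]; exact hu3)]
  have e := congrArg Subtype.val key
  simp only [Subgroup.coe_mul, ht] at e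
  show ((u * u * y : ↥F.D.C) : G) * F.tI = F.tI * (u * u * y : ↥F.D.C)
  simp only [Subgroup.coe_mul]
  nth_rewrite 1 [← e]
  rw [mul_assoc, F.tI_sq, mul_one]

/-- The centraliser of the involution in the centraliser of the element. -/
theorem card_Ct_C : Nat.card ↥(F.D.C ⊓ Subgroup.centralizer ({F.tI} : Set G)) ∣ 72 := by
  obtain ⟨K, hK⟩ : ∃ K, K = F.D.C ⊓ Subgroup.centralizer ({F.tI} : Set G) := ⟨_, rfl⟩
  rw [← hK]
  let f : ↥K →* SL23 := F.D.π.comp (Subgroup.inclusion (hK.le.trans inf_le_left))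
  have hker : f.ker ≤ F.D.Z.subgroupOf K := fun x hx => by
    rw [Subgroup.mem_subgroupOf]
    exact F.R_tI ((F.D.mem_R (x := Subgroup.inclusion (hK.le.trans inf_le_left) x)).2 hx)
      (Subgroup.mem_centralizer_singleton_iff.1 ((hK.le x.2).2))
  rw [← f.ker.card_mul_index, Subgroup.index_ker]
  rw [show (72 : ℕ) = 3 * 24 from rfl]
  refine mul_dvd_mul ?_ ?_
  · refine dvd_trans (Subgroup.card_dvd_of_le hker) ?_
    refine dvd_trans ?_ (dvd_of_eq F.D.card_Z)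
    exact Subgroup.card_comap_dvd_of_injective _ K.subtype K.subtype_injective
  · refine dvd_trans (Subgroup.card_subgroup_dvd_card _) (dvd_of_eq ?_)
    rw [Nat.card_eq_fintype_card]; decide +kernel

theorem pow_four {z : G} (hC : z ∈ F.D.C) (ht : Commute z F.tI) (h8 : z ^ 8 = 1) : z ^ 4 = 1 := by
  have hA : F.D.π ⟨z, hC⟩ * F.D.π ⟨z, hC⟩ * (F.D.π ⟨z, hC⟩ * F.D.π ⟨z, hC⟩) = 1 := sl_invol.2.2.1 _ (by
    rw [← map_pow, show (⟨z, hC⟩ : ↥F.D.C) ^ 8 = 1 from Subtype.ext h8, map_one])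
  have h3 : (z ^ 4) ^ 3 = 1 := by
    refine F.D.R_exp ((F.D.mem_R (x := (⟨z, hC⟩ : ↥F.D.C) ^ 4)).2 ?_)
    rw [map_pow, pow_succ, pow_succ, pow_two, mul_assoc _ (F.D.π ⟨z, hC⟩), hA]
  calc z ^ 4 = ((z ^ 4) ^ 3)⁻¹ * (z ^ 8) ^ 2 := by rw [← pow_mul, ← pow_mul]; group
    _ = 1 := by rw [h3, h8, one_pow, inv_one, one_mul]

/-- The two-elements of the centraliser of the involution in the centraliser of the element form a group. -/
theorem Qt_mul {p q : G} (hp : p ∈ F.D.C ∧ Commute p F.tI ∧ p ^ 8 = 1)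
    (hq : q ∈ F.D.C ∧ Commute q F.tI ∧ q ^ 8 = 1) : (p * q) ^ 8 = 1 := by
  obtain ⟨K, hK⟩ : ∃ K, K = (F.D.C ⊓ Subgroup.centralizer ({F.tI} : Set G)) := ⟨_, rfl⟩
  let M : Subgroup ↥K := (Setup.Q8.comap (F.D.π.comp (Subgroup.inclusion (hK.le.trans inf_le_left))))
  let f : ↥M →* ↥Setup.Q8 :=
    ((F.D.π.comp (Subgroup.inclusion (hK.le.trans inf_le_left))).comp M.subtype).codRestrict _ fun x => x.2
  have hQ : IsPGroup 2 ↥Setup.Q8 := fun A => ⟨3, Subtype.ext (Setup.card_Q8_dvd _ A.2)⟩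
  have : Fact (Nat.Prime 2) := ⟨Nat.prime_two⟩
  have := hQ.isNilpotent
  have hker : f.ker ≤ Subgroup.center ↥M := fun x hx => by
    rw [Subgroup.mem_center_iff]
    intro y
    refine Subtype.ext (Subtype.ext ?_)
    have hxZ : ((x : ↥K) : G) ∈ F.D.Z :=
      F.R_tI ((F.D.mem_R (x := Subgroup.inclusion (hK.le.trans inf_le_left) (x : ↥K))).2 (congrArg Subtype.val hx))
        (Subgroup.mem_centralizer_singleton_iff.1 ((hK.le (x : ↥K).2).2))
    exact F.D.comm_C (hK.le (y : ↥K).2).1 hxZ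
  have hnil : Group.IsNilpotent ↥M := Subgroup.isNilpotent_of_ker_le_center f hker
  obtain ⟨P⟩ := (inferInstance : Nonempty (Sylow 2 ↥M))
  have hPn : (P : Subgroup ↥M).Normal := P.normal_of_normalizerCondition Group.normalizerCondition_of_isNilpotent
  have hmem : ∀ {z : G} (hz : z ∈ F.D.C ∧ Commute z F.tI ∧ z ^ 8 = 1),
      ∃ y ∈ (P : Subgroup ↥M), ((y : ↥K) : G) = z := by
    intro z hz
    have hzK : z ∈ K := hK ▸ ⟨hz.1, Subgroup.mem_centralizer_singleton_iff.2 hz.2.1⟩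
    have hzM : (⟨z, hzK⟩ : ↥K) ∈ M := by
      refine Setup.mem_Q8.2 (sl_invol.2.2.1 _ ?_)
      show F.D.π ⟨z, hz.1⟩ ^ 8 = 1
      rw [← map_pow, show (⟨z, hz.1⟩ : ↥F.D.C) ^ 8 = 1 from Subtype.ext hz.2.2, map_one]
    refine ⟨⟨⟨z, hzK⟩, hzM⟩, ?_, rfl⟩
    obtain ⟨T, hT⟩ := (show IsPGroup 2 (Subgroup.zpowers (⟨⟨z, hzK⟩, hzM⟩ : ↥M)) from by
      rintro ⟨w, n, rfl⟩
      refine ⟨3, Subtype.ext ?_⟩
      show ((⟨⟨z, hzK⟩, hzM⟩ : ↥M) ^ n) ^ 8 = 1
      rw [← zpow_natCast, ← zpow_mul, mul_comm, zpow_mul, zpow_natCast,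
        show (⟨⟨z, hzK⟩, hzM⟩ : ↥M) ^ 8 = 1 from Subtype.ext (Subtype.ext hz.2.2), one_zpow]).exists_le_sylow
    haveI := P.unique_of_normal hPn
    exact Subsingleton.elim T P ▸ hT (Subgroup.mem_zpowers _)
  obtain ⟨y1, hy1, rfl⟩ := hmem hp
  obtain ⟨y2, hy2, rfl⟩ := hmem hq
  obtain ⟨k, hk⟩ := P.2 ⟨_, mul_mem hy1 hy2⟩
  have hk' : (((y1 : ↥K) : G) * ((y2 : ↥K) : G)) ^ 2 ^ k = 1 :=
    congrArg (fun w : (P : Subgroup ↥M) => (((w : ↥M) : ↥K) : G)) hk
  have h24 : (((y1 : ↥K) : G) * ((y2 : ↥K) : G)) ^ 72 = 1 := by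
    have h := (orderOf_dvd_natCard (y1 * y2 : ↥M)).trans
      ((Subgroup.card_subgroup_dvd_card M).trans (hK ▸ F.card_Ct_C))
    rw [← Subgroup.orderOf_coe, ← Subgroup.orderOf_coe] at h
    exact orderOf_dvd_iff_pow_eq_one.1 h
  refine orderOf_dvd_iff_pow_eq_one.1 ?_
  have h1 : orderOf (((y1 : ↥K) : G) * ((y2 : ↥K) : G)) ∣ 8 * 9 := orderOf_dvd_of_pow_eq_one h24
  exact (Nat.Coprime.coprime_dvd_left (orderOf_dvd_of_pow_eq_one hk')
    (Nat.Coprime.pow_left k (by norm_num))).dvd_of_dvd_mul_right h1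

/-- The quaternion group. -/
def Qt : Subgroup G where
  carrier := {z | z ∈ F.D.C ∧ Commute z F.tI ∧ z ^ 8 = 1}
  mul_mem' hp hq := ⟨mul_mem hp.1 hq.1, hp.2.1.mul_left hq.2.1, F.Qt_mul hp hq⟩
  one_mem' := ⟨one_mem _, Commute.one_left _, one_pow _⟩
  inv_mem' hp := ⟨inv_mem hp.1, hp.2.1.inv_left, by rw [inv_pow, hp.2.2, inv_one]⟩

theorem mem_Qt {z : G} : z ∈ F.Qt ↔ z ∈ F.D.C ∧ Commute z F.tI ∧ z ^ 8 = 1 := Iff.rfl

theorem tI_Qt : F.tI ∈ F.Qt := ⟨F.tI_C, Commute.refl _, by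
  rw [show (8 : ℕ) = 2 * 4 from rfl, pow_mul, pow_two, F.tI_sq, one_pow]⟩

theorem Qt_invol {z : G} (hz : z ∈ F.Qt) (h2 : z * z = 1) : z = 1 ∨ z = F.tI := by
  obtain ⟨hC, ht, -⟩ := hz
  rcases sl_invol.1 (F.D.π ⟨z, hC⟩) (by
    rw [← map_mul, show (⟨z, hC⟩ : ↥F.D.C) * ⟨z, hC⟩ = 1 from Subtype.ext h2, map_one]) with h | h
  · left
    have h3 := F.D.R_exp ((F.D.mem_R (x := ⟨z, hC⟩)).2 h)
    rwa [pow_succ, pow_two, h2, one_mul] at h3
  · right
    have hR : z * F.tI ∈ F.D.R := (F.D.mem_R (x := ⟨z, hC⟩ * ⟨F.tI, F.tI_C⟩)).2 (by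
      rw [map_mul, h, F.pi_tI (z := ⟨F.tI, F.tI_C⟩) rfl, sl_neg.2.1])
    have h3 := F.D.R_exp hR
    rw [ht.mul_pow, pow_succ z, pow_two, h2, one_mul, pow_succ F.tI, pow_two, F.tI_sq, one_mul] at h3
    exact (eq_inv_of_mul_eq_one_left h3).trans F.tI_inv

theorem Qt_sq {z : G} (hz : z ∈ F.Qt) : z = 1 ∨ z = F.tI ∨ z * z = F.tI := by
  have h4 := F.pow_four hz.1 hz.2.1 hz.2.2
  rcases F.Qt_invol (mul_mem hz hz) (by rw [← pow_two, ← pow_two, ← pow_mul]; exact h4) with h | h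
  · rcases F.Qt_invol hz h with e | e
    · exact Or.inl e
    · exact Or.inr (Or.inl e)
  · exact Or.inr (Or.inr h)

theorem Qt_surj {A : SL23} (hA : A * A * (A * A) = 1) : ∃ z : ↥F.D.C, (z : G) ∈ F.Qt ∧ F.D.π z = A := by
  obtain ⟨y, hyt, hy⟩ := F.lift_tI A
  have h12 : (y : G) ^ 12 = 1 := by
    have h3 := F.D.R_exp ((F.D.mem_R (x := y ^ 4)).2 (by rw [map_pow, hy, pow_succ, pow_succ, pow_two, mul_assoc _ A, hA]))
    rw [Subgroup.coe_pow, ← pow_mul] at h3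
    exact h3
  refine ⟨y ^ 9, ⟨(y ^ 9 : ↥F.D.C).2, by rw [Subgroup.coe_pow]; exact hyt.pow_left 9, ?_⟩, ?_⟩
  · rw [Subgroup.coe_pow, ← pow_mul, show 9 * 8 = 12 * 6 from rfl, pow_mul, h12, one_pow]
  · have h4 : A ^ 4 = 1 := by rw [pow_succ, pow_succ, pow_two, mul_assoc _ A, hA]
    rw [map_pow, hy, show (9 : ℕ) = 4 * 2 + 1 from rfl, pow_succ, pow_mul, h4, one_pow, one_mul]

/-- Elements normalising the quaternion group centralise the involution. -/
theorem tI_of_norm {g : G} (hg : g ∈ Subgroup.normalizer (F.Qt : Set G)) : Commute g F.tI := by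
  have h := (Subgroup.mem_normalizer_iff.1 hg F.tI).1 F.tI_Qt
  rcases F.Qt_invol h (by rw [conj_mul, F.tI_sq, mul_one, mul_inv_cancel]) with e | e
  · exact absurd (conj_eq_one_iff.1 e) F.tI_ne
  · exact mul_inv_eq_iff_eq_mul.1 e

/-- Elements commuting with the involution and normalising the subgroup of the element normalise the quaternion group. -/
theorem norm_Qt {g : G} (hg : Commute g F.tI) (ha : g * F.D.a * g⁻¹ = F.D.a ∨ g * F.D.a * g⁻¹ = F.D.a⁻¹) :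
    g ∈ Subgroup.normalizer (F.Qt : Set G) := by
  have key : ∀ h : G, Commute h F.tI → (h * F.D.a * h⁻¹ = F.D.a ∨ h * F.D.a * h⁻¹ = F.D.a⁻¹) →
      ∀ z ∈ F.Qt, h * z * h⁻¹ ∈ F.Qt := by
    intro h ht ha z hz
    refine ⟨F.D.mem_C.2 ?_, (ht.mul_left hz.2.1).mul_left ht.inv_left, by rw [conj_pow, hz.2.2, mul_one, mul_inv_cancel]⟩
    have e := (show Commute z F.D.a from F.D.mem_C.1 hz.1).conj h
    rcases ha with e' | e' <;> rw [e'] at e
    · exact e.eq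
    · exact (by simpa using e.inv_right : Commute (h * z * h⁻¹) F.D.a).eq
  refine Subgroup.mem_normalizer_iff.2 fun z => ⟨key g hg ha z, fun hz => ?_⟩
  have := key g⁻¹ hg.inv_left (by
    rw [inv_inv]
    rcases ha with e | e
    · left; conv_lhs => rw [← e]
      group
    · right
      have e' := congrArg (fun x => g⁻¹ * x⁻¹ * g) e
      simp only [inv_inv] at e'
      rw [← e']; group) _ hz
  rwa [inv_inv, ← mul_assoc, ← mul_assoc, inv_mul_cancel, one_mul, inv_mul_cancel_right] at this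

/-- An element inverting the element does not square to the involution. -/
theorem no_sq_tI {y : G} (hy : y * F.D.a * y⁻¹ = F.D.a⁻¹) (h : y * y = F.tI) : False := by
  refine F.D.not_scalar hy fun u hu => ?_
  obtain ⟨v, hv⟩ : ∃ v, v = y * u * y⁻¹ := ⟨_, rfl⟩
  have hvR : v ∈ F.D.R := hv ▸ F.D.norm_R (Or.inr hy) hu
  obtain ⟨c, hc⟩ : ∃ c, c = u * v * u⁻¹ * v⁻¹ := ⟨_, rfl⟩
  have hcZ : c ∈ F.D.Z := hc ▸ F.D.comm_R hu hvR
  obtain ⟨z, hz, he⟩ := F.R_inverted hu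
  have hyy : y * v * y⁻¹ = z * u⁻¹ := by
    rw [← he, hv, show y * (y * u * y⁻¹) * y⁻¹ = (y * y) * u * (y * y)⁻¹ by group, h, F.tI_inv]
  have h1 : y * c * y⁻¹ = c := by
    rw [hc, show y * (u * v * u⁻¹ * v⁻¹) * y⁻¹ = (y * u * y⁻¹) * (y * v * y⁻¹) * (y * u * y⁻¹)⁻¹ * (y * v * y⁻¹)⁻¹ by
      group, ← hv, hyy, F.D.comm_mul_right hvR (F.D.Z_le hz) (inv_mem hu), F.D.comm_center_right hvR hz, one_mul]
    have e := F.D.comm_zpow_right hvR hu (-1)
    rw [zpow_neg_one, zpow_neg_one] at e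
    rw [e]; group
  have h2 : y * c * y⁻¹ = c⁻¹ := by
    obtain ⟨k, hk⟩ := Subgroup.mem_zpowers_iff.1 hcZ
    rw [← hk, ← conj_zpow, hy, inv_zpow]
  rw [h1] at h2
  have h3 := F.D.R_exp (F.D.Z_le hcZ)
  rw [pow_succ, pow_two] at h3
  nth_rewrite 2 [h2] at h3
  rw [mul_inv_cancel, one_mul] at h3
  rw [hc, mul_inv_eq_one, mul_inv_eq_iff_eq_mul] at h3
  rw [← hv]; exact h3

/-- An involution inverting the element and commuting with the central involution fixes a non-central element. -/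
theorem exists_fixed {s : G} (hs : s * F.D.a * s⁻¹ = F.D.a⁻¹) (h2 : s * s = 1) :
    ∃ w ∈ F.D.R, w ∉ F.D.Z ∧ Commute s w := by
  have hsi : s⁻¹ = s := inv_eq_of_mul_eq_one_right h2
  by_contra hno
  refine F.D.not_scalar hs fun u hu => ?_
  obtain ⟨v, hv⟩ : ∃ v, v = s * u * s⁻¹ := ⟨_, rfl⟩
  have hvR : v ∈ F.D.R := hv ▸ F.D.norm_R (Or.inr hs) hu
  obtain ⟨w, hw⟩ : ∃ w, w = u * v := ⟨_, rfl⟩
  have hwR : w ∈ F.D.R := hw ▸ mul_mem hu hvR
  rw [← hv]
  by_cases hwZ : w ∈ F.D.Z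
  · have := F.D.comm_C (F.D.R_le hu) hwZ
    rw [hw, mul_assoc] at this
    exact mul_left_cancel this
  exfalso
  obtain ⟨z, hz⟩ : ∃ z, z = v * u * v⁻¹ * u⁻¹ := ⟨_, rfl⟩
  have hzZ : z ∈ F.D.Z := hz ▸ F.D.comm_R hvR hu
  have hsv : s * v * s⁻¹ = u := by
    rw [hv, show s * (s * u * s⁻¹) * s⁻¹ = (s * s) * u * (s * s)⁻¹ by group, h2, one_mul, inv_one, mul_one]
  have hsw : s * w * s⁻¹ = z * w := by
    rw [hw, ← conj_mul, ← hv, hsv, hz]; group
  have hsz : s * z * s⁻¹ = z⁻¹ := by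
    obtain ⟨k, hk⟩ := Subgroup.mem_zpowers_iff.1 hzZ
    rw [← hk, ← conj_zpow, hs, inv_zpow]
  refine hno ⟨w * z * z, mul_mem (mul_mem hwR (F.D.Z_le hzZ)) (F.D.Z_le hzZ), fun h => hwZ ?_, ?_⟩
  · have := mul_mem (mul_mem h (inv_mem hzZ)) (inv_mem hzZ)
    rwa [mul_inv_cancel_right, mul_inv_cancel_right] at this
  · refine mul_inv_eq_iff_eq_mul.1 ?_
    rw [← conj_mul, ← conj_mul, hsw, hsz]
    have h3 := F.D.R_exp (F.D.Z_le hzZ)
    rw [pow_succ, pow_two] at h3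
    calc z * w * z⁻¹ * z⁻¹ = w * z * z⁻¹ * z⁻¹ := by rw [(F.D.comm_C (F.D.R_le hwR) hzZ)]
      _ = w * z⁻¹ := by group
      _ = w * (z * z) := by rw [eq_inv_of_mul_eq_one_left h3]
      _ = w * z * z := by group

end Frame

end CfsgPSp43Real
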