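import Cfsg.Agent.Lib.PSp43Real.Frame
import Cfsg.Agent.Lib.Sym9Three.Local

/-!
Centralisers of the translations outside the orbit of the central one. Adapted from
`Cfsg.Agent.Lib.Sym9Three.Local`.
-/

set_option autoImplicit false
set_option linter.style.haveILetI false
set_option synthInstance.maxSize 4000

namespace CfsgPSp43Real

open Subgroup
open CfsgLib.Sym9Three (V3 xv Mon Sub tr rot act toR rMul rInv inR mon_split tr_mul tr_zero tr_inv rot_conj_tr
  tr_mem_Sub transl eq_transl tr_mem comb comb_add comb_facts pair_stab line_closed v3_double mod_line_stab smallV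
  stabSet eType orbit_types sc_three_normal le_normalizer_of_quotient act_zero act_add act_neg rot_mul)

universe u

variable {G : Type u} [Group G]

namespace Frame

variable (F : Frame G)

/-- A translation in the group. -/
abbrev j (v : V3) : G := F.el (tr v)

/-- The normalizer of the translations. -/
abbrev N : Subgroup G := Subgroup.normalizer (F.D.J : Set G)

theorem el_one : F.el 1 = 1 := by
  have h := F.el_mul 1 (one_mem _) 1 (one_mem _)
  rw [one_mul] at h
  exact left_eq_mul.mp h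

theorem el_inv {a : Mon} (ha : a ∈ Sub F.k) : F.el a⁻¹ = (F.el a)⁻¹ := by
  rw [eq_inv_iff_mul_eq_one, ← F.el_mul _ (inv_mem ha) _ ha, inv_mul_cancel, F.el_one]

theorem el_mem_N {a : Mon} (ha : a ∈ Sub F.k) : F.el a ∈ F.N := (F.mem_N _).mpr ⟨a, ha, rfl⟩

theorem j_mem (v : V3) : F.j v ∈ F.D.J := (F.mem_J _).mpr ⟨v, rfl⟩

theorem j_add (v w : V3) : F.j (v + w) = F.j v * F.j w := by
  rw [j, ← tr_mul, F.el_mul _ (tr_mem_Sub _ _) _ (tr_mem_Sub _ _)]

theorem j_zero : F.j 0 = 1 := by rw [j, tr_zero, F.el_one]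

theorem j_neg (v : V3) : F.j (-v) = (F.j v)⁻¹ := by
  rw [j, ← tr_inv, F.el_inv (tr_mem_Sub _ _)]

theorem j_inj {v w : V3} (h : F.j v = F.j w) : v = w :=
  congrArg Mon.v (F.el_inj _ (tr_mem_Sub _ _) _ (tr_mem_Sub _ _) h)

theorem j_ne_one {v : V3} (hv : v ≠ 0) : F.j v ≠ 1 := fun e => hv (F.j_inj (e.trans F.j_zero.symm))

theorem j_cube (v : V3) : F.j v ^ 3 = 1 := by
  rw [pow_three', ← F.j_add, ← F.j_add, (by decide +kernel : ∀ v : V3, v + v + v = 0) v, F.j_zero]

theorem el_conj {m : Mon} (hm : m ∈ Sub F.k) (v : V3) : F.el m * F.j v * (F.el m)⁻¹ = F.j (act m.g v) := by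
  rw [← F.el_inv hm, ← F.el_mul _ hm _ (tr_mem_Sub _ _),
    ← F.el_mul _ (mul_mem hm (tr_mem_Sub _ _)) _ (inv_mem hm), rot_conj_tr]

theorem el_comm_iff {a b : Mon} (ha : a ∈ Sub F.k) (hb : b ∈ Sub F.k) :
    F.el a * F.el b = F.el b * F.el a ↔ a * b = b * a := by
  rw [← F.el_mul _ ha _ hb, ← F.el_mul _ hb _ ha]
  exact ⟨F.el_inj _ (mul_mem ha hb) _ (mul_mem hb ha), fun h => by rw [h]⟩

theorem J_comm {a b : G} (ha : a ∈ F.D.J) (hb : b ∈ F.D.J) : a * b = b * a := by
  obtain ⟨v, rfl⟩ := (F.mem_J a).mp ha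
  obtain ⟨w, rfl⟩ := (F.mem_J b).mp hb
  show F.j v * F.j w = F.j w * F.j v
  rw [← F.j_add, ← F.j_add, add_comm]

theorem card_J : Nat.card F.D.J = 27 := by
  let e : V3 ≃ F.D.J := Equiv.ofBijective (fun v => ⟨F.j v, F.j_mem v⟩)
    ⟨fun v w h => F.j_inj (congrArg Subtype.val h), fun z => by
      obtain ⟨v, hv⟩ := (F.mem_J _).mp z.2
      exact ⟨v, Subtype.ext hv⟩⟩
  rw [← Nat.card_congr e, Nat.card_eq_fintype_card]
  rfl

/-- An element of the normalizer commuting with a translation comes from a rotation fixing it. -/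
theorem exists_of_comm {g : G} (hg : g ∈ F.N) {v : V3} (h : g * F.j v = F.j v * g) :
    ∃ m ∈ Sub F.k, F.el m = g ∧ act m.g v = v := by
  obtain ⟨m, hm, rfl⟩ := (F.mem_N g).mp hg
  refine ⟨m, hm, rfl, F.j_inj ?_⟩
  rw [← F.el_conj hm, h, mul_inv_cancel_right]

/-- An abelian subgroup of order 27 of the normalizer consists of the translations. -/
theorem eq_J {A : Subgroup G} (hA : A ≤ F.N) (hc : ∀ a ∈ A, ∀ b ∈ A, a * b = b * a) (h27 : Nat.card A = 27) :
    A = F.D.J := by
  let D : Subgroup Mon :=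
    { carrier := {m | m ∈ Sub F.k ∧ F.el m ∈ A}
      mul_mem' := fun {a b} ha hb => ⟨mul_mem ha.1 hb.1, by rw [F.el_mul _ ha.1 _ hb.1]; exact mul_mem ha.2 hb.2⟩
      one_mem' := ⟨one_mem _, by rw [F.el_one]; exact one_mem A⟩
      inv_mem' := fun {a} ha => ⟨inv_mem ha.1, by rw [F.el_inv ha.1]; exact inv_mem ha.2⟩ }
  have hD : D = transl := by
    refine eq_transl (fun a ha b hb => (F.el_comm_iff ha.1 hb.1).mp (hc _ ha.2 _ hb.2)) ?_
    rw [← h27]
    refine Nat.card_congr (Equiv.ofBijective (fun a : D => (⟨F.el a.1, a.2.2⟩ : A))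
      ⟨fun a b h => Subtype.ext (F.el_inj _ a.2.1 _ b.2.1 (congrArg Subtype.val h)), fun z => ?_⟩)
    obtain ⟨m, hm, e⟩ := (F.mem_N _).mp (hA z.2)
    exact ⟨⟨m, hm, e ▸ z.2⟩, Subtype.ext e⟩
  ext g
  rw [F.mem_J]
  constructor
  · intro hg
    obtain ⟨m, hm, rfl⟩ := (F.mem_N g).mp (hA hg)
    obtain ⟨v, r⟩ := m
    have : (⟨v, r⟩ : Mon) ∈ transl := hD ▸ (show (⟨v, r⟩ : Mon) ∈ D from ⟨hm, hg⟩)
    obtain rfl : r = 0 := this
    exact ⟨v, rfl⟩
  · rintro ⟨v, rfl⟩
    have : tr v ∈ D := hD ▸ tr_mem v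
    exact this.2

/-- The translation has its centralizer inside the normalizer of the translations. -/
def Good (v : V3) : Prop := ∀ g : G, g * F.j v = F.j v * g → g ∈ F.N

theorem mem_N_of_subset {g : G} [Finite G] (h : ∀ u, g * F.j u * g⁻¹ ∈ F.D.J) : g ∈ F.N := by
  have e : F.D.J.map (MulAut.conj g).toMonoidHom = F.D.J := by
    refine Subgroup.eq_of_le_of_card_ge ?_ (by rw [Subgroup.card_map_of_injective (MulAut.conj g).injective])
    rintro _ ⟨z, hz, rfl⟩
    obtain ⟨u, rfl⟩ := (F.mem_J z).mp hz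
    exact h u
  rw [Subgroup.mem_normalizer_iff]
  intro z
  refine ⟨fun hz => ?_, fun hz => ?_⟩
  · obtain ⟨u, rfl⟩ := (F.mem_J z).mp hz
    exact h u
  · rw [← e] at hz
    obtain ⟨w, hw, he⟩ := hz
    exact mul_left_cancel (mul_right_cancel (show g * w * g⁻¹ = g * z * g⁻¹ from he)) ▸ hw

theorem mem_N_of_conj_le {g : G} [Finite G] (h : ∀ u, g * F.j u * g⁻¹ ∈ F.N) : g ∈ F.N := by
  have e : F.D.J.map (MulAut.conj g).toMonoidHom = F.D.J := by
    refine F.eq_J ?_ ?_ (by rw [Subgroup.card_map_of_injective (MulAut.conj g).injective, F.card_J])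
    · rintro _ ⟨z, hz, rfl⟩
      obtain ⟨u, rfl⟩ := (F.mem_J z).mp hz
      exact h u
    · rintro _ ⟨a, ha, rfl⟩ _ ⟨b, hb, rfl⟩
      rw [← map_mul, ← map_mul, F.J_comm ha hb]
  refine F.mem_N_of_subset fun u => ?_
  rw [← e]
  exact ⟨F.j u, F.j_mem u, rfl⟩

/-- An element carrying a translation to one with small centralizer normalizes the translations. -/
theorem ctrl_target [Finite G] {g : G} {v v' : V3} (hv : F.Good v') (h : g * F.j v * g⁻¹ = F.j v') : g ∈ F.N := by
  refine F.mem_N_of_conj_le fun u => hv _ ?_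
  rw [← h, show g * F.j u * g⁻¹ * (g * F.j v * g⁻¹) = g * (F.j u * F.j v) * g⁻¹ by group,
    F.J_comm (F.j_mem u) (F.j_mem v)]
  group

/-- An element carrying a translation with small centralizer to a translation normalizes the translations. -/
theorem ctrl_source [Finite G] {g : G} {v v' : V3} (hv : F.Good v) (h : g * F.j v * g⁻¹ = F.j v') : g ∈ F.N := by
  have := F.ctrl_target (g := g⁻¹) (v := v') hv (by rw [← h]; group)
  simpa using inv_mem this

theorem sig : ∀ U : Subgroup G, (Nat.card U).Coprime 3 →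
    (∀ v, U.map (MulAut.conj (F.el (tr v))).toMonoidHom = U) → U = ⊥ := fun U hU h => F.D.sig U hU fun i hi => by
  obtain ⟨v, rfl⟩ := (F.mem_J i).mp hi
  exact h v

theorem good_neg {v : V3} (hv : F.Good v) : F.Good (-v) := fun g hg => by
  refine hv g ?_
  rw [F.j_neg] at hg
  have := (Commute.inv_right (show Commute g (F.j v)⁻¹ from hg)).eq
  rwa [inv_inv] at this

theorem good_act {v : V3} {r : Fin 48} (hr : inR F.k r = true) (hv : F.Good v) : F.Good (act r v) := fun g hg => by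
  have hm : rot r ∈ Sub F.k := hr
  have hN := F.el_mem_N hm
  have h : (F.el (rot r))⁻¹ * g * F.el (rot r) ∈ F.N := hv _ (by
    rw [← F.el_conj hm v] at hg
    calc (F.el (rot r))⁻¹ * g * F.el (rot r) * F.j v
        = (F.el (rot r))⁻¹ * (g * (F.el (rot r) * F.j v * (F.el (rot r))⁻¹)) * F.el (rot r) := by group
      _ = F.j v * ((F.el (rot r))⁻¹ * g * F.el (rot r)) := by rw [hg]; group)
  have := mul_mem (mul_mem hN h) (inv_mem hN)
  simpa [mul_assoc] using this

variable [Finite G]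

/-- The centralizer of two independent translations lies in the normalizer of the translations. -/
theorem rank_two {v w : V3} (hv : v ≠ 0) (hw : w ≠ 0) (h1 : w ≠ v) (h2 : w ≠ -v) {g : G}
    (hgv : g * F.j v = F.j v * g) (hgw : g * F.j w = F.j w * g) : g ∈ F.N := by
  classical
  haveI : Fact (Nat.Prime 3) := ⟨Nat.prime_three⟩
  set H := Subgroup.centralizer ({F.j v, F.j w} : Set G) with hH
  have hmemH : ∀ z, z ∈ H ↔ z * F.j v = F.j v * z ∧ z * F.j w = F.j w * z := fun z => by
    rw [hH, Subgroup.mem_centralizer_iff]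
    simp [eq_comm]
  have hJH : F.D.J ≤ H := fun z hz => (hmemH z).mpr ⟨F.J_comm hz (F.j_mem _), F.J_comm hz (F.j_mem _)⟩
  obtain ⟨⟨c0, c1, c2⟩, hind⟩ := comb_facts v w
  replace hind := hind hv hw h1 h2
  let R : Subgroup G :=
    { carrier := {z | ∃ a b, F.j (comb v w a b) = z}
      mul_mem' := by
        rintro _ _ ⟨a, b, rfl⟩ ⟨a', b', rfl⟩
        exact ⟨a + a', b + b', by rw [comb_add, F.j_add]⟩
      one_mem' := ⟨0, 0, by rw [c0, F.j_zero]⟩
      inv_mem' := by
        rintro _ ⟨a, b, rfl⟩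
        refine ⟨-a, -b, eq_inv_of_mul_eq_one_left ?_⟩
        rw [← F.j_add, ← comb_add, neg_add_cancel, neg_add_cancel, c0, F.j_zero] }
  have hRJ : R ≤ F.D.J := by rintro _ ⟨a, b, rfl⟩; exact F.j_mem _
  have hR9 : Nat.card R = 9 := by
    refine (Nat.card_congr (Equiv.ofBijective
      (fun p : ZMod 3 × ZMod 3 => (⟨F.j (comb v w p.1 p.2), p.1, p.2, rfl⟩ : R))
      ⟨fun p q h => ?_, fun z => ?_⟩)).symm.trans (by rw [Nat.card_prod, Nat.card_zmod])
    · have h' := F.j_inj (congrArg Subtype.val h)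
      have e := comb_add v w (p.1 - q.1) (p.2 - q.2) q.1 q.2
      rw [sub_add_cancel, sub_add_cancel, h', eq_comm, add_eq_right] at e
      obtain ⟨ea, eb⟩ := hind _ _ e
      exact Prod.ext (sub_eq_zero.mp ea) (sub_eq_zero.mp eb)
    · obtain ⟨a, b, e⟩ := z.2
      exact ⟨(a, b), Subtype.ext e⟩
  have hcent : ∀ r ∈ R, ∀ z ∈ H, z * r = r * z := by
    rintro _ ⟨a, b, rfl⟩ z hz
    have hpow : ∀ (u : V3) (n : ℕ), F.j (n • u) = F.j u ^ n := fun u n => by
      induction n with
      | zero => rw [zero_smul, pow_zero, F.j_zero]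
      | succ n ih => rw [succ_nsmul, F.j_add, ih, pow_succ]
    have hcomb : ∀ v w : V3, ∀ a b : ZMod 3, comb v w a b = a.val • v + b.val • w := by
      intro v w a b
      simp [comb, Prod.ext_iff, nsmul_eq_mul]
    rw [hcomb, F.j_add, hpow, hpow]
    exact ((Commute.pow_right ((hmemH z).mp hz).1 _).mul_right (Commute.pow_right ((hmemH z).mp hz).2 _)).eq
  set R' := R.subgroupOf H with hR'
  haveI hRn : R'.Normal := ⟨fun z hz y => by
    show (y : G) * z * (y : G)⁻¹ ∈ R
    rw [hcent (z : G) hz y y.2, mul_inv_cancel_right]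
    exact hz⟩
  set π := QuotientGroup.mk' R' with hπ
  have hker : π.ker = R' := QuotientGroup.ker_mk' R'
  set X := (F.D.J.subgroupOf H).map π with hXdef
  have hcomap : X.comap π = F.D.J.subgroupOf H := by
    rw [hXdef, Subgroup.comap_map_eq, hker, sup_eq_left]
    exact fun z hz => hRJ hz
  have hmem : ∀ h : H, π h ∈ X ↔ (h : G) ∈ F.D.J := fun h => by
    rw [← Subgroup.mem_comap, hcomap]
    rfl
  have hone : ∀ h : H, π h = 1 ↔ (h : G) ∈ R := fun h => by
    rw [← MonoidHom.mem_ker, hker]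
    rfl
  have hcR : Nat.card R' = 9 := by
    rw [hR', Nat.card_congr (Subgroup.subgroupOfEquivOfLe (hRJ.trans hJH)).toEquiv, hR9]
  have hX3 : Nat.card X = 3 := by
    have e1 := (X.comap π).card_mul_index
    rw [Subgroup.index_comap_of_surjective _ (QuotientGroup.mk'_surjective R'), hcomap,
      Nat.card_congr (Subgroup.subgroupOfEquivOfLe hJH).toEquiv, F.card_J,
      Subgroup.card_eq_card_quotient_mul_card_subgroup R', ← X.card_mul_index, hcR] at e1
    have hi : 0 < X.index * 9 := Nat.mul_pos (Nat.pos_of_ne_zero Subgroup.index_ne_zero_of_finite) (by norm_num)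
    exact (Nat.eq_of_mul_eq_mul_right hi (by linarith)).symm
  have hXC : Subgroup.centralizer (X : Set (H ⧸ R')) = X := by
    refine le_antisymm (fun q hq => ?_) (fun q hq => Subgroup.mem_centralizer_iff.mpr fun p hp => ?_)
    · obtain ⟨h, rfl⟩ := QuotientGroup.mk'_surjective R' q
      have hdiff : ∀ u, ∃ a b, (h : G) * F.j u * (h : G)⁻¹ = F.j (comb v w a b + u) := fun u => by
        have hc := Subgroup.mem_centralizer_iff.mp hq _ ((hmem ⟨F.j u, hJH (F.j_mem u)⟩).mpr (F.j_mem u))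
        have h1 : π (h * ⟨F.j u, hJH (F.j_mem u)⟩ * h⁻¹ * (⟨F.j u, hJH (F.j_mem u)⟩ : H)⁻¹) = 1 := by
          rw [map_mul, map_mul, map_mul, map_inv, map_inv, ← hc, mul_inv_cancel_right, mul_inv_cancel]
        obtain ⟨a, b, e⟩ := (hone _).mp h1
        refine ⟨a, b, ?_⟩
        rw [F.j_add, e]
        simp
      have hN : (h : G) ∈ F.N := F.mem_N_of_subset fun u => by
        obtain ⟨a, b, e⟩ := hdiff u
        rw [e]; exact F.j_mem _
      obtain ⟨⟨t, r⟩, hm, e, hr⟩ := F.exists_of_comm hN ((hmemH _).mp h.2).1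
      have hr2 : act r w = w := F.j_inj (by rw [← F.el_conj hm, e, ((hmemH _).mp h.2).2, mul_inv_cancel_right])
      obtain rfl : r = 0 := pair_stab r v hr w hr2 hv hw h1 h2 fun u => by
        obtain ⟨a, b, e'⟩ := hdiff u
        rw [← e, F.el_conj hm] at e'
        exact ⟨a, b, F.j_inj e'⟩
      exact (hmem h).mpr (e ▸ F.j_mem t)
    · obtain ⟨a, rfl⟩ := QuotientGroup.mk'_surjective R' q
      obtain ⟨b, rfl⟩ := QuotientGroup.mk'_surjective R' p
      rw [← map_mul, ← map_mul]
      exact congrArg π (Subtype.ext (F.J_comm ((hmem b).mp hp) ((hmem a).mp hq)))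
  have hXn : X.Normal := by
    refine sc_three_normal X hX3 hXC fun U hU hXU => ?_
    set Ut := U.comap π with hUt
    have hRU : R' ≤ Ut := fun z hz => by
      rw [hUt, Subgroup.mem_comap, (hone z).mpr hz]
      exact one_mem U
    set Z' := R'.subgroupOf Ut with hZ'
    haveI : Z'.Normal := hRn.comap _
    have hcZ : Nat.card Z' = 9 := by rw [hZ', Nat.card_congr (Subgroup.subgroupOfEquivOfLe hRU).toEquiv, hcR]
    have hidx : Z'.index = Nat.card U := by
      let f : Ut →* U := (π.comp Ut.subtype).codRestrict U fun z => z.2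
      have hf : Function.Surjective f := by
        rintro ⟨q, hq⟩
        obtain ⟨z, rfl⟩ := QuotientGroup.mk'_surjective R' q
        exact ⟨⟨z, hq⟩, rfl⟩
      have hk : f.ker = Z' := by
        ext z
        rw [MonoidHom.mem_ker, hZ', Subgroup.mem_subgroupOf, Subtype.ext_iff]
        exact QuotientGroup.eq_one_iff _
      rw [← hk, Subgroup.index_ker, MonoidHom.range_eq_top.mpr hf, Subgroup.card_top]
    have hco : (9 : ℕ).Coprime (Nat.card U) := (hU.symm.pow_left 2 : (3 ^ 2).Coprime _)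
    obtain ⟨L, hL⟩ := Subgroup.exists_right_complement'_of_coprime (N := Z') (by rw [hcZ, hidx]; exact hco)
    have hLcard : Nat.card L = Nat.card U := by rw [← hidx, hL.symm.index_eq_card]
    set m := Nat.card U with hm
    have hLpow : ∀ z : Ut, z ∈ L → z ^ m = 1 := fun z hz => by
      have := congrArg Subtype.val (pow_card_eq_one' (x := (⟨z, hz⟩ : L)))
      rw [← hLcard]
      rwa [Subgroup.coe_pow, Subgroup.coe_one] at this
    have hchar : ∀ z : Ut, z ^ m = 1 → z ∈ L := by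
      intro z hz
      obtain ⟨⟨c, l⟩, rfl⟩ := hL.2 z
      have hc : Commute (c : Ut) (l : Ut) :=
        Subtype.ext (Subtype.ext (hcent (((c : Ut) : H) : G) c.2 (((l : Ut) : H) : G) ((l : Ut) : H).2).symm)
      rw [hc.mul_pow, hLpow _ l.2, mul_one] at hz
      have hz9 : (c : Ut) ^ 9 = 1 := by
        rw [← hcZ]
        have := congrArg Subtype.val (pow_card_eq_one' (x := c))
        rwa [Subgroup.coe_pow, Subgroup.coe_one] at this
      have : (c : Ut) = 1 := orderOf_eq_one_iff.mp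
        (Nat.eq_one_of_dvd_coprimes hco (orderOf_dvd_of_pow_eq_one hz9) (orderOf_dvd_of_pow_eq_one hz))
      show (c : Ut) * l ∈ L
      rw [this, one_mul]
      exact l.2
    have hUJ : ∀ u, ∀ z ∈ Ut, ⟨F.j u, hJH (F.j_mem u)⟩ * z * (⟨F.j u, hJH (F.j_mem u)⟩ : H)⁻¹ ∈ Ut := fun u z hz => by
      rw [hUt, Subgroup.mem_comap, map_mul, map_mul, map_inv]
      exact (Subgroup.mem_normalizer_iff.mp
        (hXU ((hmem ⟨F.j u, hJH (F.j_mem u)⟩).mpr (F.j_mem u))) _).mp hz
    have hbot : (L.map Ut.subtype).map H.subtype = ⊥ := by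
      refine F.sig _ ?_ fun u => ?_
      · rw [Subgroup.card_map_of_injective H.subtype_injective, Subgroup.card_map_of_injective Ut.subtype_injective,
          hLcard]
        exact hU
      · refine Subgroup.eq_of_le_of_card_ge ?_ (by
          rw [Subgroup.card_map_of_injective (f := (MulAut.conj (F.j u)).toMonoidHom) (MulAut.conj _).injective])
        rintro _ ⟨_, ⟨_, ⟨z, hz, rfl⟩, rfl⟩, rfl⟩
        refine ⟨_, ⟨⟨_, hUJ u z z.2⟩, hchar _ (Subtype.ext ?_), rfl⟩, rfl⟩
        show (⟨F.j u, hJH (F.j_mem u)⟩ * (z : H) * (⟨F.j u, hJH (F.j_mem u)⟩ : H)⁻¹) ^ m = 1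
        rw [conj_pow, show (z : H) ^ m = 1 by simpa using congrArg Subtype.val (hLpow z hz), mul_one, mul_inv_cancel]
    rw [Subgroup.map_eq_bot_iff_of_injective _ H.subtype_injective,
      Subgroup.map_eq_bot_iff_of_injective _ Ut.subtype_injective] at hbot
    refine Subgroup.card_eq_one.mp ?_
    rw [show Nat.card U = m from rfl, ← hLcard, hbot, Subgroup.card_bot]
  refine F.mem_N_of_subset fun u => ?_
  have := hXn.conj_mem _ ((hmem ⟨F.j u, hJH (F.j_mem u)⟩).mpr (F.j_mem u)) (π ⟨g, (hmemH g).mpr ⟨hgv, hgw⟩⟩)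
  rw [← map_mul, ← map_inv, ← map_mul, hmem] at this
  exact this

/-- A translation with a small stabilizer has its centralizer in the normalizer of the translations. -/
theorem good_small {v : V3} (hv : v ≠ 0) (hs : smallV F.k v) : F.Good v := by
  haveI : Fact (Nat.Prime 3) := ⟨Nat.prime_three⟩
  set H := Subgroup.centralizer ({F.j v} : Set G) with hH
  have hmemH : ∀ z, z ∈ H ↔ z * F.j v = F.j v * z := fun z => by rw [hH, Subgroup.mem_centralizer_singleton_iff]
  set Z := Subgroup.zpowers (F.j v) with hZdef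
  have hZcard : Nat.card Z = 3 := by rw [Nat.card_zpowers, orderOf_eq_prime (F.j_cube v) (F.j_ne_one hv)]
  have hZlist : ∀ z ∈ Z, z = F.j 0 ∨ z = F.j v ∨ z = F.j (-v) := by
    intro z hz
    let Z3 : Subgroup G :=
      { carrier := {z | z = F.j 0 ∨ z = F.j v ∨ z = F.j (-v)}
        mul_mem' := by
          have hd : ∀ v : V3, ∀ a b : Fin 3, ∃ c : Fin 3,
              ([0, v, -v] : List V3).getD a 0 + ([0, v, -v] : List V3).getD b 0 = ([0, v, -v] : List V3).getD c 0 :=
            line_closed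
          have hl : ∀ z : G, (z = F.j 0 ∨ z = F.j v ∨ z = F.j (-v)) ↔ ∃ a : Fin 3, z = F.j (([0, v, -v] : List V3).getD a 0) := by
            intro z
            constructor
            · rintro (e | e | e)
              exacts [⟨0, e⟩, ⟨1, e⟩, ⟨2, e⟩]
            · rintro ⟨a, e⟩
              fin_cases a
              exacts [Or.inl e, Or.inr (Or.inl e), Or.inr (Or.inr e)]
          intro a b ha hb
          obtain ⟨i, rfl⟩ := (hl a).mp ha
          obtain ⟨i', rfl⟩ := (hl b).mp hb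
          obtain ⟨c, hc⟩ := hd v i i'
          exact (hl _).mpr ⟨c, by rw [← F.j_add, hc]⟩
        one_mem' := Or.inl F.j_zero.symm
        inv_mem' := by
          rintro _ (rfl | rfl | rfl)
          · exact Or.inl (by rw [← F.j_neg, neg_zero])
          · exact Or.inr (Or.inr (by rw [← F.j_neg]))
          · exact Or.inr (Or.inl (by rw [← F.j_neg, neg_neg])) }
    exact (Subgroup.zpowers_le.mpr (show F.j v ∈ Z3 from Or.inr (Or.inl rfl))) hz
  have hjH : F.D.J ≤ H := fun z hz => (hmemH z).mpr (F.J_comm hz (F.j_mem v))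
  have hle : H ≤ Subgroup.normalizer (F.D.J : Set G) := by
    refine le_normalizer_of_quotient H Z F.D.J (Subgroup.zpowers_le.mpr (F.j_mem v)) hjH ?_
      (by rw [F.card_J, hZcard]) ?_ ?_ ?_ ?_ ?_ ?_
    · intro z hz h hh
      obtain ⟨i, rfl⟩ := Subgroup.mem_zpowers_iff.mp hz
      exact (Commute.zpow_right ((hmemH h).mp hh) i).eq
    · intro a ha
      obtain ⟨u, rfl⟩ := (F.mem_J a).mp ha
      rw [show F.el (tr u) ^ 3 = 1 from F.j_cube u]
      exact one_mem Z
    · intro a ha b hb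
      rw [F.J_comm ha hb, mul_inv_cancel_right, mul_inv_cancel]
      exact one_mem Z
    · intro h hh hconj
      have hdiff : ∀ u, ∃ w, (w = 0 ∨ w = v ∨ w = -v) ∧ h * F.j u * h⁻¹ = F.j (w + u) := fun u => by
        rcases hZlist _ (hconj _ (F.j_mem u)) with e | e | e
        · exact ⟨0, Or.inl rfl, by rw [F.j_add, ← e, inv_mul_cancel_right]⟩
        · exact ⟨v, Or.inr (Or.inl rfl), by rw [F.j_add, ← e, inv_mul_cancel_right]⟩
        · exact ⟨-v, Or.inr (Or.inr rfl), by rw [F.j_add, ← e, inv_mul_cancel_right]⟩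
      have hN : h ∈ F.N := F.mem_N_of_subset fun u => by
        obtain ⟨w, -, e⟩ := hdiff u
        rw [e]; exact F.j_mem _
      obtain ⟨⟨t, r⟩, hm, rfl, hr⟩ := F.exists_of_comm hN ((hmemH h).mp hh)
      obtain rfl : r = 0 := mod_line_stab r v hr hv fun u => by
        obtain ⟨w, hw, e⟩ := hdiff u
        rw [F.el_conj hm] at e
        rw [F.j_inj e, add_sub_cancel_right]
        exact hw
      exact F.j_mem t
    · intro h hh a ha haZ hc
      obtain ⟨u, rfl⟩ := (F.mem_J a).mp ha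
      have hu0 : u ≠ 0 := fun e => haZ (by subst e; rw [show F.el (tr 0) = 1 from F.j_zero]; exact one_mem Z)
      have hu1 : u ≠ v := fun e => haZ (e ▸ Subgroup.mem_zpowers _)
      have hu2 : u ≠ -v := fun e => haZ (by
        subst e
        rw [show F.el (tr (-v)) = (F.j v)⁻¹ from F.j_neg v]
        exact inv_mem (Subgroup.mem_zpowers _))
      obtain ⟨w, hw, e⟩ : ∃ w, (w = 0 ∨ w = v ∨ w = -v) ∧ h * F.j u * h⁻¹ = F.j (w + u) := by
        rcases hZlist _ hc with e | e | e
        · exact ⟨0, Or.inl rfl, by rw [F.j_add, ← e, inv_mul_cancel_right]⟩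
        · exact ⟨v, Or.inr (Or.inl rfl), by rw [F.j_add, ← e, inv_mul_cancel_right]⟩
        · exact ⟨-v, Or.inr (Or.inr rfl), by rw [F.j_add, ← e, inv_mul_cancel_right]⟩
      refine F.mem_N_of_conj_le fun t => ?_
      have hs : ∀ v u w : V3, (w = 0 ∨ w = v ∨ w = -v) → u ≠ 0 → u ≠ v → u ≠ -v →
          w + u ≠ 0 ∧ w + u ≠ v ∧ w + u ≠ -v := by
        intro v u w hw h0 h1 h2
        have hd : ∀ v : V3, v + v = -v := v3_double
        rcases hw with rfl | rfl | rfl
        · rw [zero_add]; exact ⟨h0, h1, h2⟩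
        · refine ⟨fun e => h2 (eq_neg_of_add_eq_zero_right e), fun e => h0 ?_, fun e => h1 ?_⟩
          · exact add_eq_left.mp e
          · rw [← hd] at e; exact add_left_cancel e
        · refine ⟨fun e => h1 ?_, fun e => h2 ?_, fun e => h0 ?_⟩
          · exact (neg_add_eq_zero.mp e).symm
          · rw [neg_add_eq_iff_eq_add, hd] at e; exact e
          · exact add_eq_left.mp e
      obtain ⟨s0, s1, s2⟩ := hs v u w hw hu0 hu1 hu2
      refine F.rank_two hv s0 s1 s2 ?_ ?_
      · calc h * F.j t * h⁻¹ * F.j v = h * F.j t * h⁻¹ * (h * F.j v * h⁻¹) := by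
              rw [(hmemH h).mp hh, mul_inv_cancel_right]
          _ = h * (F.j t * F.j v) * h⁻¹ := by group
          _ = h * (F.j v * F.j t) * h⁻¹ := by rw [F.J_comm (F.j_mem t) (F.j_mem v)]
          _ = h * F.j v * h⁻¹ * (h * F.j t * h⁻¹) := by group
          _ = _ := by rw [(hmemH h).mp hh, mul_inv_cancel_right]
      · calc h * F.j t * h⁻¹ * F.j (w + u) = h * F.j t * h⁻¹ * (h * F.j u * h⁻¹) := by rw [e]
          _ = h * (F.j t * F.j u) * h⁻¹ := by group
          _ = h * (F.j u * F.j t) * h⁻¹ := by rw [F.J_comm (F.j_mem t) (F.j_mem u)]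
          _ = h * F.j u * h⁻¹ * (h * F.j t * h⁻¹) := by group
          _ = _ := by rw [e]
    · intro h hh hN
      obtain ⟨⟨t, r⟩, hm, rfl, hr⟩ := F.exists_of_comm hN ((hmemH h).mp hh)
      rw [← F.el_mul _ hm _ hm]
      refine (F.mem_J _).mpr ⟨((⟨t, r⟩ : Mon) * ⟨t, r⟩).v, ?_⟩
      have h0 := hs.2 r (Finset.mem_filter.mpr ⟨Finset.mem_univ _, hm, hr⟩)
      congr 1
      rw [Mon.mul_def]
      simp [h0]
    · have e : Nat.card ↥(H ⊓ Subgroup.normalizer (F.D.J : Set G)) = Nat.card V3 * Nat.card ↥(stabSet F.k v) := by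
        have hmr : ∀ r : ↥(stabSet F.k v), ∀ t : V3, (⟨t, r.1⟩ : Mon) ∈ Sub F.k ∧ act r.1 v = v := fun r t =>
          (Finset.mem_filter.mp r.2).2
        rw [← Nat.card_prod]
        refine (Nat.card_congr (Equiv.ofBijective
          (fun p : V3 × ↥(stabSet F.k v) => (⟨F.el ⟨p.1, p.2.1⟩, (hmemH _).mpr (by
            rw [← mul_inv_eq_iff_eq_mul, F.el_conj (hmr p.2 p.1).1, (hmr p.2 p.1).2]), F.el_mem_N (hmr p.2 p.1).1⟩ :
              ↥(H ⊓ Subgroup.normalizer (F.D.J : Set G)))) ⟨fun p q h => ?_, fun z => ?_⟩)).symm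
        · have := F.el_inj _ (hmr p.2 p.1).1 _ (hmr q.2 q.1).1 (congrArg Subtype.val h)
          exact Prod.ext (congrArg Mon.v this) (Subtype.ext (congrArg Mon.g this))
        · obtain ⟨⟨t, r⟩, hm, e, hr⟩ := F.exists_of_comm z.2.2 ((hmemH _).mp z.2.1)
          exact ⟨(t, ⟨r, Finset.mem_filter.mpr ⟨Finset.mem_univ _, hm, hr⟩⟩), Subtype.ext e⟩
      rw [e, hZcard, Nat.card_eq_finsetCard, show Nat.card V3 = 27 by rw [Nat.card_eq_fintype_card]; rfl,
        show 36 * 3 = 27 * 4 by norm_num]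
      exact mul_dvd_mul_left 27 hs.1
  exact fun g hg => hle ((hmemH g).mpr hg)

/-- A translation outside the orbit of the central one and not moving one block has a small centraliser. -/
theorem good {v : V3} (hv : v ≠ 0) (ha : ∀ r : Fin 48, inR F.k r = true → act r xv ≠ v ∧ act r xv ≠ -v)
    (he : F.k = 3 → ¬ eType v) : F.Good v := by
  rcases orbit_types F.k v hv with ⟨r, hr, e | e⟩ | h | ⟨hk, h⟩
  · exact absurd e (ha r hr).1
  · exact absurd e (ha r hr).2
  · exact F.good_small hv h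
  · exact absurd h (he hk)

end Frame

end CfsgPSp43Real
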