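import Mathlib

/-!
The centraliser of the element of order three: the natural action on its largest normal 3-subgroup and the
position of the elementary subgroup of order 27.
-/

set_option autoImplicit false
set_option linter.style.haveILetI false

namespace CfsgPSp43Real

/-- The special linear group over three elements. -/
abbrev SL23 := Matrix.SpecialLinearGroup (Fin 2) (ZMod 3)

theorem sl_neg : (-1 : SL23) ≠ 1 ∧ (-1 : SL23) * -1 = 1 ∧ (∀ A : SL23, -1 * A = A * -1) ∧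
    (∃ A : SL23, A * A = -1) ∧
    (∀ A : SL23, A ≠ 1 → A = -1 ∨ ∃ B : SL23, A * B * A⁻¹ * B⁻¹ = -1 ∨
      A * B * A⁻¹ * B⁻¹ * (A * B * A⁻¹ * B⁻¹) = -1) := by decide +kernel

theorem sl_three_comm : ∀ A B : SL23, A * A * A = 1 → B * B * B = 1 → A ≠ 1 → A * B = B * A →
    B = 1 ∨ B = A ∨ B = A * A := by decide +kernel

theorem sl_three_cent : ∀ A B : SL23, A * A * A = 1 → A ≠ 1 → A * B = B * A →
    (B = 1 ∨ B = A ∨ B = A * A) ∨ B * B * B = -1 := by decide +kernel

theorem sl_three_conj : ∀ A B : SL23, A * A * A = 1 → A ≠ 1 → B * B * B = 1 → B ≠ 1 →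
    ∃ g : SL23, g * B * g⁻¹ = A ∨ g * B * g⁻¹ = A * A := by decide +kernel

theorem sl_three_norm : ∀ A B : SL23, A * A * A = 1 → A ≠ 1 → (B * A * B⁻¹ = A ∨ B * A * B⁻¹ = A * A) →
    (B = 1 ∨ B = A ∨ B = A * A) ∨ (B = -1 ∨ B = -A ∨ B = -(A * A)) := by decide +kernel

theorem sl_three_sq : ∀ A : SL23, A * A * A = 1 → A ≠ 1 → A * A ≠ 1 ∧ A * A ≠ A := by decide +kernel

/-- The data at the element of order three. -/
structure Setup (G : Type*) [Group G] where
  /-- the element -/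
  a : G
  cube : a ^ 3 = 1
  ne : a ≠ 1
  /-- the map onto the special linear group -/
  π : ↥(Subgroup.centralizer ({a} : Set G)) →* SL23
  surj : Function.Surjective π
  kerCard : Nat.card π.ker = 27
  kerExp : ∀ x, π x = 1 → x ^ 3 = 1
  kerA : π ⟨a, Subgroup.mem_centralizer_singleton_iff.2 rfl⟩ = 1
  kerCent : ∀ x, π x = 1 → (∀ y, π y = 1 → x * y = y * x) → (x : G) ∈ Subgroup.zpowers a
  kerComm : ∀ x y, π x = 1 → π y = 1 → ((x * y * x⁻¹ * y⁻¹ : ↥(Subgroup.centralizer ({a} : Set G))) : G) ∈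
    Subgroup.zpowers a
  /-- the elementary subgroup -/
  J : Subgroup G
  J_comm : ∀ i ∈ J, ∀ j ∈ J, i * j = j * i
  J_exp : ∀ j ∈ J, j ^ 3 = 1
  J_card : Nat.card J = 27
  J_le : J ≤ Subgroup.centralizer ({a} : Set G)
  sig : ∀ K : Subgroup G, (Nat.card K).Coprime 3 → (∀ j ∈ J, K.map (MulAut.conj j).toMonoidHom = K) → K = ⊥

namespace Setup

variable {G : Type*} [Group G] (D : Setup G)

/-- The centraliser. -/
abbrev C : Subgroup G := Subgroup.centralizer ({D.a} : Set G)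

/-- The kernel of the map, in the group. -/
def R : Subgroup G := D.π.ker.map D.C.subtype

theorem mem_C {g : G} : g ∈ D.C ↔ g * D.a = D.a * g := Subgroup.mem_centralizer_singleton_iff

theorem R_le : D.R ≤ D.C := Subgroup.map_subtype_le _

theorem mem_R {x : ↥D.C} : (x : G) ∈ D.R ↔ D.π x = 1 :=
  ⟨fun ⟨y, hy, e⟩ => Subtype.ext (a1 := x) (a2 := y) e.symm ▸ hy, fun h => ⟨x, h, rfl⟩⟩

theorem card_R : Nat.card D.R = 27 :=
  (Subgroup.card_map_of_injective D.C.subtype_injective).trans D.kerCard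

theorem R_exp {y : G} (hy : y ∈ D.R) : y ^ 3 = 1 := by
  obtain ⟨x, hx, rfl⟩ := hy
  exact congrArg Subtype.val (D.kerExp x hx)

theorem a_mem : D.a ∈ D.R := ⟨_, D.kerA, rfl⟩

/-- The centre of the kernel. -/
abbrev Z : Subgroup G := Subgroup.zpowers D.a

theorem Z_le : D.Z ≤ D.R := Subgroup.zpowers_le.2 D.a_mem

theorem ord : orderOf D.a = 3 := orderOf_eq_prime D.cube D.ne

theorem card_Z : Nat.card D.Z = 3 := by rw [Nat.card_zpowers, D.ord]

theorem Z_cases {z : G} (h : z ∈ D.Z) : z = 1 ∨ z = D.a ∨ z = D.a⁻¹ := by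
  obtain ⟨n, rfl⟩ := Subgroup.mem_zpowers_iff.1 h
  have h3 : D.a ^ (3 : ℤ) = 1 := by rw [show (3 : ℤ) = ((3 : ℕ) : ℤ) from rfl, zpow_natCast, D.cube]
  rw [← Int.emod_add_mul_ediv n 3, zpow_add, zpow_mul, h3, one_zpow, mul_one]
  rcases (show n % 3 = 0 ∨ n % 3 = 1 ∨ n % 3 = 2 by omega) with h | h | h <;> rw [h]
  · left; exact zpow_zero _
  · right; left; exact zpow_one _
  · right; right
    rw [show (2 : ℤ) = 3 - 1 by norm_num, zpow_sub, h3, zpow_one, one_mul]

theorem comm_C {g z : G} (hg : g ∈ D.C) (hz : z ∈ D.Z) : g * z = z * g := by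
  obtain ⟨n, rfl⟩ := Subgroup.mem_zpowers_iff.1 hz
  exact ((show Commute g D.a from D.mem_C.1 hg).zpow_right n).eq

theorem comm_R {x y : G} (hx : x ∈ D.R) (hy : y ∈ D.R) : x * y * x⁻¹ * y⁻¹ ∈ D.Z := by
  obtain ⟨x, hx, rfl⟩ := hx
  obtain ⟨y, hy, rfl⟩ := hy
  exact D.kerComm x y hx hy

theorem conj_R {g y : G} (hg : g ∈ D.C) (hy : y ∈ D.R) : g * y * g⁻¹ ∈ D.R := by
  obtain ⟨x, hx, rfl⟩ := hy
  exact ⟨_, D.π.normal_ker.conj_mem x hx ⟨g, hg⟩, rfl⟩

theorem R_center {x : G} (hx : x ∈ D.R) (h : ∀ y ∈ D.R, x * y = y * x) : x ∈ D.Z := by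
  obtain ⟨x, hx', rfl⟩ := hx
  exact D.kerCent x hx' fun y hy => Subtype.ext (h y ⟨y, hy, rfl⟩)

theorem cube_sq {y : G} (h : y ^ 3 = 1) : y * y = y⁻¹ :=
  eq_inv_of_mul_eq_one_left (by rw [← pow_three']; exact h)

theorem Z_of_sq {y : G} (hy : y ∈ D.R) (h : y * y ∈ D.Z) : y ∈ D.Z := by
  rw [cube_sq (D.R_exp hy)] at h
  simpa using inv_mem h

/-- A normal subgroup of the centraliser outside the kernel contains an element above the central involution. -/
theorem exists_neg (N : Subgroup ↥D.C) (hN : N.Normal) {x : ↥D.C} (hx : x ∈ N) (h1 : D.π x ≠ 1) :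
    ∃ y ∈ N, D.π y = -1 := by
  rcases sl_neg.2.2.2.2 _ h1 with h | ⟨B, h⟩
  · exact ⟨x, hx, h⟩
  · obtain ⟨b, rfl⟩ := D.surj B
    have hc : x * b * x⁻¹ * b⁻¹ ∈ N := by
      rw [show x * b * x⁻¹ * b⁻¹ = x * (b * x⁻¹ * b⁻¹) by group]
      exact N.mul_mem hx (hN.conj_mem _ (N.inv_mem hx) b)
    rcases h with h | h
    · exact ⟨_, hc, by simpa using h⟩
    · exact ⟨_, N.mul_mem hc hc, by simpa using h⟩

theorem sl_Q8 : (∀ A B : SL23, A * A * (A * A) = 1 → B * B * (B * B) = 1 → A * B * (A * B) * (A * B * (A * B)) = 1) ∧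
    (∀ A B : SL23, A * A * (A * A) = 1 → B * A * B⁻¹ * (B * A * B⁻¹) * (B * A * B⁻¹ * (B * A * B⁻¹)) = 1) := by
  decide +kernel

/-- The normal subgroup of index three. -/
def Q8 : Subgroup SL23 where
  carrier := {A | A * A * (A * A) = 1}
  mul_mem' {A B} ha hb := sl_Q8.1 A B ha hb
  one_mem' := by decide +kernel
  inv_mem' {A} ha := by
    show A⁻¹ * A⁻¹ * (A⁻¹ * A⁻¹) = 1
    rw [← mul_inv_rev, ← mul_inv_rev, ha, inv_one]

theorem mem_Q8 {A : SL23} : A ∈ Q8 ↔ A * A * (A * A) = 1 := Iff.rfl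

instance : Q8.Normal := ⟨fun A hA B => sl_Q8.2 A B hA⟩

theorem card_Q8_dvd : ∀ A : SL23, A * A * (A * A) = 1 → A ^ 8 = 1 := fun A h => by
  rw [show (8 : ℕ) = 2 + 2 + (2 + 2) from rfl, pow_add, pow_add, pow_two, h, one_mul]

variable [Finite G]

theorem no_central {x : ↥D.C} (hx : D.π x = -1) : ¬ ∀ y ∈ D.R, (x : G) * y = y * x := by
  intro hc
  -- the elements of 2-power order above the quaternion group centralising the kernel form a subgroup
  let M : Subgroup ↥D.C := (Subgroup.centralizer (D.π.ker : Set ↥D.C)) ⊓ Q8.comap D.π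
  have hM : ∀ z : ↥D.C, z ∈ M ↔ (∀ y, D.π y = 1 → y * z = z * y) ∧ D.π z ∈ Q8 := fun z => by
    rw [Subgroup.mem_inf, Subgroup.mem_comap, Subgroup.mem_centralizer_iff]
    rfl
  have hMn : M.Normal := inferInstance
  let Z' : Subgroup M := (D.π.ker).subgroupOf M
  have hZc : ∀ z : M, z ∈ Z' → ((z : ↥D.C) : G) ∈ D.Z := fun z hz =>
    D.kerCent _ hz fun y hy => ((hM _).1 z.2).1 y hy |>.symm
  have hcent : ∀ z : M, z ∈ Z' → ∀ m : M, z * m = m * z := fun z hz m =>
    Subtype.ext (Subtype.ext (D.comm_C (m : ↥D.C).2 (hZc z hz)).symm)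
  haveI : Z'.Normal := ⟨fun z hz m => by rw [← hcent z hz m, mul_inv_cancel_right]; exact hz⟩
  have hm8 : ∀ m : M, (m : ↥D.C) ^ 8 ∈ D.π.ker := fun m => by
    rw [MonoidHom.mem_ker, map_pow]
    exact card_Q8_dvd _ ((hM _).1 m.2).2
  let K : Subgroup ↥D.C :=
    { carrier := {z | z ∈ M ∧ z ^ 8 = 1}
      mul_mem' := by
        rintro p q ⟨hp, hp8⟩ ⟨hq, hq8⟩
        refine ⟨M.mul_mem hp hq, ?_⟩
        have hco : (8 : ℕ).Coprime 3 := by norm_num
        -- the eighth power is a homomorphism into the central part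
        have hf : ∀ m : M, m ^ 8 ∈ Z' := fun m => hm8 m
        have htr := Subgroup.exists_right_complement'_of_coprime (N := Z') ?_
        · obtain ⟨L, hL⟩ := htr
          have hLn : ∀ m : M, m ^ 8 = 1 ↔ m ∈ L := by
            intro m
            obtain ⟨⟨c, l⟩, rfl⟩ := hL.2 m
            have hcl : Commute (c : M) (l : M) := hcent c c.2 l
            have hl8 : (l : M) ^ 8 = 1 := by
              have h1 : (l : M) ^ 8 ∈ Z' := hf l
              have h2 : (l : M) ^ 8 ∈ L := pow_mem l.2 8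
              exact (Subgroup.disjoint_def.1 hL.disjoint) h1 h2
            have hc3 : (c : M) ^ 3 = 1 := Subtype.ext (D.kerExp _ c.2)
            rw [hcl.mul_pow, hl8, mul_one]
            constructor
            · intro h
              have : (c : M) = 1 := by
                have h9 : (c : M) ^ 9 = 1 := by rw [show (9 : ℕ) = 3 * 3 from rfl, pow_mul, hc3, one_pow]
                rwa [pow_succ, h, one_mul] at h9
              show (c : M) * l ∈ L
              rw [this, one_mul]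
              exact l.2
            · intro h
              have hc : (c : M) ∈ L := by
                have := L.mul_mem h (L.inv_mem l.2)
                rwa [mul_inv_cancel_right] at this
              rw [(Subgroup.disjoint_def.1 hL.disjoint) c.2 hc, one_pow]
          have := (hLn (⟨p, hp⟩ * ⟨q, hq⟩)).2 (L.mul_mem ((hLn ⟨p, hp⟩).1 (Subtype.ext hp8))
            ((hLn ⟨q, hq⟩).1 (Subtype.ext hq8)))
          exact congrArg Subtype.val this
        · have h1 : IsPGroup 3 Z' := fun z => ⟨1, Subtype.ext (Subtype.ext (D.kerExp _ z.2))⟩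
          obtain ⟨i, hi⟩ := h1.exists_card_eq
          rw [hi]
          refine Nat.Coprime.pow_left i ((Nat.Prime.coprime_iff_not_dvd Nat.prime_three).2 fun h3 => ?_)
          haveI : Fact (Nat.Prime 3) := ⟨Nat.prime_three⟩
          obtain ⟨q', hq'⟩ := exists_prime_orderOf_dvd_card' (G := M ⧸ Z') 3 (Subgroup.index_eq_card Z' ▸ h3)
          obtain ⟨m, rfl⟩ := QuotientGroup.mk'_surjective Z' q'
          have h8 : (QuotientGroup.mk' Z' m) ^ 8 = 1 := by
            rw [← map_pow]; exact (QuotientGroup.eq_one_iff _).2 (hf m)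
          have := orderOf_dvd_of_pow_eq_one h8
          rw [hq'] at this
          norm_num at this
      one_mem' := ⟨M.one_mem, one_pow _⟩
      inv_mem' := fun {z} ⟨hz, hz8⟩ => ⟨M.inv_mem hz, by rw [inv_pow, hz8, inv_one]⟩ }
  have hK : ∀ z : ↥D.C, z ∈ K ↔ z ∈ M ∧ z ^ 8 = 1 := fun z => Iff.rfl
  -- a nontrivial element
  have hxM : x ^ 9 ∈ K := by
    refine (hK _).2 ⟨M.pow_mem ((hM x).2 ⟨fun y hy => Subtype.ext (hc _ ⟨y, hy, rfl⟩).symm, ?_⟩) 9, ?_⟩
    · rw [hx, mem_Q8, sl_neg.2.1, one_mul]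
    · have h2 : (x ^ 2) ^ 3 = 1 := D.kerExp _ (by rw [map_pow, hx, pow_two, sl_neg.2.1])
      rw [← pow_mul, show 9 * 8 = 2 * 3 * 12 from rfl, pow_mul, pow_mul, h2, one_pow]
  have hbot : K.map D.C.subtype = ⊥ := by
    refine D.sig _ ?_ fun j hj => ?_
    · rw [Subgroup.card_map_of_injective D.C.subtype_injective]
      have h2 : IsPGroup 2 K := fun z => ⟨3, Subtype.ext ((hK _).1 z.2).2⟩
      obtain ⟨i, hi⟩ := h2.exists_card_eq
      rw [hi]
      exact Nat.Coprime.pow_left i (by norm_num)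
    · refine Subgroup.eq_of_le_of_card_ge ?_ (by
        rw [Subgroup.card_map_of_injective (f := (MulAut.conj j).toMonoidHom) (MulAut.conj j).injective])
      rintro _ ⟨_, ⟨z, hz, rfl⟩, rfl⟩
      refine ⟨⟨j, D.J_le hj⟩ * z * ⟨j, D.J_le hj⟩⁻¹, (hK _).2 ⟨hMn.conj_mem _ ((hK _).1 hz).1 _, ?_⟩, rfl⟩
      rw [conj_pow, ((hK _).1 hz).2, mul_one, mul_inv_cancel]
  rw [Subgroup.map_eq_bot_iff_of_injective _ D.C.subtype_injective] at hbot
  have h9 : x ^ 9 = 1 := Subgroup.mem_bot.1 (hbot ▸ hxM)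
  have := congrArg D.π h9
  rw [map_pow, hx, map_one, show (9 : ℕ) = 2 * 4 + 1 from rfl, pow_succ, pow_mul, pow_two, sl_neg.2.1,
    one_pow, one_mul] at this
  exact sl_neg.1 this

/-- An element above the central involution inverts the kernel modulo its centre. -/
theorem neg_inverts {x : ↥D.C} (hx : D.π x = -1) {y : G} (hy : y ∈ D.R) :
    (x : G) * y * (x : G)⁻¹ * y ∈ D.Z := by
  classical
  let W : Subgroup D.R := D.Z.subgroupOf D.R
  haveI hWn : W.Normal := ⟨fun w hw r => by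
    show (r : G) * w * (r : G)⁻¹ ∈ D.Z
    rw [D.comm_C (D.R_le r.2) (show (w : G) ∈ D.Z from hw), mul_inv_cancel_right]
    exact hw⟩
  let mk := QuotientGroup.mk' W
  have hmk : ∀ u v : D.R, mk u = mk v ↔ (u : G)⁻¹ * v ∈ D.Z := fun u v => QuotientGroup.eq
  have hcommQ : ∀ p q : D.R ⧸ W, p * q = q * p := by
    intro p q
    obtain ⟨u, rfl⟩ := QuotientGroup.mk'_surjective W p
    obtain ⟨v, rfl⟩ := QuotientGroup.mk'_surjective W q
    rw [← map_mul, ← map_mul, eq_comm, hmk]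
    show ((v : G) * u)⁻¹ * (u * v) ∈ D.Z
    have := D.comm_R (inv_mem u.2) (inv_mem v.2)
    simpa [mul_assoc] using this
  have hexpQ : ∀ p : D.R ⧸ W, p ^ 3 = 1 := by
    intro p
    obtain ⟨u, rfl⟩ := QuotientGroup.mk'_surjective W p
    rw [← map_pow, show u ^ 3 = 1 from Subtype.ext (D.R_exp u.2), map_one]
  have hcardQ : Nat.card (D.R ⧸ W) = 9 := by
    have h1 := Subgroup.card_eq_card_quotient_mul_card_subgroup W
    rw [D.card_R, Nat.card_congr (Subgroup.subgroupOfEquivOfLe D.Z_le).toEquiv, D.card_Z] at h1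
    omega
  let cj : ↥D.C → D.R → D.R := fun g u => ⟨(g : G) * u * (g : G)⁻¹, D.conj_R g.2 u.2⟩
  have hcj : ∀ g u v, mk u = mk v → mk (cj g u) = mk (cj g v) := fun g u v h => by
    rw [hmk] at h ⊢
    show ((g : G) * u * (g : G)⁻¹)⁻¹ * ((g : G) * v * (g : G)⁻¹) ∈ D.Z
    rw [show ((g : G) * u * (g : G)⁻¹)⁻¹ * ((g : G) * v * (g : G)⁻¹) = (g : G) * ((u : G)⁻¹ * v) * (g : G)⁻¹ by group,
      D.comm_C g.2 h, mul_inv_cancel_right]
    exact h
  have hcjmul : ∀ g h u, cj (g * h) u = cj g (cj h u) := fun g h u => Subtype.ext (by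
    show ((g * h : ↥D.C) : G) * u * ((g * h : ↥D.C) : G)⁻¹ = (g : G) * ((h : G) * u * (h : G)⁻¹) * (g : G)⁻¹
    rw [Subgroup.coe_mul]; group)
  have hker : ∀ g, D.π g = 1 → ∀ u, mk (cj g u) = mk u := fun g hg u => by
    rw [hmk]
    show ((g : G) * u * (g : G)⁻¹)⁻¹ * u ∈ D.Z
    have := D.comm_R (D.mem_R.2 hg) (inv_mem u.2)
    simpa [mul_assoc] using this
  have hwell : ∀ g h, D.π g = D.π h → ∀ u, mk (cj g u) = mk (cj h u) := fun g h e u => by
    rw [show g = h * (h⁻¹ * g) by group, hcjmul]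
    exact hcj h _ _ (hker _ (by rw [map_mul, map_inv, e, inv_mul_cancel]) u)
  let f : ↥D.C → (D.R ⧸ W) →* (D.R ⧸ W) := fun g => QuotientGroup.lift W
    (mk.comp (MonoidHom.mk' (cj g) fun u v => Subtype.ext (by
      show (g : G) * ((u : G) * v) * (g : G)⁻¹ = (g : G) * u * (g : G)⁻¹ * ((g : G) * v * (g : G)⁻¹)
      group))) fun w hw => by
      show mk (cj g w) = 1
      refine (QuotientGroup.eq_one_iff _).2 ?_
      show (g : G) * w * (g : G)⁻¹ ∈ D.Z
      rw [D.comm_C g.2 (show (w : G) ∈ D.Z from hw), mul_inv_cancel_right]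
      exact hw
  have hf : ∀ g u, f g (mk u) = mk (cj g u) := fun g u => rfl
  have hfmul : ∀ g h p, f (g * h) p = f g (f h p) := fun g h p => by
    obtain ⟨u, rfl⟩ := QuotientGroup.mk'_surjective W p
    rw [hf, hf, hf, hcjmul]
  have hf1 : ∀ g, D.π g = 1 → ∀ p, f g p = p := fun g hg p => by
    obtain ⟨u, rfl⟩ := QuotientGroup.mk'_surjective W p
    rw [hf, hker g hg]
  obtain ⟨q, hq⟩ : ∃ q : ↥D.C, D.π q * D.π q = -1 := by
    obtain ⟨A, hA⟩ := sl_neg.2.2.2.1
    obtain ⟨q, rfl⟩ := D.surj A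
    exact ⟨q, hA⟩
  have hxq : ∀ p, f x p = f q (f q p) := fun p => by
    obtain ⟨u, rfl⟩ := QuotientGroup.mk'_surjective W p
    rw [hf, hf, hf, ← hcjmul]
    exact hwell _ _ (by rw [map_mul, hx, hq]) u
  have hxx : ∀ p, f x (f x p) = p := fun p => by
    rw [← hfmul, hf1 _ (by rw [map_mul, hx, sl_neg.2.1])]
  -- the fixed and the inverted elements
  suffices hinv : ∀ p, f x p = p⁻¹ by
    have h := hinv (mk ⟨y, hy⟩)
    rw [hf, ← map_inv, hmk] at h
    have h' : y * ((x : G) * y * (x : G)⁻¹) ∈ D.Z := by simpa [cj, mul_assoc] using inv_mem h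
    have h'' := D.comm_C (inv_mem (D.R_le hy)) h'
    rw [show (x : G) * y * (x : G)⁻¹ * y = y⁻¹ * (y * ((x : G) * y * (x : G)⁻¹)) * y by group, h'',
      inv_mul_cancel_right]
    exact h'
  have hfix : ∀ p, f x p = p → p = 1 := by
    intro r hr
    by_contra hr1
    let I : Subgroup (D.R ⧸ W) :=
      { carrier := {p | f x p = p⁻¹}
        mul_mem' := fun {u v} (hu : f x u = u⁻¹) (hv : f x v = v⁻¹) => by
          show f x (u * v) = (u * v)⁻¹
          rw [map_mul, hu, hv, mul_inv_rev, hcommQ]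
        one_mem' := by show f x 1 = 1⁻¹; rw [map_one, inv_one]
        inv_mem' := fun {u} (hu : f x u = u⁻¹) => by show f x u⁻¹ = u⁻¹⁻¹; rw [map_inv, hu] }
    have hI : I ≠ ⊤ := fun e => hr1 (by
      have h : f x r = r⁻¹ := (e ▸ Subgroup.mem_top r : r ∈ I)
      rw [hr] at h
      have h2 : r * r = 1 := mul_eq_one_iff_eq_inv.2 h
      have h3 := hexpQ r
      rwa [pow_three', h2, one_mul] at h3)
    have hI3 : Nat.card I ≤ 3 := by
      have hd := Subgroup.card_subgroup_dvd_card I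
      rw [hcardQ] at hd
      obtain ⟨i, hi, e⟩ := (Nat.dvd_prime_pow Nat.prime_three).1 (show Nat.card I ∣ 3 ^ 2 from hd)
      interval_cases i <;> try omega
      exact absurd ((Subgroup.card_eq_iff_eq_top I).1 (by rw [e, hcardQ]; norm_num)) hI
    by_cases hall : ∀ p, f x p = p
    · have hx6 : x ^ 6 = 1 := by
        rw [show (6 : ℕ) = 2 * 3 from rfl, pow_mul]
        exact D.kerExp _ (by rw [map_pow, hx, pow_two, sl_neg.2.1])
      obtain ⟨w, hwdef⟩ : ∃ w, w = x ^ 3 := ⟨_, rfl⟩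
      have hw : D.π w = -1 := by
        rw [hwdef, map_pow, hx, pow_succ, pow_two, sl_neg.2.1, one_mul]
      have hww : (w : G) * w = 1 := by
        have := congrArg Subtype.val hx6
        rw [show (6 : ℕ) = 3 + 3 from rfl, pow_add, ← hwdef] at this
        exact this
      refine D.no_central hw fun u hu => ?_
      have h := hall (mk ⟨u, hu⟩)
      rw [hf, ← hwell w x (by rw [hw, hx]), hmk] at h
      have hz' : u⁻¹ * ((w : G) * u * (w : G)⁻¹) ∈ D.Z := by simpa [cj, mul_assoc] using inv_mem h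
      obtain ⟨z, hzdef⟩ : ∃ z, z = u⁻¹ * ((w : G) * u * (w : G)⁻¹) := ⟨_, rfl⟩
      rw [← hzdef] at hz'
      have e1 : (w : G) * u * (w : G)⁻¹ = u * z := by rw [hzdef]; group
      have hwi : (w : G)⁻¹ = w := inv_eq_of_mul_eq_one_right hww
      have e2 : u = u * (z * z) := by
        calc u = ((w : G) * w) * u * ((w : G) * w)⁻¹ := by rw [hww]; group
          _ = (w : G) * (u * z) * (w : G)⁻¹ := by rw [← e1]; group
          _ = ((w : G) * u * (w : G)⁻¹) * ((w : G) * z * (w : G)⁻¹) := by group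
          _ = _ := by rw [D.comm_C w.2 hz', mul_inv_cancel_right, e1, mul_assoc]
      have hz2 : z * z = 1 := left_eq_mul.1 e2
      have hz1 : z = 1 := by
        have h3 := D.R_exp (D.Z_le hz')
        rwa [pow_three', hz2, one_mul] at h3
      rw [hz1, mul_one, mul_inv_eq_iff_eq_mul] at e1
      exact e1
    · push Not at hall
      obtain ⟨p, hp⟩ := hall
      obtain ⟨v, hv⟩ : ∃ v, v = p * (f x p)⁻¹ := ⟨_, rfl⟩
      have hv1 : v ≠ 1 := fun e => hp (mul_inv_eq_one.1 (hv ▸ e)).symm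
      have hvI : f x v = v⁻¹ := by rw [hv, map_mul, map_inv, hxx, mul_inv_rev, inv_inv]
      have hfvI : f q v ∈ I := by
        show f x (f q v) = (f q v)⁻¹
        rw [hxq, ← hxq v, hvI, map_inv]
      have hsub : Subgroup.zpowers v = I := by
        refine Subgroup.eq_of_le_of_card_ge (Subgroup.zpowers_le.2 hvI) ?_
        rw [Nat.card_zpowers, orderOf_eq_prime (hexpQ v) hv1]
        exact hI3
      rw [← hsub] at hfvI
      obtain ⟨n, hn⟩ := Subgroup.mem_zpowers_iff.1 hfvI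
      have hvv : f x v = v := by
        rw [hxq, ← hn, map_zpow, ← hn, ← zpow_mul]
        have h3 : v ^ (3 : ℤ) = 1 := by rw [show (3 : ℤ) = ((3 : ℕ) : ℤ) from rfl, zpow_natCast, hexpQ]
        rw [← Int.emod_add_mul_ediv (n * n) 3, zpow_add, zpow_mul, h3, one_zpow, mul_one]
        rcases (show n % 3 = 0 ∨ n % 3 = 1 ∨ n % 3 = 2 by omega) with h | h | h
        · exfalso
          rw [← Int.emod_add_mul_ediv n 3, h, zero_add, zpow_mul, h3, one_zpow] at hn
          refine hv1 ?_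
          have := congrArg (f q) hn
          rw [map_one, ← hxq, hvI] at this
          exact inv_eq_one.1 this.symm
        all_goals rw [Int.mul_emod, h]; norm_num
      rw [hvI] at hvv
      have h2 : v * v = 1 := mul_eq_one_iff_eq_inv.2 hvv.symm
      have h3 := hexpQ v
      rw [pow_three', h2, one_mul] at h3
      exact hv1 h3
  intro p
  refine eq_inv_of_mul_eq_one_left (hfix _ ?_)
  rw [map_mul, hxx, hcommQ]

end Setup

end CfsgPSp43Real
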