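import Cfsg.Agent.Lib.PSp43Real.Coord

/-!
The preimage of the subgroup of order three is a Sylow 3-subgroup, and the element is controlled in it.
-/

set_option autoImplicit false
set_option linter.style.haveILetI false

namespace CfsgPSp43Real

theorem sl_three_part : ∀ A B : SL23, A * A * A = 1 → A ≠ 1 → (B * A * B⁻¹ = A ∨ B * A * B⁻¹ = A * A) →
    B * B * B * (B * B * B) * (B * B * B) = 1 → B = 1 ∨ B = A ∨ B = A * A := by decide +kernel

namespace Setup

variable {G : Type*} [Group G] (D : Setup G) [Finite G]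

theorem card_S : Nat.card D.S = 81 := by
  obtain ⟨e, r, t, -, hrR, hrJ, -⟩ := D.exists_basis
  haveI : Fact (Nat.Prime 3) := ⟨Nat.prime_three⟩
  obtain ⟨i, hi⟩ := D.isPGroup_S.exists_card_eq
  have hlt : Nat.card D.J < Nat.card D.S := by
    refine Nat.lt_of_le_of_ne (Subgroup.card_le_of_le D.J_le_S) fun h => hrJ ?_
    rw [Subgroup.eq_of_le_of_card_ge D.J_le_S h.ge]
    exact D.R_le_S hrR
  have hle := D.card_S_le
  rw [D.J_card, hi] at hlt
  rw [hi] at hle ⊢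
  have : i ≤ 4 := by
    by_contra h
    have h5 := Nat.pow_le_pow_right (show 1 ≤ 3 by norm_num) (show 5 ≤ i by omega)
    norm_num at h5
    omega
  interval_cases i <;> omega

/-- A 3-element normalising the preimage lies in it. -/
theorem mem_S_of_norm {n : G} {j : ℕ} (hn3 : n ^ 3 ^ j = 1) (hn : ∀ z ∈ D.S, n * z * n⁻¹ ∈ D.S) : n ∈ D.S := by
  have hodd : ∀ g : G, g * D.a * g⁻¹ = D.a⁻¹ → ∀ i : ℕ, g ^ (2 * i) * D.a * (g ^ (2 * i))⁻¹ = D.a := by
    intro g hg i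
    induction i with
    | zero => simp
    | succ i ih =>
      rw [show 2 * (i + 1) = 2 + 2 * i by ring, pow_add, show g ^ 2 * g ^ (2 * i) * D.a * (g ^ 2 * g ^ (2 * i))⁻¹ =
        g * (g * (g ^ (2 * i) * D.a * (g ^ (2 * i))⁻¹) * g⁻¹) * g⁻¹ by rw [pow_two]; group, ih, hg,
        ← conj_inv, hg, inv_inv]
  have hnC : n ∈ D.C := by
    have hz : n * D.a * n⁻¹ ∈ D.Z := by
      refine D.center_S (hn _ (D.R_le_S D.a_mem)) fun y hy => ?_
      have hy' : ∃ z ∈ D.S, n * z * n⁻¹ = y := by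
        have e : D.S.map (MulAut.conj n).toMonoidHom = D.S := Subgroup.eq_of_le_of_card_ge
          (by rintro _ ⟨z, hz, rfl⟩; exact hn z hz)
          (by rw [Subgroup.card_map_of_injective (f := (MulAut.conj n).toMonoidHom) (MulAut.conj n).injective])
        obtain ⟨z, hz, e'⟩ := (e.symm ▸ hy : y ∈ D.S.map (MulAut.conj n).toMonoidHom)
        exact ⟨z, hz, e'⟩
      obtain ⟨z, hz, rfl⟩ := hy'
      rw [conj_mul, conj_mul, D.comm_C (D.S_le hz) (Subgroup.mem_zpowers D.a)]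
    rcases D.Z_cases hz with h | h | h
    · exact absurd (conj_eq_one_iff.1 h) D.ne
    · exact D.mem_C.2 (mul_inv_eq_iff_eq_mul.1 h)
    · exfalso
      obtain ⟨i, hi⟩ : Odd (3 ^ j) := Odd.pow (by decide)
      have h2 := hodd n h i
      have h1 : n ^ (2 * i) = n⁻¹ := eq_inv_of_mul_eq_one_left (by rw [← pow_succ, ← hi, hn3])
      rw [h1, inv_inv] at h2
      have h4 : n * D.a * n⁻¹ = D.a := by
        conv_lhs => rw [← h2]
        group
      rw [h] at h4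
      have h5 : D.a * D.a = 1 := mul_eq_one_iff_eq_inv.2 h4.symm
      have := D.cube
      rw [pow_three', h5, one_mul] at this
      exact D.ne this
  have hX := hn _ (D.J_le_S D.j0_mem)
  rcases (D.mem_S (g := ⟨n, hnC⟩ * ⟨D.j0, D.J_le D.j0_mem⟩ * ⟨n, hnC⟩⁻¹)).1 hX with h | h | h
  · rw [map_mul, map_mul, map_inv, conj_eq_one_iff] at h
    exact absurd h D.X_ne
  all_goals
    rw [map_mul, map_mul, map_inv, ← X] at h
    refine (D.mem_S (g := ⟨n, hnC⟩)).2 (sl_three_part _ _ D.X_cube D.X_ne (by first | exact Or.inl h | exact Or.inr h) ?_)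
    have h24 : D.π ⟨n, hnC⟩ ^ 24 = 1 := by
      rw [show (24 : ℕ) = Nat.card SL23 by rw [Nat.card_eq_fintype_card]; decide +kernel]
      exact pow_card_eq_one'
    have hp : D.π ⟨n, hnC⟩ ^ 3 ^ j = 1 := by
      rw [← map_pow, show (⟨n, hnC⟩ : ↥D.C) ^ 3 ^ j = 1 from Subtype.ext hn3, map_one]
    have h3 : orderOf (D.π ⟨n, hnC⟩) ∣ 3 := by
      refine Nat.Coprime.dvd_of_dvd_mul_left ?_ (show orderOf (D.π ⟨n, hnC⟩) ∣ 8 * 3 from orderOf_dvd_of_pow_eq_one h24)
      exact Nat.Coprime.coprime_dvd_left (orderOf_dvd_of_pow_eq_one hp) (Nat.Coprime.pow_left j (by norm_num))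
    have h9 := orderOf_dvd_iff_pow_eq_one.1 (h3.trans (show 3 ∣ 9 by norm_num))
    rw [show (9 : ℕ) = 3 + 3 + 3 from rfl, pow_add, pow_add, pow_three'] at h9
    exact h9

include D in
theorem card_three_le (P : Subgroup G) (hP : IsPGroup 3 P) : Nat.card P ≤ 81 := by
  haveI : Fact (Nat.Prime 3) := ⟨Nat.prime_three⟩
  by_contra hgt
  obtain ⟨S1, hS1⟩ := IsPGroup.exists_le_sylow (p := 3) D.isPGroup_S
  obtain ⟨S2, hS2⟩ := IsPGroup.exists_le_sylow (p := 3) hP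
  have hS : 81 < Nat.card (S1 : Subgroup G) := by
    rw [S1.card_eq_multiplicity, ← S2.card_eq_multiplicity]
    have := Subgroup.card_le_of_le hS2
    omega
  haveI : Group.IsNilpotent (S1 : Subgroup G) := S1.2.isNilpotent
  have hlt : D.S.subgroupOf (S1 : Subgroup G) < ⊤ := lt_top_iff_ne_top.mpr fun e => by
    rw [Subgroup.subgroupOf_eq_top] at e
    rw [le_antisymm e hS1, D.card_S] at hS
    omega
  obtain ⟨⟨n, hnS⟩, hnn, hnP⟩ := SetLike.exists_of_lt (Group.normalizerCondition_of_isNilpotent _ hlt)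
  obtain ⟨j, hj⟩ := S1.2 ⟨n, hnS⟩
  refine hnP (D.mem_S_of_norm (j := j) (congrArg Subtype.val hj) fun z hz => ?_)
  exact (Subgroup.mem_normalizer_iff.mp hnn ⟨z, hS1 hz⟩).mp hz

/-- The preimage as a Sylow 3-subgroup. -/
noncomputable def sylow : Sylow 3 G where
  toSubgroup := D.S
  isPGroup' := D.isPGroup_S
  is_maximal' {Q} hQ hle := (Subgroup.eq_of_le_of_card_ge hle (by rw [D.card_S]; exact D.card_three_le Q hQ)).symm

/-- A conjugation moving the element into the elementary subgroup is induced by its normaliser. -/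
theorem ctrl_a {g : G} (h : g * D.a * g⁻¹ ∈ D.J) :
    ∃ n ∈ Subgroup.normalizer (D.J : Set G), n * D.a * n⁻¹ = g * D.a * g⁻¹ := by
  have hA : D.J.map (MulAut.conj g⁻¹).toMonoidHom ≤ D.C := by
    rintro _ ⟨u, hu, rfl⟩
    refine D.mem_C.2 ?_
    show g⁻¹ * u * g⁻¹⁻¹ * D.a = D.a * (g⁻¹ * u * g⁻¹⁻¹)
    calc g⁻¹ * u * g⁻¹⁻¹ * D.a = g⁻¹ * (u * (g * D.a * g⁻¹)) * g⁻¹⁻¹ := by group
      _ = g⁻¹ * ((g * D.a * g⁻¹) * u) * g⁻¹⁻¹ := by rw [D.J_comm u hu _ h]
      _ = _ := by group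
  obtain ⟨c, hc, e⟩ := D.conj_to_J hA (by
    rintro _ ⟨u, hu, rfl⟩ _ ⟨v, hv, rfl⟩
    rw [← map_mul, ← map_mul, D.J_comm u hu v hv]) (by
    rintro _ ⟨u, hu, rfl⟩
    rw [← map_pow, D.J_exp u hu, map_one])
    (by rw [Subgroup.card_map_of_injective (f := (MulAut.conj g⁻¹).toMonoidHom) (MulAut.conj g⁻¹).injective, D.J_card])
  refine ⟨g * c⁻¹, ?_, ?_⟩
  · have key : ∀ u, u ∈ D.J ↔ c * g⁻¹ * u * (c * g⁻¹)⁻¹ ∈ D.J := by
      intro u
      constructor
      · intro hu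
        have : c * (g⁻¹ * u * g⁻¹⁻¹) * c⁻¹ ∈ (D.J.map (MulAut.conj g⁻¹).toMonoidHom).map (MulAut.conj c).toMonoidHom :=
          ⟨_, ⟨u, hu, rfl⟩, rfl⟩
        rw [e] at this
        simpa [mul_assoc] using this
      · intro hu
        rw [← e] at hu
        obtain ⟨_, ⟨w, hw, rfl⟩, hwe⟩ := hu
        have e2 : c * g⁻¹ * w * (c * g⁻¹)⁻¹ = c * g⁻¹ * u * (c * g⁻¹)⁻¹ := by
          rw [← hwe]
          show _ = c * (g⁻¹ * w * g⁻¹⁻¹) * c⁻¹
          group
        exact (mul_left_cancel (mul_right_cancel e2) : w = u) ▸ hw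
    have hN : c * g⁻¹ ∈ Subgroup.normalizer (D.J : Set G) := Subgroup.mem_normalizer_iff.2 key
    have := inv_mem hN
    rwa [mul_inv_rev, inv_inv] at this
  · calc g * c⁻¹ * D.a * (g * c⁻¹)⁻¹ = g * (c⁻¹ * D.a * c⁻¹⁻¹) * g⁻¹ := by group
      _ = _ := by rw [D.mem_C.1 (inv_mem hc), mul_inv_cancel_right]

end Setup

end CfsgPSp43Real
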