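import Cfsg.Agent.Lib.PSp43Real.CentQ
import Cfsg.Agent.Lib.Sym9Three.ThreeQuot

/-!
The case of all sign changes: the classes of the involutions of the normalizer and fusion into it.
-/

set_option autoImplicit false
set_option linter.style.haveILetI false
set_option synthInstance.maxSize 4000

namespace CfsgPSp43Real

open CfsgLib.Sym9Three (V3 xv Mon Sub tr rot act rMul inR eType eighth projR g_eq_zero eighth_eq exists_conj_mem
  tr_mem_Sub tr_mul rot_mul mon_split rot_conj_tr act_neg ev)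

/-- A translation moving exactly two blocks. -/
def two (v : V3) : Prop := (v.1 = 0 ∨ v.2.1 = 0 ∨ v.2.2 = 0) ∧ v ≠ 0 ∧ ¬ eType v

instance (v : V3) : Decidable (two v) := by unfold two; infer_instance

theorem three_types : (∀ v : V3, v ≠ 0 → two v ∨ eType v ∨ ∃ r : Fin 48, act r xv = v) ∧
    (∀ v : V3, two v → ∀ r : Fin 48, act r xv ≠ v ∧ act r xv ≠ -v) ∧
    (∀ v : V3, eType v → (∃ r : Fin 48, act r ev = v) ∧ ∀ r : Fin 48, ¬ two (act r v)) ∧
    (∀ r : Fin 48, act r xv ≠ ev) ∧ (∀ v : V3, vsum v = 0 → ¬ eType v) := by decide +kernel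

theorem three_syl :
    (∀ r ∈ ([24, 1, 25] : List (Fin 48)), ∀ n : Mon, n * rot r = rot r * n → eighth (rot n.g) = 1) ∧
    (two ((1, 1, 0) : V3) ∧ ∀ r ∈ ([24, 1, 25] : List (Fin 48)), act r ((1, 1, 0) : V3) = (1, 1, 0)) ∧
    (ev ≠ (0 : V3) ∧ eType ev ∧ act 18 ev = ev) := by decide +kernel

theorem three_sep : (∀ n : Mon, n * rot 1 ≠ rot 24 * n ∧ n * rot 25 ≠ rot 24 * n ∧ n * rot 25 ≠ rot 1 * n ∧
      n * rot 18 ≠ rot 24 * n ∧ n * rot 18 ≠ rot 1 * n ∧ n * rot 18 ≠ rot 25 * n) ∧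
    (∀ v : V3, eType v → act 25 v ≠ v) ∧
    (∀ v : V3, eType v → act 24 v = v → ∃ q : Fin 48, act q ev = v ∧ rot q * rot 6 = rot 24 * rot q) ∧
    (∀ v : V3, eType v → act 1 v = v → ∃ q : Fin 48, act q ev = v ∧ rot q * rot 1 = rot 1 * rot q) := by
  decide +kernel

theorem three_center_invol : (∀ v : V3, vsum v = 0 → v ≠ 0 → v ≠ xv → v ≠ -xv → two v) ∧
    ((rot 4 * rot 4 * rot 4 = 1) ∧ rot 4 * rot 42 = rot 42 * rot 4 ∧ rot 4 * tr xv = tr xv * rot 4) ∧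
    (inKer (rot 4) = true) ∧
    (∀ m : Mon, m * m = 1 → act m.g xv = -xv → ∀ v : V3, two v → vsum v = 0 → act m.g v = v →
      ∃ n : Fin 48, ∃ w : V3, tr w * rot n * m = rot 25 * (tr w * rot n)) := by decide +kernel

universe u

/-- A frame with all sign changes. -/
structure Frame3 (G : Type u) [Group G] extends Frame G where
  k3 : k = 3

namespace Frame3

variable {G : Type u} [Group G] (F : Frame3 G)

theorem all (m : Mon) : m ∈ Sub F.k := by rw [F.k3]; rfl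

/-- The monomial group in the group. -/
def φ : Mon →* G := MonoidHom.mk' F.el fun a b => F.el_mul a (F.all a) b (F.all b)

theorem φ_el (m : Mon) : F.φ m = F.el m := rfl

theorem φ_inj : Function.Injective F.φ := fun a b h => F.el_inj a (F.all a) b (F.all b) h

theorem φ_tr (v : V3) : F.φ (tr v) = F.j v := rfl

theorem φ_comm {a b : Mon} : Commute (F.φ a) (F.φ b) ↔ a * b = b * a := by
  refine ⟨fun h => F.φ_inj ?_, fun h => ?_⟩
  · rw [map_mul, map_mul]; exact h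
  · show F.φ a * F.φ b = F.φ b * F.φ a
    rw [← map_mul, h, map_mul]

theorem φ_conj_j (m : Mon) (v : V3) : F.φ m * F.j v * (F.φ m)⁻¹ = F.j (act m.g v) := F.el_conj (F.all m) v

theorem φ_comm_j {m : Mon} {v : V3} : Commute (F.φ m) (F.j v) ↔ act m.g v = v := by
  refine ⟨fun h => F.j_inj ?_, fun h => mul_inv_eq_iff_eq_mul.1 ?_⟩
  · rw [← F.φ_conj_j, h.eq, mul_inv_cancel_right]
  · rw [F.φ_conj_j, h]

theorem mem_N3 {g : G} : g ∈ F.N ↔ ∃ m, F.φ m = g :=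
  (F.mem_N g).trans ⟨fun ⟨m, _, e⟩ => ⟨m, e⟩, fun ⟨m, e⟩ => ⟨m, F.all m, e⟩⟩

theorem φ_mem (m : Mon) : F.φ m ∈ F.N := F.mem_N3.2 ⟨m, rfl⟩

theorem range_φ : F.φ.range = F.N := Subgroup.ext fun _ => F.mem_N3.symm

theorem φ_sq {r : Fin 48} (h : rot r * rot r = 1) : F.φ (rot r) * F.φ (rot r) = 1 := by rw [← map_mul, h, map_one]

theorem φ_ne_one {m : Mon} (h : m ≠ 1) : F.φ m ≠ 1 := fun e => h (F.φ_inj (e.trans (map_one _).symm))

theorem φ_conj_eq {n a b : Mon} (h : n * a = b * n) : F.φ n * F.φ a * (F.φ n)⁻¹ = F.φ b := by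
  rw [← map_mul, h, map_mul, mul_inv_cancel_right]

variable [Finite G]

theorem good_two {v : V3} (hv : two v) : F.Good v :=
  F.good hv.2.1 (fun r _ => three_types.2.1 v hv r) fun _ => hv.2.2

theorem not_conj_a {g : G} {v : V3} (hv : ∀ r : Fin 48, act r xv ≠ v) : g * F.D.a * g⁻¹ ≠ F.j v := fun h => by
  obtain ⟨r, -, e⟩ := F.conj_a_J (g := g) (h ▸ F.j_mem v)
  exact hv r (F.j_inj (e.symm.trans h))

theorem ev_to_a {g : G} {r : Fin 48} : g * F.j ev * g⁻¹ ≠ F.j (act r xv) := fun h => by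
  refine F.not_conj_a (g := g⁻¹ * F.φ (rot r)) three_types.2.2.2.1 ?_
  rw [show F.D.a = F.j xv from F.el_x.symm]
  calc g⁻¹ * F.φ (rot r) * F.j xv * (g⁻¹ * F.φ (rot r))⁻¹ = g⁻¹ * (F.φ (rot r) * F.j xv * (F.φ (rot r))⁻¹) * g := by
        group
    _ = F.j ev := by rw [F.φ_conj_j, ← h]; group

omit [Finite G] in
theorem g_zero {m : Mon} (h8 : eighth (rot m.g) = 1) (h : ∃ n : ℕ, F.φ m ^ 3 ^ n = 1) : m = tr m.v := by
  obtain ⟨n, hn⟩ := h
  have e := congrArg projR (F.φ_inj ((map_pow F.φ m _).trans (hn.trans (map_one F.φ).symm)))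
  rw [map_pow, map_one] at e
  have h0 := g_eq_zero (m := m) e (by rw [← eighth_eq]; exact h8)
  conv_lhs => rw [mon_split m, h0, show rot 0 = (1 : Mon) from rfl, mul_one]

/-- The elements of three-power order centralising the involution are conjugate into the translations. -/
theorem cent_three {r : Fin 48} (hr : r ∈ ([24, 1, 25] : List (Fin 48))) {y : G} (hy : Commute y (F.φ (rot r)))
    (hp : ∃ n : ℕ, y ^ 3 ^ n = 1) :
    ∃ c, Commute c (F.φ (rot r)) ∧ ∃ v, act r v = v ∧ c * y * c⁻¹ = F.j v := by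
  obtain ⟨X, hX⟩ : ∃ X, X = Subgroup.centralizer ({F.φ (rot r)} : Set G) := ⟨_, rfl⟩
  have hmem : ∀ g, g ∈ X ↔ Commute g (F.φ (rot r)) := fun g => by
    rw [hX, Subgroup.mem_centralizer_singleton_iff]; rfl
  have hw := three_syl.2.1.1
  have hfix := three_syl.2.1.2 r hr
  obtain ⟨c, hc, hcy⟩ := exists_conj_mem X (F.D.J ⊓ X) inf_le_right
    (fun z => ⟨1, by rw [pow_one]; exact Subtype.ext (F.D.J_exp z z.2.1)⟩)
    (fun z hz hzN hzp => by
      have hB : F.j (1, 1, 0) ∈ F.D.J ⊓ X := ⟨F.j_mem _, (hmem _).2 (F.φ_comm_j.2 hfix).symm⟩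
      obtain ⟨v, hv⟩ := (F.mem_J _).1 ((Subgroup.mem_normalizer_iff.1 hzN _).1 hB).1
      obtain ⟨m, rfl⟩ := F.mem_N3.1 (F.ctrl_source (F.good_two hw) hv.symm)
      have h8 := three_syl.1 r hr m (F.φ_comm.1 ((hmem _).1 hz))
      refine ⟨?_, hz⟩
      rw [F.g_zero h8 hzp]
      exact F.j_mem _)
    ((hmem y).2 hy) hp
  obtain ⟨v, hv⟩ := (F.mem_J _).1 hcy.1
  refine ⟨c, (hmem c).1 hc, v, ?_, hv.symm⟩
  refine (F.φ_comm_j (m := rot r) (v := v)).1 (Commute.symm ?_)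
  rw [show F.j v = c * y * c⁻¹ from hv]
  exact (hmem _).1 hcy.2

theorem conj_in_J {r r' : Fin 48} (hr : r ∈ ([24, 1, 25] : List (Fin 48))) {g : G} {w : V3} (hw : act r' w = w)
    (h : g * F.φ (rot r') * g⁻¹ = F.φ (rot r)) :
    ∃ c v, act r v = v ∧ c * F.j w * c⁻¹ = F.j v ∧ c * F.φ (rot r') * c⁻¹ = F.φ (rot r) := by
  obtain ⟨c, hc, v, hv, e⟩ := F.cent_three hr (y := g * F.j w * g⁻¹)
    (h ▸ (F.φ_comm_j.2 hw).symm.conj g) ⟨1, by rw [pow_one, conj_pow, F.j_cube, mul_one, mul_inv_cancel]⟩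
  refine ⟨c * g, v, hv, by rw [← e]; group, ?_⟩
  calc c * g * F.φ (rot r') * (c * g)⁻¹ = c * (g * F.φ (rot r') * g⁻¹) * c⁻¹ := by group
    _ = F.φ (rot r) := by rw [h, hc.eq, mul_inv_cancel_right]

theorem not_conj_of_good {r r' : Fin 48} (hr : r ∈ ([24, 1, 25] : List (Fin 48)))
    (hw : act r' ((1, 1, 0) : V3) = (1, 1, 0)) (hsep : ∀ n : Mon, n * rot r' ≠ rot r * n) (g : G) :
    g * F.φ (rot r') * g⁻¹ ≠ F.φ (rot r) := fun h => by
  obtain ⟨c, v, -, e, ec⟩ := F.conj_in_J hr hw h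
  obtain ⟨n, rfl⟩ := F.mem_N3.1 (F.ctrl_source (F.good_two three_syl.2.1.1) e)
  rw [← map_inv, ← map_mul, ← map_mul] at ec
  exact hsep n (mul_inv_eq_iff_eq_mul.1 (F.φ_inj ec))

/-- The classes of the first three involutions differ. -/
theorem sep_three (g : G) : g * F.φ (rot 1) * g⁻¹ ≠ F.φ (rot 24) ∧ g * F.φ (rot 25) * g⁻¹ ≠ F.φ (rot 24) ∧
    g * F.φ (rot 25) * g⁻¹ ≠ F.φ (rot 1) :=
  ⟨F.not_conj_of_good (by simp) (three_syl.2.1.2 1 (by simp)) (fun n => (three_sep.1 n).1) g,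
    F.not_conj_of_good (by simp) (three_syl.2.1.2 25 (by simp)) (fun n => (three_sep.1 n).2.1) g,
    F.not_conj_of_good (by simp) (three_syl.2.1.2 25 (by simp)) (fun n => (three_sep.1 n).2.2.1) g⟩

/-- The product of two sign changes is not conjugate to the other classes. -/
theorem sep_s (hE : ∀ g : G, Commute g (F.j ev) → g * F.φ (rot 18) * g⁻¹ ≠ F.φ (rot 6) ∧
      g * F.φ (rot 18) * g⁻¹ ≠ F.φ (rot 1)) (g : G) :
    g * F.φ (rot 18) * g⁻¹ ≠ F.φ (rot 24) ∧ g * F.φ (rot 18) * g⁻¹ ≠ F.φ (rot 1) ∧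
      g * F.φ (rot 18) * g⁻¹ ≠ F.φ (rot 25) := by
  have key : ∀ r ∈ ([24, 1, 25] : List (Fin 48)), g * F.φ (rot 18) * g⁻¹ = F.φ (rot r) →
      (∀ n : Mon, n * rot 18 ≠ rot r * n) → ∃ v, ∃ h : G, act r v = v ∧ eType v ∧ h * F.j ev * h⁻¹ = F.j v ∧
        h * F.φ (rot 18) * h⁻¹ = F.φ (rot r) := by
    intro r hr h hsep
    obtain ⟨c, v, hv, e, ec⟩ := F.conj_in_J hr three_syl.2.2.2.2 h
    have hv0 : v ≠ 0 := fun e0 => F.j_ne_one three_syl.2.2.1 (by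
      rw [e0, F.j_zero, conj_eq_one_iff] at e; exact e)
    rcases three_types.1 v hv0 with h2 | h2 | ⟨q, rfl⟩
    · obtain ⟨n, rfl⟩ := F.mem_N3.1 (F.ctrl_target (F.good_two h2) e)
      rw [← map_inv, ← map_mul, ← map_mul] at ec
      exact absurd (mul_inv_eq_iff_eq_mul.1 (F.φ_inj ec)) (hsep n)
    · exact ⟨v, c, hv, h2, e, ec⟩
    · exact absurd e F.ev_to_a
  have fin : ∀ {r r' : Fin 48} {v : V3} {h : G} {q : Fin 48}, act q ev = v → rot q * rot r' = rot r * rot q →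
      h * F.j ev * h⁻¹ = F.j v → h * F.φ (rot 18) * h⁻¹ = F.φ (rot r) →
        ∃ c, Commute c (F.j ev) ∧ c * F.φ (rot 18) * c⁻¹ = F.φ (rot r') := by
    intro r r' v h q hq hqr e ec
    refine ⟨(F.φ (rot q))⁻¹ * h, mul_inv_eq_iff_eq_mul.1 ?_, ?_⟩
    · calc (F.φ (rot q))⁻¹ * h * F.j ev * ((F.φ (rot q))⁻¹ * h)⁻¹
          = (F.φ (rot q))⁻¹ * (h * F.j ev * h⁻¹) * F.φ (rot q) := by group
        _ = F.j ev := by rw [e, ← hq, ← F.φ_conj_j (rot q)]; group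
    · calc (F.φ (rot q))⁻¹ * h * F.φ (rot 18) * ((F.φ (rot q))⁻¹ * h)⁻¹
          = (F.φ (rot q))⁻¹ * (h * F.φ (rot 18) * h⁻¹) * F.φ (rot q) := by group
        _ = F.φ (rot r') := by
          rw [ec, ← map_inv, ← map_mul, ← map_mul]
          congr 1
          rw [mul_assoc, ← hqr, inv_mul_cancel_left]
  refine ⟨fun h => ?_, fun h => ?_, fun h => ?_⟩
  · obtain ⟨v, c, hv, he, e, ec⟩ := key 24 (by simp) h fun n => (three_sep.1 n).2.2.2.1
    obtain ⟨q, hq, hqr⟩ := three_sep.2.2.1 v he hv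
    obtain ⟨d, hd, ed⟩ := fin hq hqr e ec
    exact (hE d hd).1 ed
  · obtain ⟨v, c, hv, he, e, ec⟩ := key 1 (by simp) h fun n => (three_sep.1 n).2.2.2.2.1
    obtain ⟨q, hq, hqr⟩ := three_sep.2.2.2 v he hv
    obtain ⟨d, hd, ed⟩ := fin hq hqr e ec
    exact (hE d hd).2 ed
  · obtain ⟨v, c, hv, he, -, -⟩ := key 25 (by simp) h fun n => (three_sep.1 n).2.2.2.2.2
    exact three_sep.2.1 v he hv

/-- The change of all signs is conjugate to the product of the exchange and one sign change. -/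
theorem all_signs_conj : ∃ g, g * F.φ (rot 42) * g⁻¹ = F.φ (rot 25) := by
  obtain ⟨hsum, ⟨h43, h442, h4x⟩, h4k, hconj⟩ := three_center_invol
  obtain ⟨c, hc, hcJ⟩ := F.conj_R_into_J (F.el_mem_R h4k)
  have hcR := F.D.conj_R hc (F.el_mem_R h4k)
  obtain ⟨v, hv⟩ := (F.mem_J _).1 hcJ
  have hv' : F.j v = c * F.φ (rot 4) * c⁻¹ := hv
  have hs : vsum v = 0 := (F.j_mem_R_iff v).1 (by rw [hv]; exact hcR)
  have hca : Commute c (F.j xv) := by
    show c * F.el (tr xv) = F.el (tr xv) * c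
    rw [F.el_x]; exact F.D.mem_C.1 hc
  have hback : F.φ (rot 4) = c⁻¹ * F.j v * c := by rw [hv']; group
  have hne : ∀ d : ℕ, F.j v ≠ F.j xv ^ d := fun d e => by
    have h0 : rot 4 = tr (d • xv) := F.φ_inj (by
      rw [F.φ_tr, F.j_smul, hback, e, mul_assoc, ← (hca.pow_right d).eq, inv_mul_cancel_left])
    exact absurd (congrArg Mon.g h0) (show (4 : Fin 48) ≠ 0 by decide)
  have hv2 : two v := hsum v hs (fun e => hne 0 (by rw [e, F.j_zero, pow_zero]))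
    (fun e => hne 1 (by rw [e, pow_one]))
    (fun e => hne 2 (by rw [e, ← F.j_smul]; congr 1))
  obtain ⟨x, hx⟩ : ∃ x, x = c * F.φ (rot 42) * c⁻¹ := ⟨_, rfl⟩
  have hxv : Commute x (F.j v) := by
    rw [hx, hv']
    exact ((F.φ_comm.2 h442).conj c).symm
  obtain ⟨m, hm⟩ := F.mem_N3.1 (F.good_two hv2 x hxv.eq)
  have hmm : m * m = 1 := F.φ_inj (by
    rw [map_mul, hm, hx, conj_mul, F.φ_sq (by decide +kernel), mul_one, mul_inv_cancel, map_one])
  have hmx : act m.g xv = -xv := F.j_inj (by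
    have e : act (42 : Fin 48) xv = -xv := by decide
    have hci : c⁻¹ * F.j xv * c = F.j xv := by rw [mul_assoc, ← hca.eq, inv_mul_cancel_left]
    rw [← F.φ_conj_j, hm, hx,
      show c * F.φ (rot 42) * c⁻¹ * F.j xv * (c * F.φ (rot 42) * c⁻¹)⁻¹ =
        c * (F.φ (rot 42) * (c⁻¹ * F.j xv * c) * (F.φ (rot 42))⁻¹) * c⁻¹ by group,
      hci, F.φ_conj_j, show ((rot 42).g) = 42 from rfl, e, F.j_neg, ← conj_inv, hca.eq, mul_inv_cancel_right])
  obtain ⟨n, w, hn⟩ := hconj m hmm hmx v hv2 hs (F.φ_comm_j.1 (hm ▸ hxv))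
  refine ⟨F.φ (tr w * rot n) * c, ?_⟩
  calc F.φ (tr w * rot n) * c * F.φ (rot 42) * (F.φ (tr w * rot n) * c)⁻¹
      = F.φ (tr w * rot n) * x * (F.φ (tr w * rot n))⁻¹ := by rw [hx]; group
    _ = F.φ (rot 25) := by rw [← hm]; exact F.φ_conj_eq hn

end Frame3

end CfsgPSp43Real
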